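import Groth.Agent.Coherent.ProperFinite
import Groth.Agent.Coherent.Vanishing
import Groth.Prelude.Def_CurvBase
import Mathlib.RingTheory.Length

/-!
# Additivity of the Euler characteristic of coherent modules on proper schemes
-/

set_option autoImplicit false
set_option linter.unusedSectionVars false
set_option linter.style.haveILetI false

universe u

open CategoryTheory CategoryTheory.Abelian CategoryTheory.Limits AlgebraicGeometry Opposite
  TopologicalSpace

namespace Groth.Agent.EulerLib

open Groth.Agent.Coherent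

section les

variable {A : Type u} [CommRing A]

theorem toNat_length_split {M N : Type u} [AddCommGroup M] [Module A M] [AddCommGroup N] [Module A N]
    [IsNoetherian A M] [IsArtinian A M] (g : M →ₗ[A] N) :
    ((Module.length A M).toNat : ℤ) =
      ((Module.length A (LinearMap.ker g)).toNat : ℤ) + ((Module.length A (LinearMap.range g)).toNat : ℤ) := by
  have h := Module.length_eq_add_of_exact (LinearMap.ker g).subtype g.rangeRestrict
    Subtype.coe_injective (LinearMap.surjective_rangeRestrict g)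
    (LinearMap.exact_iff.2 (by rw [LinearMap.ker_rangeRestrict, Submodule.range_subtype]))
  have h1 : Module.length A M ≠ ⊤ := Module.length_ne_top
  rw [h] at h1 ⊢
  rw [ENat.toNat_add (fun e => h1 (by rw [e, top_add])) (fun e => h1 (by rw [e, add_top]))]
  push_cast
  rfl

theorem alternating_sum_telescope (N : ℕ) (a b c t : ℕ → ℤ) (h0 : b 0 + t 0 = a 0 + c 0)
    (hs : ∀ q, b (q + 1) + t q + t (q + 1) = a (q + 1) + c (q + 1)) :
    (∑ q ∈ Finset.range (N + 1), (-1 : ℤ) ^ q * b q) + (-1) ^ N * t N =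
      (∑ q ∈ Finset.range (N + 1), (-1 : ℤ) ^ q * a q) + ∑ q ∈ Finset.range (N + 1), (-1 : ℤ) ^ q * c q := by
  induction N with
  | zero => simpa using h0
  | succ N ih =>
    rw [Finset.sum_range_succ _ (N + 1), Finset.sum_range_succ _ (N + 1), Finset.sum_range_succ _ (N + 1)]
    have := hs N
    rw [pow_succ]
    linear_combination ih - (-1 : ℤ) ^ N * this

variable (P Q S : ℕ → Type u) [∀ q, AddCommGroup (P q)] [∀ q, Module A (P q)]
  [∀ q, AddCommGroup (Q q)] [∀ q, Module A (Q q)] [∀ q, AddCommGroup (S q)] [∀ q, Module A (S q)]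

/-- Lengths in a long exact sequence. -/
theorem length_les [∀ q, IsNoetherian A (P q)] [∀ q, IsArtinian A (P q)] [∀ q, IsNoetherian A (Q q)]
    [∀ q, IsArtinian A (Q q)] [∀ q, IsNoetherian A (S q)] [∀ q, IsArtinian A (S q)]
    (f : ∀ q, P q →ₗ[A] Q q) (g : ∀ q, Q q →ₗ[A] S q) (δ : ∀ q, S q →ₗ[A] P (q + 1))
    (hinj : Function.Injective (f 0)) (h1 : ∀ q, Function.Exact (f q) (g q))
    (h2 : ∀ q, Function.Exact (g q) (δ q)) (h3 : ∀ q, Function.Exact (δ q) (f (q + 1)))
    (N : ℕ) (hN : Subsingleton (P (N + 1))) :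
    (∑ q ∈ Finset.range (N + 1), (-1 : ℤ) ^ q * ((Module.length A (Q q)).toNat : ℤ)) =
      (∑ q ∈ Finset.range (N + 1), (-1 : ℤ) ^ q * ((Module.length A (P q)).toNat : ℤ)) +
        ∑ q ∈ Finset.range (N + 1), (-1 : ℤ) ^ q * ((Module.length A (S q)).toNat : ℤ) := by
  have hs : ∀ q, ((Module.length A (Q q)).toNat : ℤ) + ((Module.length A (LinearMap.range (δ q))).toNat : ℤ)
      + ((Module.length A (LinearMap.ker (f q))).toNat : ℤ) =
      ((Module.length A (P q)).toNat : ℤ) + ((Module.length A (S q)).toNat : ℤ) := by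
    intro q
    have e1 := toNat_length_split (f q)
    have e2 := toNat_length_split (g q)
    have e3 := toNat_length_split (δ q)
    rw [LinearMap.exact_iff.1 (h1 q)] at e2
    rw [LinearMap.exact_iff.1 (h2 q)] at e3
    omega
  have hzero : ∀ {M : Type u} [AddCommGroup M] [Module A M], Subsingleton M →
      ((Module.length A M).toNat : ℤ) = 0 := by
    intro M _ _ hM
    rw [Module.length_eq_zero]
    rfl
  have := alternating_sum_telescope N (fun q => ((Module.length A (P q)).toNat : ℤ))
    (fun q => ((Module.length A (Q q)).toNat : ℤ)) (fun q => ((Module.length A (S q)).toNat : ℤ))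
    (fun q => ((Module.length A (LinearMap.range (δ q))).toNat : ℤ)) ?_ ?_
  · rw [← this, hzero (M := LinearMap.range (δ N))
      ⟨fun x y => Subtype.ext (Subsingleton.elim (x : P (N + 1)) y)⟩]
    ring
  · have := hs 0
    rw [LinearMap.ker_eq_bot.2 hinj, hzero (M := (⊥ : Submodule A (P 0))) inferInstance] at this
    omega
  · intro q
    have := hs (q + 1)
    rw [LinearMap.exact_iff.1 (h3 q)] at this
    omega

end les

variable {X : Scheme.{u}}

/-- `HH` with the base action, linearly. -/
noncomputable def HHBaseEquiv (A : Type u) [CommRing A] [X.Over (Spec (CommRingCat.of A))] (M : X.Modules)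
    (q : ℕ) : Coh.HH X M q ≃ₗ[A] HA (baseHom A X) M (⊤ : X.Opens) q :=
  { (HHLinEquiv M q).toAddEquiv with
    map_smul' := fun a x => (HHLinEquiv M q).map_smul (baseHom A X a) x }

theorem postA_zero_injective {A : Type u} [CommRing A] (φ : A →+* Γ(X, ⊤)) {S : ShortComplex X.Modules}
    (hS : S.ShortExact) (U : X.Opens) : Function.Injective (postA φ S.f U 0) := by
  refine (injective_iff_map_eq_zero _).2 fun x hx => ?_
  haveI : Mono ((toAbFunctor X).map S.f) := (toAb_shortExact hS).mono_f
  let y : Ext (freeSh (X := X.toTopCat) U) (Coh.toAb S.X₁) 0 := x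
  obtain ⟨f, hf⟩ := (Ext.mk₀_bijective _ _).2 y
  have h : (Ext.mk₀ (f ≫ (toAbFunctor X).map S.f) : Ext _ _ 0) = 0 := by
    rw [← Ext.mk₀_comp_mk₀, hf]
    exact hx
  have h2 : f ≫ (toAbFunctor X).map S.f = 0 := (Ext.mk₀_bijective _ _).1 (h.trans (Ext.mk₀_zero _ _).symm)
  show y = 0
  rw [← hf, (cancel_mono ((toAbFunctor X).map S.f)).1 (h2.trans zero_comp.symm), Ext.mk₀_zero]

/-- Additivity of the alternating sum of lengths. -/
theorem length_sum_additive (A : Type u) [CommRing A] [IsArtinianRing A] [X.Over (Spec (CommRingCat.of A))]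
    [IsProper (X ↘ Spec (CommRingCat.of A))] (S : ShortComplex X.Modules) (hS : S.ShortExact)
    (h1 : Coh.IsCoh S.X₁) (h2 : Coh.IsCoh S.X₂) (h3 : Coh.IsCoh S.X₃) (N : ℕ)
    (hN : Subsingleton (Coh.HH X S.X₁ (N + 1))) :
    ((Finset.range (N + 1)).sum fun i => (-1 : ℤ) ^ i * ((Module.length A (Coh.HH X S.X₂ i)).toNat : ℤ)) =
      ((Finset.range (N + 1)).sum fun i => (-1 : ℤ) ^ i * ((Module.length A (Coh.HH X S.X₁ i)).toNat : ℤ)) +
      ((Finset.range (N + 1)).sum fun i => (-1 : ℤ) ^ i * ((Module.length A (Coh.HH X S.X₃ i)).toNat : ℤ)) := by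
  simp only [(HHBaseEquiv A _ _).length_eq]
  have hf := fun {M : X.Modules} (hM : Coh.IsCoh M) (q : ℕ) =>
    finCoh_of_isProper (X ↘ Spec (CommRingCat.of A)) M hM q
  haveI hf1 := hf h1
  haveI hf2 := hf h2
  haveI hf3 := hf h3
  haveI hN' : Subsingleton (HA (baseHom A X) S.X₁ (⊤ : X.Opens) (N + 1)) :=
    (HHBaseEquiv A S.X₁ (N + 1)).symm.toEquiv.subsingleton
  exact length_les _ _ _ (fun q => postA (baseHom A X) S.f ⊤ q) (fun q => postA (baseHom A X) S.g ⊤ q)
    (fun q => deltaA (baseHom A X) hS ⊤ q) (postA_zero_injective _ hS ⊤) (exact_postA _ hS ⊤)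
    (exact_postA_deltaA _ hS ⊤) (exact_deltaA_postA _ hS ⊤) N hN'

/-- Vanishing of cohomology of quasi-coherent modules above a bound. -/
theorem exists_bound_HH (k : Type u) [Field k] (X : Scheme.{u}) [X.Over (Spec (CommRingCat.of k))]
    [IsProper (X ↘ Spec (CommRingCat.of k))] :
    ∃ d, ∀ (M : X.Modules), Coh.IsQCoh M → ∀ q, d ≤ q → Subsingleton (Coh.HH X M q) := by
  haveI : CompactSpace X := QuasiCompact.compactSpace_of_compactSpace (X ↘ Spec (CommRingCat.of k))
  haveI : QuasiSeparatedSpace X := quasiSeparatedSpace_of_quasiSeparated (X ↘ Spec (CommRingCat.of k))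
  obtain ⟨d, hd⟩ := exists_bound_subsingleton_H'_top (X := X)
  exact ⟨d, fun M hM q hq => haveI := hd M hM q hq; (HHTopEquiv M q).toEquiv.subsingleton⟩

theorem euler_eq_sum (k : Type u) [Field k] (X : Scheme.{u}) [X.Over (Spec (CommRingCat.of k))]
    (M : X.Modules) (N : ℕ) (hN : ∀ q, N < q → Subsingleton (Coh.HH X M q)) :
    Curv2.euler k X M = ∑ q ∈ Finset.range (N + 1), (-1 : ℤ) ^ q * (Module.finrank k (Coh.HH X M q) : ℤ) :=
  finsum_eq_sum_of_support_subset _ fun q hq => by
    by_contra h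
    haveI := hN q (by simpa [Nat.lt_succ_iff] using h)
    refine hq ?_
    show (-1 : ℤ) ^ q * (Module.finrank k (Coh.HH X M q) : ℤ) = 0
    rw [Module.finrank_zero_of_subsingleton]
    simp

/-- Additivity of the Euler characteristic. -/
theorem euler_additive (k : Type u) [Field k] (X : Scheme.{u}) [X.Over (Spec (CommRingCat.of k))]
    [IsProper (X ↘ Spec (CommRingCat.of k))] (S : ShortComplex X.Modules) (hS : S.ShortExact)
    (h1 : Coh.IsCoh S.X₁) (h2 : Coh.IsCoh S.X₂) (h3 : Coh.IsCoh S.X₃) :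
    Curv2.euler k X S.X₂ = Curv2.euler k X S.X₁ + Curv2.euler k X S.X₃ := by
  obtain ⟨d, hd⟩ := exists_bound_HH k X
  have h := length_sum_additive k S hS h1 h2 h3 d (hd _ h1.1 _ (Nat.le_succ d))
  have hl : ∀ (M : X.Modules), Coh.IsCoh M → ∀ q,
      ((Module.length k (Coh.HH X M q)).toNat : ℤ) = (Module.finrank k (Coh.HH X M q) : ℤ) := by
    intro M hM q
    haveI : Module.Finite k (Coh.HH X M q) :=
      (finite_HH_iff k M q).2 (finCoh_of_isProper (X ↘ Spec (CommRingCat.of k)) M hM q)
    rw [Module.length_eq_finrank, ENat.toNat_natCast]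
  simp only [hl _ h1, hl _ h2, hl _ h3] at h
  rw [euler_eq_sum k X _ d fun q hq => hd _ h2.1 q hq.le, euler_eq_sum k X _ d fun q hq => hd _ h1.1 q hq.le,
    euler_eq_sum k X _ d fun q hq => hd _ h3.1 q hq.le]
  exact h

/-- Isomorphic modules have the same Euler characteristic. -/
theorem euler_congr (k : Type u) [Field k] (X : Scheme.{u}) [X.Over (Spec (CommRingCat.of k))]
    {M N : X.Modules} (e : M ≅ N) : Curv2.euler k X M = Curv2.euler k X N :=
  finsum_congr fun q => by
    rw [((HHBaseEquiv k M q).trans ((isoA _ e ⊤ q).trans (HHBaseEquiv k N q).symm)).finrank_eq]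

/-- The Euler characteristic of a zero module. -/
theorem euler_of_isZero (k : Type u) [Field k] (X : Scheme.{u}) [X.Over (Spec (CommRingCat.of k))]
    {M : X.Modules} (h : IsZero M) : Curv2.euler k X M = 0 := by
  refine finsum_eq_zero_of_forall_eq_zero fun q => ?_
  have hzero : Subsingleton (Coh.HH X M q) := by
    haveI : Subsingleton (HA (baseHom k X) M (⊤ : X.Opens) q) := subsingleton_of_forall_eq 0 fun x => by
      have e : postHM (𝟙 M) q (⊤ : X.Opens) x = x := postHM_id M q _ x
      rw [h.eq_of_src (𝟙 M) 0] at e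
      exact e.symm.trans (postHM_zero q _ x)
    exact (HHBaseEquiv k M q).toEquiv.subsingleton
  rw [Module.finrank_zero_of_subsingleton]
  simp

end Groth.Agent.EulerLib
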