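import Groth.Agent.AmpleLib.Twist2
import Groth.Agent.ModStalk.Exact
import Groth.Agent.Coherent.DevissageTwoThree

/-!
# Twisting by invertible modules is exact and preserves coherence and support
-/

set_option autoImplicit false
set_option linter.style.haveILetI false
set_option backward.isDefEq.respectTransparency.types false

universe u

open CategoryTheory CategoryTheory.Limits AlgebraicGeometry Opposite TopologicalSpace
open Groth.Agent.Coherent Groth.Agent.PicLib Groth.Agent.AmpleLib

namespace Groth.Agent.EulerLib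

variable {X : Scheme.{u}}

local notation "St" => DerSch.stalkFunctor X

section Stalk

variable {L : X.Modules} {W : X.Opens} (g : Γ(L, W)) {y : X} (hy : y ∈ W)

/-- The stalk of a module twisted by an invertible module, through a generator. -/
noncomputable def twistStalk (F : X.Modules) (u : F.presheaf.stalk y) :
    (CohB1.tensorMod F L).presheaf.stalk y :=
  let V := (F.presheaf.exists_germ_eq u).choose
  let h := (F.presheaf.exists_germ_eq u).choose_spec
  (CohB1.tensorMod F L).presheaf.germ (V ⊓ W) y ⟨h.choose, hy⟩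
    (tmul (resM F inf_le_left h.choose_spec.choose) (resM L inf_le_right g))

theorem twistVal_congr (F : X.Modules) (V V' : X.Opens) (hV : y ∈ V) (hV' : y ∈ V') (t : Γ(F, V)) (s : Γ(F, V'))
    (h : F.presheaf.germ V y hV t = F.presheaf.germ V' y hV' s) :
    (CohB1.tensorMod F L).presheaf.germ (V ⊓ W) y ⟨hV, hy⟩ (tmul (resM F inf_le_left t) (resM L inf_le_right g)) =
      (CohB1.tensorMod F L).presheaf.germ (V' ⊓ W) y ⟨hV', hy⟩
        (tmul (resM F inf_le_left s) (resM L inf_le_right g)) := by
  obtain ⟨T, hT, iT, iT', e⟩ := TopCat.Presheaf.germ_eq F.presheaf y hV hV' _ _ h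
  have h1 : T ⊓ W ≤ V ⊓ W := inf_le_inf_right W iT.le
  have h2 : T ⊓ W ≤ V' ⊓ W := inf_le_inf_right W iT'.le
  have hy' : y ∈ T ⊓ W := ⟨hT, hy⟩
  erw [← TopCat.Presheaf.germ_res_apply (CohB1.tensorMod F L).presheaf (homOfLE h1) y hy',
    ← TopCat.Presheaf.germ_res_apply (CohB1.tensorMod F L).presheaf (homOfLE h2) y hy']
  congr 1
  show resM _ h1 (tmul _ _) = resM _ h2 (tmul _ _)
  rw [resM_tmul, resM_tmul, resM_resM, resM_resM, resM_resM, resM_resM]
  have e' : resM F iT.le t = resM F iT'.le s := e
  rw [← resM_resM F iT.le (inf_le_left : T ⊓ W ≤ T), e', resM_resM]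

theorem twistStalk_germ (F : X.Modules) (V : X.Opens) (hV : y ∈ V) (s : Γ(F, V)) :
    twistStalk g hy F (F.presheaf.germ V y hV s) =
      (CohB1.tensorMod F L).presheaf.germ (V ⊓ W) y ⟨hV, hy⟩
        (tmul (resM F inf_le_left s) (resM L inf_le_right g)) :=
  twistVal_congr g hy F _ V _ hV _ s
    (F.presheaf.exists_germ_eq (F.presheaf.germ V y hV s)).choose_spec.choose_spec.choose_spec

theorem twistStalk_natural {F F' : X.Modules} (φ : F ⟶ F') (u : F.presheaf.stalk y) :
    twistStalk g hy F' ((St y).map φ u) = (St y).map (tensorMap φ (𝟙 L)) (twistStalk g hy F u) := by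
  obtain ⟨V, hV, s, rfl⟩ := F.presheaf.exists_germ_eq u
  erw [stalk_map_germ, twistStalk_germ, twistStalk_germ, stalk_map_germ]
  congr 1
  rw [tensorMap_tmul, ← app_resM]
  rfl

theorem twistStalk_zero (F : X.Modules) : twistStalk g hy F 0 = 0 := by
  have h := twistStalk_germ g hy F W hy 0
  rw [map_zero, map_zero, tmul_zero_left, map_zero] at h
  exact h

theorem twistStalk_add (F : X.Modules) (u v : F.presheaf.stalk y) :
    twistStalk g hy F (u + v) = twistStalk g hy F u + twistStalk g hy F v := by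
  obtain ⟨U, hU, s, rfl⟩ := F.presheaf.exists_germ_eq u
  obtain ⟨V, hV, t, rfl⟩ := F.presheaf.exists_germ_eq v
  have hy' : y ∈ U ⊓ V := ⟨hU, hV⟩
  erw [← TopCat.Presheaf.germ_res_apply F.presheaf (homOfLE (inf_le_left : U ⊓ V ≤ U)) y hy' s,
    ← TopCat.Presheaf.germ_res_apply F.presheaf (homOfLE (inf_le_right : U ⊓ V ≤ V)) y hy' t,
    ← map_add, twistStalk_germ, twistStalk_germ, twistStalk_germ, ← map_add]
  refine congrArg _ ?_
  rw [map_add, tmul_add_left]

theorem twistStalk_smul (F : X.Modules) (r : X.presheaf.stalk y) (u : F.presheaf.stalk y) :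
    twistStalk g hy F (r • u) = r • twistStalk g hy F u := by
  obtain ⟨U, hU, s, rfl⟩ := F.presheaf.exists_germ_eq u
  obtain ⟨V, hV, c, rfl⟩ := X.presheaf.exists_germ_eq r
  have hy' : y ∈ U ⊓ V := ⟨hU, hV⟩
  erw [← TopCat.Presheaf.germ_res_apply F.presheaf (homOfLE (inf_le_left : U ⊓ V ≤ U)) y hy' s,
    ← TopCat.Presheaf.germ_res_apply X.presheaf (homOfLE (inf_le_right : U ⊓ V ≤ V)) y hy' c,
    ← QCohLoc.germ_smul' F, twistStalk_germ, twistStalk_germ,
    ← TopCat.Presheaf.germ_res_apply X.presheaf (homOfLE (inf_le_left : (U ⊓ V) ⊓ W ≤ U ⊓ V)) y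
      ⟨hy', hy⟩ (X.presheaf.map (homOfLE (inf_le_right : U ⊓ V ≤ V)).op c),
    ← QCohLoc.germ_smul' (CohB1.tensorMod F L)]
  refine congrArg _ ?_
  rw [resM_smul, tmul_smul_left]

variable {g}

theorem twistStalk_injective (hg : IsGen L W g) (F : X.Modules) :
    Function.Injective (twistStalk g hy F) := by
  intro u v huv
  obtain ⟨V, hV, s, rfl⟩ := F.presheaf.exists_germ_eq u
  obtain ⟨V', hV', t, rfl⟩ := F.presheaf.exists_germ_eq v
  erw [twistStalk_germ, twistStalk_germ] at huv
  obtain ⟨T, hT, iT, iT', e⟩ :=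
    TopCat.Presheaf.germ_eq (CohB1.tensorMod F L).presheaf y _ _ _ _ huv
  have e' : resM _ iT.le (tmul (resM F inf_le_left s) (resM L inf_le_right g)) =
      resM _ iT'.le (tmul (resM F inf_le_left t) (resM L inf_le_right g)) := e
  rw [resM_tmul, resM_tmul, resM_resM, resM_resM, resM_resM, resM_resM] at e'
  have hb := (bijective_tmul_gen (M := F) hg T (iT.le.trans inf_le_right)).1 e'
  erw [← TopCat.Presheaf.germ_res_apply F.presheaf (homOfLE (iT.le.trans inf_le_left)) y hT s,
    ← TopCat.Presheaf.germ_res_apply F.presheaf (homOfLE (iT'.le.trans inf_le_left)) y hT t]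
  exact congrArg _ hb

theorem twistStalk_surjective (hg : IsGen L W g) (F : X.Modules) :
    Function.Surjective (twistStalk g hy F) := by
  intro v
  obtain ⟨V, hV, z, rfl⟩ := (CohB1.tensorMod F L).presheaf.exists_germ_eq v
  obtain ⟨x, hx⟩ := (bijective_tmul_gen (M := F) hg (V ⊓ W) inf_le_right).2 (resM _ inf_le_left z)
  refine ⟨F.presheaf.germ (V ⊓ W) y ⟨hV, hy⟩ x, ?_⟩
  erw [twistStalk_germ, ← TopCat.Presheaf.germ_res_apply (CohB1.tensorMod F L).presheaf
    (homOfLE ((inf_le_left : (V ⊓ W) ⊓ W ≤ V ⊓ W).trans inf_le_left)) y ⟨⟨hV, hy⟩, hy⟩ z]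
  refine congrArg _ ?_
  show tmul (resM F inf_le_left x) (resM L inf_le_right g) = resM _ _ z
  have h := congrArg (resM _ (inf_le_left : (V ⊓ W) ⊓ W ≤ V ⊓ W)) hx
  rw [resM_tmul, resM_resM, resM_resM] at h
  exact h

/-- The stalk of a twist is the stalk. -/
noncomputable def twistStalkIso (hg : IsGen L W g) (F : X.Modules) :
    (St y).obj F ≅ (St y).obj (CohB1.tensorMod F L) :=
  (LinearEquiv.ofBijective
    ({ toFun := twistStalk g hy F
       map_add' := twistStalk_add g hy F
       map_smul' := twistStalk_smul g hy F } :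
      F.presheaf.stalk y →ₗ[X.presheaf.stalk y] (CohB1.tensorMod F L).presheaf.stalk y)
    ⟨twistStalk_injective hy hg F, twistStalk_surjective hy hg F⟩).toModuleIso

end Stalk

variable {L : X.Modules}

/-- Twisting by an invertible module does not change the support. -/
theorem support_twist (hL : PicF.IsInvertible L) (F : X.Modules) :
    CohB1.support (CohB1.tensorMod F L) = CohB1.support F := by
  ext y
  obtain ⟨W, hyW, g, hg⟩ := exists_isGen hL y
  let e := Equiv.ofBijective (twistStalk g hyW F)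
    ⟨twistStalk_injective hyW hg F, twistStalk_surjective hyW hg F⟩
  exact not_congr e.subsingleton_congr.symm

theorem mono_tensorMap (hL : PicF.IsInvertible L) {F F' : X.Modules} (φ : F ⟶ F') [Mono φ] :
    Mono (tensorMap φ (𝟙 L)) := by
  refine Preadditive.mono_of_isZero_kernel _ (ModStalk.isZero_of_stalks fun y => ?_)
  obtain ⟨W, hyW, g, hg⟩ := exists_isGen hL y
  rw [ModuleCat.isZero_iff_subsingleton]
  refine subsingleton_of_forall_eq 0 fun a => ?_
  apply (ModuleCat.mono_iff_injective ((St y).map (kernel.ι (tensorMap φ (𝟙 L))))).1 inferInstance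
  rw [map_zero]
  obtain ⟨u, hu⟩ := twistStalk_surjective hyW hg F ((St y).map (kernel.ι (tensorMap φ (𝟙 L))) a)
  have h0 : twistStalk g hyW F' ((St y).map φ u) = 0 := by
    rw [twistStalk_natural]
    erw [hu, stalk_comp_apply, kernel.condition]
    exact stalk_zero_apply _
  have hu0 : u = 0 := (ModuleCat.mono_iff_injective ((St y).map φ)).1 inferInstance
    ((twistStalk_injective hyW hg F' (h0.trans (twistStalk_zero g hyW F').symm)).trans (map_zero _).symm)
  refine hu.symm.trans ?_
  rw [hu0]
  exact twistStalk_zero g hyW F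

theorem epi_tensorMap (hL : PicF.IsInvertible L) {F F' : X.Modules} (φ : F ⟶ F') [Epi φ] :
    Epi (tensorMap φ (𝟙 L)) := by
  refine epi_of_locally_surjective _ fun U a y hy => ?_
  obtain ⟨W, hyW, g, hg⟩ := exists_isGen hL y
  obtain ⟨x, hx⟩ := (bijective_tmul_gen (M := F') hg (U ⊓ W) inf_le_right).2 (resM _ inf_le_left a)
  obtain ⟨W', hW', hyW', b, hb⟩ := exists_lift_of_epi φ (U ⊓ W) x y ⟨hy, hyW⟩
  refine ⟨W', hW'.trans inf_le_left, hyW', tmul b (resM L (hW'.trans inf_le_right) g), ?_⟩
  rw [tensorMap_tmul, hb]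
  have h := congrArg (resM _ hW') hx
  rw [resM_tmul, resM_resM, resM_resM] at h
  exact h

/-- The twist of a short complex. -/
noncomputable def twistSeq (S : ShortComplex X.Modules) (L : X.Modules) : ShortComplex X.Modules :=
  ShortComplex.mk (tensorMap S.f (𝟙 L)) (tensorMap S.g (𝟙 L)) (hom_ext fun U a b => by
    rw [Scheme.Modules.Hom.comp_app, ConcreteCategory.comp_apply, tensorMap_tmul, tensorMap_tmul]
    have : S.g.app U (S.f.app U a) = 0 := by
      rw [← ConcreteCategory.comp_apply, ← Scheme.Modules.Hom.comp_app, S.zero]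
      rfl
    rw [this, tmul_zero_left]
    rfl)

/-- Twisting by an invertible module is exact. -/
theorem twistSeq_shortExact (hL : PicF.IsInvertible L) {S : ShortComplex X.Modules} (hS : S.ShortExact) :
    (twistSeq S L).ShortExact := by
  haveI := hS.mono_f
  haveI := hS.epi_g
  haveI hm : Mono (twistSeq S L).f := mono_tensorMap hL S.f
  haveI he : Epi (twistSeq S L).g := epi_tensorMap hL S.g
  refine ⟨?_⟩
  rw [ShortComplex.exact_iff_isZero_homology]
  refine ModStalk.isZero_of_stalks fun y => IsZero.of_iso ?_ ((twistSeq S L).mapHomologyIso (St y)).symm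
  obtain ⟨W, hyW, g, hg⟩ := exists_isGen hL y
  rw [← ShortComplex.exact_iff_isZero_homology, ShortComplex.ShortExact.moduleCat_exact_iff_function_exact]
  have hex := (ShortComplex.ShortExact.moduleCat_exact_iff_function_exact _).1 (hS.exact.map (St y))
  intro v
  constructor
  · intro hv
    obtain ⟨u, rfl⟩ := twistStalk_surjective hyW hg S.X₂ v
    have h0 : (St y).map S.g u = 0 := twistStalk_injective hyW hg S.X₃
      (((twistStalk_natural g hyW S.g u).trans hv).trans (twistStalk_zero g hyW S.X₃).symm)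
    obtain ⟨t, ht⟩ := (hex u).1 h0
    refine ⟨twistStalk g hyW S.X₁ t, (twistStalk_natural g hyW S.f t).symm.trans ?_⟩
    exact congrArg _ ht
  · rintro ⟨a, rfl⟩
    show (St y).map (twistSeq S L).g ((St y).map (twistSeq S L).f a) = 0
    rw [stalk_comp_apply, (twistSeq S L).zero]
    exact stalk_zero_apply _

/-- Twisting by an invertible module preserves coherence. -/
theorem isCoh_twist [IsLocallyNoetherian X] (hL : PicF.IsInvertible L) {F : X.Modules}
    (hF : Coh.IsCoh F) : Coh.IsCoh (CohB1.tensorMod F L) := by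
  have := hF.1
  choose W hyW g hg using exists_isGen hL
  choose A hA hyA hAW using fun y : X => exists_isAffineOpen_mem_and_subset (x := y) (U := W y) (hyW y)
  refine isCoh_of_finite_sections_cover _ (isQCoh_tensor_invertible F hL) A hA
    (fun y => ⟨y, hyA y⟩) fun y => ?_
  haveI := ((isCoh_iff_finite_sections _).1 hF).2 (A y) (hA y)
  let g' := resM L (fun z hz => hAW y hz : A y ≤ W y) (g y)
  let φ : Γ(F, A y) →ₗ[Γ(X, A y)] Γ(CohB1.tensorMod F L, A y) :=
    { toFun := fun m => tmul m g'
      map_add' := fun m m' => tmul_add_left m m' g'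
      map_smul' := fun r m => tmul_smul_left r m g' }
  exact Module.Finite.of_surjective φ
    (bijective_tmul_gen (M := F) (hg y) (A y) fun z hz => hAW y hz).2

end Groth.Agent.EulerLib
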