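import Groth.Agent.EulerLib.Degree
import Groth.Prelude.Def_Curv2
import Groth.Prelude.Def_FGA
import Mathlib.Algebra.BigOperators.Fin

/-!
# Isomorphism classes of invertible modules and Snapper polynomials
-/

set_option autoImplicit false
set_option linter.style.haveILetI false

universe u

open CategoryTheory CategoryTheory.Limits AlgebraicGeometry
open Groth.Agent.Coherent Groth.Agent.PicLib Groth.Agent.AmpleLib

namespace Groth.Agent.EulerLib

variable (X : Scheme.{u})

/-- Isomorphy of invertible modules. -/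
def invSetoid : Setoid (Inv X) where
  r L N := Nonempty (L.1 ≅ N.1)
  iseqv :=
    { refl := fun _ => ⟨Iso.refl _⟩
      symm := fun ⟨e⟩ => ⟨e.symm⟩
      trans := fun ⟨e⟩ ⟨e'⟩ => ⟨e ≪≫ e'⟩ }

/-- Isomorphism classes of invertible modules. -/
def InvCl : Type (u + 1) := Quotient (invSetoid X)

variable {X}

/-- The class of an invertible module. -/
def InvCl.mk (L : X.Modules) (hL : PicF.IsInvertible L) : InvCl X := Quotient.mk (invSetoid X) ⟨L, hL⟩

theorem InvCl.mk_eq {L N : X.Modules} (hL : PicF.IsInvertible L) (hN : PicF.IsInvertible N) (e : L ≅ N) :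
    InvCl.mk L hL = InvCl.mk N hN :=
  Quotient.sound ⟨e⟩

theorem InvCl.exists_rep (c : InvCl X) : ∃ L hL, InvCl.mk L hL = c :=
  Quotient.inductionOn c fun L => ⟨L.1, L.2, rfl⟩

noncomputable instance : Mul (InvCl X) :=
  ⟨Quotient.map₂ Inv.mul fun _ _ ⟨e⟩ _ _ ⟨e'⟩ => ⟨tensorIso e e'⟩⟩

noncomputable instance : One (InvCl X) := ⟨InvCl.mk (Coh.structureModule X) isInvertible_structureModule⟩

theorem InvCl.mk_mul {L N : X.Modules} (hL : PicF.IsInvertible L) (hN : PicF.IsInvertible N) :
    InvCl.mk L hL * InvCl.mk N hN = InvCl.mk (CohB1.tensorMod L N) (isInvertible_tensorMod hL hN) := rfl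

noncomputable instance : CommMonoid (InvCl X) where
  mul_assoc a b c := Quotient.inductionOn₃ a b c fun L M N => Quotient.sound (exists_assocIso' L.1 M.2 N.2)
  one_mul a := Quotient.inductionOn a fun L => Quotient.sound ⟨unitTensorIso L.1⟩
  mul_one a := Quotient.inductionOn a fun L => Quotient.sound ⟨tensorComm _ _ ≪≫ unitTensorIso L.1⟩
  mul_comm a b := Quotient.inductionOn₂ a b fun _ _ => Quotient.sound ⟨tensorComm _ _⟩

theorem InvCl.mk_tensorPow {L : X.Modules} (hL : PicF.IsInvertible L) :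
    ∀ n, InvCl.mk (CohB1.tensorPow L n) (isInvertible_tensorPow hL n) = InvCl.mk L hL ^ n
  | 0 => (pow_zero _).symm
  | n + 1 => by
    rw [pow_succ, ← InvCl.mk_tensorPow hL n]
    rfl

theorem DegLT.toFinDeg {r : ℕ} {φ : Inv X → ℤ} (h : DegLT r φ) (hi : IsoInv φ) :
    FinDeg (id : Additive (InvCl X) → Additive (InvCl X)) r
      (fun c => Quotient.lift φ (fun _ _ h => hi _ _ h) (Additive.toMul c)) := by
  induction r generalizing φ with
  | zero =>
    funext c
    obtain ⟨c, rfl⟩ : ∃ a, Additive.ofMul a = c := ⟨Additive.toMul c, rfl⟩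
    exact Quotient.inductionOn c fun N => congrFun (show φ = 0 from h) N
  | succ r ih =>
    intro a
    obtain ⟨L, hL, ha⟩ := InvCl.exists_rep (Additive.toMul a)
    convert ih (h ⟨L, hL⟩) (hi.diff ⟨L, hL⟩) using 1
    funext c
    obtain ⟨c, rfl⟩ : ∃ b, Additive.ofMul b = c := ⟨Additive.toMul c, rfl⟩
    show Quotient.lift φ (fun _ _ h => hi _ _ h) (c * Additive.toMul a) - Quotient.lift φ (fun _ _ h => hi _ _ h) c =
      Quotient.lift (diff ⟨L, hL⟩ φ) _ c
    rw [← ha, mul_comm c]
    exact Quotient.inductionOn c fun N => rfl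

/-- A function of bounded degree on classes gives a polynomial along any family. -/
theorem exists_poly_classes {n r : ℕ} (φ : InvCl X → ℤ)
    (hφ : FinDeg (id : Additive (InvCl X) → Additive (InvCl X)) (r + 1) (φ ∘ Additive.toMul))
    (c : Fin n → InvCl X) :
    ∃ P : MvPolynomial (Fin n) ℚ, P.totalDegree ≤ r ∧
      ∀ m : Fin n → ℕ, (φ (∏ i, c i ^ m i) : ℚ) = MvPolynomial.eval (fun i => (m i : ℚ)) P :=
  exists_poly_of_finDeg n r (fun m => φ (∏ i, c i ^ m i))
    (FinDeg.comp (e := (id : Additive (InvCl X) → Additive (InvCl X)))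
      (fun i : Fin n => (Pi.single i 1 : Fin n → ℕ)) (fun m => Additive.ofMul (∏ i, c i ^ m i))
      (fun i => Additive.ofMul (c i)) (fun m j => by
        show Additive.ofMul _ = Additive.ofMul (_ * _)
        refine congrArg _ ?_
        simp only [Pi.add_apply, pow_add, Finset.prod_mul_distrib]
        congr 1
        rw [Finset.prod_eq_single j (fun i _ hi => by simp [Pi.single_eq_of_ne hi]) (by simp)]
        simp) hφ)

/-- The alternating sum over the subfamilies of `c`. -/
noncomputable def altSum {r : ℕ} (c : Fin r → InvCl X) (φ : InvCl X → ℤ) : ℤ :=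
  ∑ I : Finset (Fin r), (-1 : ℤ) ^ I.card * φ (∏ i ∈ I, c i)

theorem altSum_sub {r : ℕ} (c : Fin r → InvCl X) (φ ψ : InvCl X → ℤ) :
    altSum c (φ - ψ) = altSum c φ - altSum c ψ := by
  simp only [altSum, Pi.sub_apply, mul_sub, Finset.sum_sub_distrib]

theorem altSum_cons {r : ℕ} (a : InvCl X) (c : Fin r → InvCl X) (φ : InvCl X → ℤ) :
    altSum (Fin.cons a c) φ = -altSum c (fun x => φ (a * x) - φ x) := by
  rw [show (fun x => φ (a * x) - φ x) = (fun x => φ (a * x)) - φ from rfl, altSum_sub, neg_sub]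
  let S := (Finset.univ : Finset (Fin r)).map ⟨Fin.succ, Fin.succ_injective _⟩
  have h0 : (0 : Fin (r + 1)) ∉ S := by simp [S, Fin.succ_ne_zero]
  have huniv : (Finset.univ : Finset (Finset (Fin (r + 1)))) = (insert (0 : Fin (r + 1)) S).powerset := by
    refine (Finset.eq_univ_iff_forall.2 fun I => Finset.mem_powerset.2 fun i _ => ?_).symm
    induction i using Fin.cases with
    | zero => simp
    | succ i => simp [S]
  have hS : S.powerset = (Finset.univ : Finset (Finset (Fin r))).map
      (Finset.mapEmbedding ⟨Fin.succ, Fin.succ_injective _⟩).toEmbedding := by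
    ext I
    simp only [Finset.mem_powerset, Finset.mem_map, Finset.mem_univ, true_and, S]
    refine ⟨fun h => ⟨I.preimage Fin.succ (Fin.succ_injective _).injOn, ?_⟩, ?_⟩
    · show Finset.map _ _ = I
      ext j
      simp only [Finset.mem_map, Finset.mem_preimage]
      refine ⟨fun ⟨i, hi, e⟩ => e ▸ hi, fun hj => ?_⟩
      obtain ⟨i, -, rfl⟩ := Finset.mem_map.1 (h hj)
      exact ⟨i, hj, rfl⟩
    · rintro ⟨J, rfl⟩
      exact Finset.map_subset_map.2 (Finset.subset_univ J)
  unfold altSum
  rw [huniv, Finset.sum_powerset_insert h0, hS, Finset.sum_map, Finset.sum_map]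
  rw [← Finset.sum_add_distrib, ← Finset.sum_sub_distrib]
  refine Finset.sum_congr rfl fun J _ => ?_
  have hJ : (0 : Fin (r + 1)) ∉ J.map ⟨Fin.succ, Fin.succ_injective _⟩ := by simp [Fin.succ_ne_zero]
  simp only [RelEmbedding.coe_toEmbedding, Finset.mapEmbedding_apply]
  rw [Finset.card_insert_of_notMem hJ, Finset.prod_insert hJ, Finset.card_map, Finset.prod_map]
  simp only [Function.Embedding.coeFn_mk, Fin.cons_zero, Fin.cons_succ, pow_succ]
  ring

theorem altSum_eq_zero : ∀ {r : ℕ} (c : Fin r → InvCl X) (φ : InvCl X → ℤ),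
    FinDeg (id : Additive (InvCl X) → Additive (InvCl X)) r (φ ∘ Additive.toMul) → altSum c φ = 0 := by
  intro r
  induction r with
  | zero =>
    intro c φ h
    have : φ = 0 := funext fun x => congrFun (show φ ∘ Additive.toMul = 0 from h) (Additive.ofMul x)
    simp [altSum, this]
  | succ r ih =>
    intro c φ h
    rw [← Fin.cons_self_tail c, altSum_cons, ih (Fin.tail c) _ ?_, neg_zero]
    convert h (Additive.ofMul (c 0)) using 1
    funext x
    show φ (c 0 * _) - _ = φ (Additive.toMul x * c 0) - φ (Additive.toMul x)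
    rw [mul_comm]

theorem altSum_add {r : ℕ} (a b : InvCl X) (c : Fin r → InvCl X) (φ : InvCl X → ℤ)
    (h : FinDeg (id : Additive (InvCl X) → Additive (InvCl X)) (r + 2) (φ ∘ Additive.toMul)) :
    altSum (Fin.cons (a * b) c) φ = altSum (Fin.cons a c) φ + altSum (Fin.cons b c) φ := by
  have h0 : altSum c (fun x => φ (a * b * x) - φ x - (φ (a * x) - φ x) - (φ (b * x) - φ x)) = 0 := by
    refine altSum_eq_zero c _ ?_
    convert (h (Additive.ofMul a)) (Additive.ofMul b) using 1
    funext x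
    show φ (a * b * Additive.toMul x) - _ - _ - _ =
      φ (Additive.toMul x * b * a) - φ (Additive.toMul x * b) - (φ (Additive.toMul x * a) - φ (Additive.toMul x))
    rw [show a * b * Additive.toMul x = Additive.toMul x * b * a by ac_rfl, mul_comm a, mul_comm b]
    ring
  rw [altSum_cons, altSum_cons, altSum_cons]
  rw [show (fun x => φ (a * b * x) - φ x - (φ (a * x) - φ x) - (φ (b * x) - φ x)) =
    (fun x => φ (a * b * x) - φ x) - (fun x => φ (a * x) - φ x) - (fun x => φ (b * x) - φ x) from rfl,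
    altSum_sub, altSum_sub] at h0
  linarith

variable (k : Type u) [Field k] [X.Over (Spec (CommRingCat.of k))]

/-- `c ↦ χ(F ⊗ c)`. -/
noncomputable def chiCl (F : X.Modules) : InvCl X → ℤ := Quotient.lift (chiTwist k F) (isoInv_chiTwist k F)

theorem chiCl_mk (F : X.Modules) {N : X.Modules} (hN : PicF.IsInvertible N) :
    chiCl k F (InvCl.mk N hN) = Curv2.euler k X (CohB1.tensorMod F N) := rfl

theorem finDeg_chiCl [IsProper (X ↘ Spec (CommRingCat.of k))] {F : X.Modules} (hF : Coh.IsCoh F) {r : ℕ}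
    (hr : topologicalKrullDim (CohB1.support F) < r) :
    FinDeg (id : Additive (InvCl X) → Additive (InvCl X)) r (chiCl k F ∘ Additive.toMul) :=
  (degLT_chiTwist k r F hF hr).toFinDeg (isoInv_chiTwist k F)

/-- Snapper polynomials. -/
theorem snapper [IsProper (X ↘ Spec (CommRingCat.of k))] {F : X.Modules} (hF : Coh.IsCoh F) {r n : ℕ}
    (hr : topologicalKrullDim (CohB1.support F) ≤ r) (c : Fin n → InvCl X) :
    ∃ P : MvPolynomial (Fin n) ℚ, P.totalDegree ≤ r ∧
      ∀ m : Fin n → ℕ, (chiCl k F (∏ i, c i ^ m i) : ℚ) = MvPolynomial.eval (fun i => (m i : ℚ)) P :=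
  exists_poly_classes _ (finDeg_chiCl k hF (hr.trans_lt (by exact_mod_cast Nat.lt_succ_self r))) c

theorem exists_tensorPows_rep (F : X.Modules) : ∀ (r : ℕ) (L : Fin r → X.Modules)
    (hL : ∀ i, PicF.IsInvertible (L i)) (n : Fin r → ℕ),
    ∃ (N : X.Modules) (hN : PicF.IsInvertible N), InvCl.mk N hN = ∏ i, InvCl.mk (L i) (hL i) ^ n i ∧
      Nonempty (Curv2.tensorPows F r L n ≅ CohB1.tensorMod F N) := by
  intro r
  induction r with
  | zero =>
    intro L hL n
    exact ⟨_, isInvertible_structureModule, by rw [Finset.univ_eq_empty, Finset.prod_empty]; rfl,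
      ⟨(tensorComm _ _ ≪≫ unitTensorIso F).symm⟩⟩
  | succ r ih =>
    intro L hL n
    obtain ⟨N, hN, hc, ⟨e⟩⟩ := ih (fun i => L i.castSucc) (fun i => hL i.castSucc) (fun i => n i.castSucc)
    have hP := isInvertible_tensorPow (hL (Fin.last r)) (n (Fin.last r))
    obtain ⟨a⟩ := exists_assocIso' F hN hP
    refine ⟨_, isInvertible_tensorMod hN hP, ?_, ⟨tensorIso e (Iso.refl _) ≪≫ a⟩⟩
    rw [← InvCl.mk_mul hN hP, hc, InvCl.mk_tensorPow (hL (Fin.last r)), Fin.prod_univ_castSucc]

theorem exists_tensorList_rep : ∀ (l : List (Inv X)), ∃ hN : PicF.IsInvertible (FGA.tensorList (l.map Subtype.val)),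
    InvCl.mk _ hN = (l.map (fun a => InvCl.mk a.1 a.2)).prod := by
  intro l
  induction l with
  | nil => exact ⟨isInvertible_structureModule, rfl⟩
  | cons a l ih =>
    obtain ⟨hN, hc⟩ := ih
    refine ⟨isInvertible_tensorMod a.2 hN, ?_⟩
    show InvCl.mk a.1 a.2 * InvCl.mk _ hN = InvCl.mk a.1 a.2 * (l.map fun a => InvCl.mk a.1 a.2).prod
    rw [hc]

end Groth.Agent.EulerLib
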