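import Groth.Agent.EulerLib.HilbPoly
import Mathlib.Data.DFinsupp.WellFounded

/-!
# Coherent submodules: maximal elements, dimensions
-/

set_option autoImplicit false
set_option linter.style.haveILetI false

universe u

open CategoryTheory CategoryTheory.Limits AlgebraicGeometry Opposite TopologicalSpace
open Groth.Agent.Coherent Groth.Agent.DimLib

namespace Groth.Agent.EulerLib

variable {X : Scheme.{u}} [AlgebraicGeometry.IsNoetherian X]

omit [AlgebraicGeometry.IsNoetherian X] in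
/-- A quasi-coherent module with no sections on an affine cover is zero. -/
theorem isZero_of_sections_cover {M : X.Modules} (hM : Coh.IsQCoh M) {ι : Type*} (U : ι → X.Opens)
    (hU : ∀ i, IsAffineOpen (U i)) (hcov : ∀ x : X, ∃ i, x ∈ U i)
    (h : ∀ i, Subsingleton Γ(M, U i)) : IsZero M := by
  haveI := hM
  refine isZero_of_support_eq_empty (Set.eq_empty_iff_forall_notMem.2 fun x hx => hx ?_)
  obtain ⟨i, hi⟩ := hcov x
  refine subsingleton_of_forall_eq 0 fun a => ?_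
  obtain ⟨g, m, hg, hm⟩ := QCohLoc.exists_smul_stalk_eq_germ M (hU i) hi a
  rw [(h i).elim m 0, map_zero, IsUnit.smul_eq_zero ((Scheme.mem_basicOpen _ _ _ hi).1 hg)] at hm
  exact hm

/-- Coherent submodules satisfy the maximal condition. -/
theorem exists_maximal_sub {E : X.Modules} (hE : Coh.IsCoh E) (P : ∀ F : X.Modules, (F ⟶ E) → Prop)
    (hP : ∃ (F : X.Modules) (ι : F ⟶ E), Mono ι ∧ Coh.IsCoh F ∧ P F ι) :
    ∃ (F : X.Modules) (ι : F ⟶ E), Mono ι ∧ Coh.IsCoh F ∧ P F ι ∧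
      ∀ (F' : X.Modules) (ι' : F' ⟶ E), Mono ι' → Coh.IsCoh F' → P F' ι' →
        ∀ φ : F ⟶ F', φ ≫ ι' = ι → IsIso φ := by
  classical
  haveI := hE.1
  choose A hA hxA _ using fun x : X => exists_isAffineOpen_mem_and_subset (x := x) (U := (⊤ : X.Opens)) trivial
  obtain ⟨t, ht⟩ := isCompact_univ.elim_finite_subcover (fun x : X => (A x : Set X)) (fun x => (A x).2)
    (fun x _ => Set.mem_iUnion.2 ⟨x, hxA x⟩)
  have hcov : ∀ x : X, ∃ i : t, x ∈ A i.1 := fun x => by
    obtain ⟨i, hi, hx⟩ := Set.mem_iUnion₂.1 (ht (Set.mem_univ x))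
    exact ⟨⟨i, hi⟩, hx⟩
  haveI : ∀ i : t, Module.Finite Γ(X, A i.1) Γ(E, A i.1) := fun i =>
    ((isCoh_iff_finite_sections _).1 hE).2 _ (hA i.1)
  haveI : ∀ i : t, IsNoetherianRing Γ(X, A i.1) := fun i =>
    IsLocallyNoetherian.component_noetherian ⟨A i.1, hA i.1⟩
  haveI hwf : ∀ i : t, WellFoundedGT (Submodule Γ(X, A i.1) Γ(E, A i.1)) := fun i =>
    haveI : _root_.IsNoetherian Γ(X, A i.1) Γ(E, A i.1) := isNoetherian_of_isNoetherianRing_of_finite _ _
    inferInstance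
  let R : Set (∀ i : t, Submodule Γ(X, A i.1) Γ(E, A i.1)) :=
    {f | ∃ (F : X.Modules) (ι : F ⟶ E), Mono ι ∧ Coh.IsCoh F ∧ P F ι ∧
      ∀ i : t, f i = LinearMap.range (appLin ι (A i.1))}
  have hR : R.Nonempty := by
    obtain ⟨F, ι, h1, h2, h3⟩ := hP
    exact ⟨_, F, ι, h1, h2, h3, fun i => rfl⟩
  let D := ∀ i : t, (Submodule Γ(X, A i.1) Γ(E, A i.1))ᵒᵈ
  haveI : WellFoundedLT D := Pi.wellFoundedLT
  obtain ⟨f, hf, hmax⟩ := (wellFounded_lt (α := D)).has_min
    {g : D | (fun i => OrderDual.ofDual (g i)) ∈ R}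
    (by obtain ⟨g, hg⟩ := hR; exact ⟨fun i => OrderDual.toDual (g i), hg⟩)
  obtain ⟨F, ι, h1, h2, h3, hF⟩ := hf
  replace hF : ∀ i : t, OrderDual.ofDual (f i) = LinearMap.range (appLin ι (A i.1)) := hF
  refine ⟨F, ι, h1, h2, h3, fun F' ι' h1' h2' h3' φ hφ => ?_⟩
  haveI : Mono φ := mono_of_mono_fac hφ
  have hle : ∀ i : t, OrderDual.ofDual (f i) ≤ LinearMap.range (appLin ι' (A i.1)) := fun i => by
    rw [hF i]
    rintro _ ⟨a, rfl⟩
    refine ⟨φ.app _ a, ?_⟩
    show ι'.app _ (φ.app _ a) = ι.app _ a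
    rw [← hφ]
    rfl
  have heq : (fun i => OrderDual.toDual (LinearMap.range (appLin ι' (A i.1))) : D) = f :=
    (eq_or_lt_of_le (show (fun i => OrderDual.toDual (LinearMap.range (appLin ι' (A i.1))) : D) ≤ f from hle)).resolve_right
      fun hlt => hmax _ ⟨F', ι', h1', h2', h3', fun i => rfl⟩ hlt
  haveI := h2.1
  haveI := h2'.1
  have hQ : IsZero (cokernel φ) := by
    have hQq := (isCoh_cokernel φ h2.1 h2').1
    refine isZero_of_sections_cover hQq (fun i : t => A i.1) (fun i => hA i.1) hcov fun i => ?_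
    have hS : (ShortComplex.mk φ (cokernel.π φ) (cokernel.condition φ)).ShortExact :=
      { exact := ShortComplex.exact_cokernel φ }
    haveI : Coh.IsQCoh (ShortComplex.mk φ (cokernel.π φ) (cokernel.condition φ)).X₁ := h2.1
    refine subsingleton_of_forall_eq 0 fun q => ?_
    obtain ⟨b, rfl⟩ := sections_surjective hS (hA i.1) q
    have hb : ι'.app (A i.1) b ∈ LinearMap.range (appLin ι (A i.1)) := by
      rw [← hF i, ← heq]
      exact ⟨b, rfl⟩
    obtain ⟨a, ha⟩ := hb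
    have : φ.app (A i.1) a = b := Coherent.app_injective_of_mono ι' (A i.1) (by
      refine Eq.trans ?_ ha
      show ι'.app _ (φ.app _ a) = ι.app _ a
      rw [← hφ]
      rfl)
    rw [← this]
    exact sections_zero (S := ShortComplex.mk φ (cokernel.π φ) (cokernel.condition φ)) (A i.1) a
  haveI : Epi φ := Preadditive.epi_of_isZero_cokernel φ hQ
  exact isIso_of_mono_of_epi φ

omit [AlgebraicGeometry.IsNoetherian X] in
/-- Every subset has bounded dimension. -/
theorem exists_dim_le (k : Type u) [Field k] [X.Over (Spec (CommRingCat.of k))]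
    [IsProper (X ↘ Spec (CommRingCat.of k))] (T : Set X) :
    ∃ r : ℕ, topologicalKrullDim T ≤ r := by
  classical
  haveI := isNoetherian_of_proper (X := X) k
  let p := X ↘ Spec (CommRingCat.of k)
  obtain ⟨S, hS, hirr, hZ⟩ := NoetherianSpace.exists_finite_set_closeds_irreducible (⊤ : Closeds X)
  haveI := hS.to_subtype
  choose η hη using fun Z : S => QuasiSober.sober (hirr Z.1 Z.2) Z.1.2
  obtain ⟨r, hr⟩ : ∃ r : ℕ, ∀ Z : S, ptDim p (η Z) ≤ r :=
    (Finite.exists_le fun Z : S => ptDim p (η Z))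
  refine ⟨r, (dim_mono (Set.subset_univ T)).trans ?_⟩
  rw [topologicalKrullDim_closed_eq_iSup p (isClosed_univ (X := X))]
  refine iSup_le fun x => ?_
  have hle : (⊤ : Closeds X) ≤ ⟨⋃ Z ∈ S, (Z : Set X), hS.isClosed_biUnion fun Z _ => Z.2⟩ :=
    hZ.le.trans (sSup_le fun Z hZ z hz => Set.mem_iUnion₂.2 ⟨Z, hZ, hz⟩)
  obtain ⟨Z, hZS, hxZ⟩ := Set.mem_iUnion₂.1 (hle (Set.mem_univ x.1))
  have h1 : η ⟨Z, hZS⟩ ⤳ x.1 := (hη ⟨Z, hZS⟩).specializes hxZ
  exact WithBot.coe_le_coe.2 (Nat.cast_le.2 ((ptDim_le_of_specializes p h1).trans (hr ⟨Z, hZS⟩)))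

omit [AlgebraicGeometry.IsNoetherian X] in
theorem dim_eq_of_le {T : Set X} (hT : T.Nonempty) {r : ℕ} (hr : topologicalKrullDim T ≤ r) :
    ∃ s : ℕ, s ≤ r ∧ topologicalKrullDim T = s := by
  haveI : Nonempty T := hT.to_subtype
  obtain ⟨z⟩ := this
  haveI : Nonempty (IrreducibleCloseds T) :=
    ⟨⟨closure {z}, isIrreducible_singleton.closure, isClosed_closure⟩⟩
  have h0 : (0 : WithBot ℕ∞) ≤ topologicalKrullDim T := Order.krullDim_nonneg
  generalize topologicalKrullDim T = a at h0 hr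
  match a with
  | ⊥ => exact absurd h0 (by simp)
  | (a : ℕ∞) =>
    have ha : a ≤ (r : ℕ∞) := WithBot.coe_le_coe.1 hr
    obtain ⟨s, rfl⟩ := ENat.ne_top_iff_exists.1 (ne_top_of_le_ne_top (ENat.natCast_ne_top r) ha)
    exact ⟨s, Nat.cast_le.1 ha, rfl⟩

end Groth.Agent.EulerLib
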