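import Groth.Agent.EulerLib.StabBasic
import Groth.Agent.Coherent.FlatBaseChangeMain
import Groth.Agent.Coherent.SupportPullback
import Groth.Agent.DCat.PullTensor
import Groth.Agent.DCat.FlatPull
import Groth.Agent.AmpleLib.Relative

/-!
# Hilbert polynomials and extensions of the base field
-/

set_option autoImplicit false
set_option linter.style.haveILetI false

universe u

open CategoryTheory CategoryTheory.Limits AlgebraicGeometry TensorProduct
open Groth.Agent.Coherent

namespace Groth.Agent.EulerLib

variable (k : Type u) [Field k] (X : Scheme.{u}) [X.Over (Spec (CommRingCat.of k))]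
  (K : Type u) [Field K] [Algebra k K]

theorem isPullback_bc : IsPullback (Curv2.bcFst k X K) (Curv2.bcSnd k X K) (X ↘ Spec (CommRingCat.of k))
    (Spec.map (CommRingCat.ofHom (algebraMap k K))) := IsPullback.of_hasPullback _ _

instance flat_bcFst : Flat (Curv2.bcFst k X K) := by
  haveI : Flat (Spec.map (CommRingCat.ofHom (algebraMap k K))) := by
    rw [HasRingHomProperty.Spec_iff (P := @Flat)]
    exact RingHom.flat_algebraMap_iff.2 inferInstance
  exact MorphismProperty.of_isPullback (P := @Flat) (isPullback_bc k X K).flip inferInstance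

instance surjective_bcFst : Surjective (Curv2.bcFst k X K) := by
  haveI : Surjective (Spec.map (CommRingCat.ofHom (algebraMap k K))) :=
    ⟨fun x => ⟨(default : PrimeSpectrum K), Subsingleton.elim (α := PrimeSpectrum k) _ _⟩⟩
  exact MorphismProperty.of_isPullback (P := @Surjective) (isPullback_bc k X K).flip inferInstance

variable {X} [IsProper (X ↘ Spec (CommRingCat.of k))]

/-- The Euler characteristic is invariant under extensions of the base field. -/
theorem euler_bc (M : X.Modules) (hM : Coh.IsQCoh M) :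
    letI : (Curv2.bc k X K).Over (Spec (CommRingCat.of K)) := ⟨Curv2.bcSnd k X K⟩
    Curv2.euler K (Curv2.bc k X K) ((Scheme.Modules.pullback (Curv2.bcFst k X K)).obj M) =
      Curv2.euler k X M := by
  letI : (Curv2.bc k X K).Over (Spec (CommRingCat.of K)) := ⟨Curv2.bcSnd k X K⟩
  haveI := hM
  haveI := isNoetherian_of_proper (X := X) k
  unfold Curv2.euler
  refine finsum_congr fun i => ?_
  obtain ⟨e⟩ := nonempty_flat_base_change (A := k) (B := K) (g := Curv2.bcFst k X K) (M := M)
    (isPullback_bc k X K) i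
  congr 2
  exact e.finrank_eq.symm.trans Module.finrank_baseChange

/-- Twists commute with pullback. -/
theorem nonempty_twist_pullback {Z : Scheme.{u}} (g : Z ⟶ X) {L : X.Modules} (hL : PicF.IsInvertible L)
    (F : X.Modules) (m : ℕ) :
    Nonempty ((Scheme.Modules.pullback g).obj (ShStab.twist X L F m) ≅
      ShStab.twist Z ((Scheme.Modules.pullback g).obj L) ((Scheme.Modules.pullback g).obj F) m) := by
  obtain ⟨e, -⟩ := AmpleLib.exists_pullPowIso g hL m
  exact ⟨DCat.PullTensor.pullTensorIso g F (CohB1.tensorPow L m) ≪≫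
    ((DCoh.tensorBi (X := Z)).obj ((Scheme.Modules.pullback g).obj F)).mapIso e⟩

variable {L F : X.Modules}

theorem isHilbPoly_bc (hL : PicF.IsInvertible L) (hF : Coh.IsCoh F) {P : Polynomial ℚ}
    (hP : ShStab.IsHilbPoly k X L F P) :
    letI : (Curv2.bc k X K).Over (Spec (CommRingCat.of K)) := ⟨Curv2.bcSnd k X K⟩
    ShStab.IsHilbPoly K (Curv2.bc k X K) ((Scheme.Modules.pullback (Curv2.bcFst k X K)).obj L)
      ((Scheme.Modules.pullback (Curv2.bcFst k X K)).obj F) P := by
  letI : (Curv2.bc k X K).Over (Spec (CommRingCat.of K)) := ⟨Curv2.bcSnd k X K⟩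
  intro m
  haveI := isNoetherian_of_proper (X := X) k
  have hq : Coh.IsQCoh (ShStab.twist X L F m) :=
    (isCoh_twist (Groth.Agent.AmpleLib.isInvertible_tensorPow hL m) hF).1
  obtain ⟨e⟩ := nonempty_twist_pullback (Curv2.bcFst k X K) hL F m
  rw [← hP m, ← euler_bc k K (ShStab.twist X L F m) hq, euler_congr K _ e]

omit [IsProper (X ↘ Spec (CommRingCat.of k))] in
theorem not_isZero_bc (hF : Coh.IsCoh F) (h0 : ¬ IsZero F) :
    ¬ IsZero ((Scheme.Modules.pullback (Curv2.bcFst k X K)).obj F) := fun h => h0 <| by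
  refine isZero_of_support_eq_empty (Set.eq_empty_iff_forall_notMem.2 fun x hx => ?_)
  obtain ⟨y, rfl⟩ := (Curv2.bcFst k X K).surjective x
  have : y ∈ CohB1.support ((Scheme.Modules.pullback (Curv2.bcFst k X K)).obj F) :=
    (support_pullback_qcoh (Curv2.bcFst k X K) hF.1 hF.2).ge hx
  exact (Set.subset_empty_iff.1 (support_of_isZero h ∅) ▸ this : y ∈ (∅ : Set _))

theorem not_isIso_bc {G : X.Modules} (ι : F ⟶ G) [Mono ι] (hF : Coh.IsCoh F) (hG : Coh.IsCoh G)
    (h : ¬ IsIso ι) : ¬ IsIso ((Scheme.Modules.pullback (Curv2.bcFst k X K)).map ι) := fun hi => by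
  haveI := isNoetherian_of_proper (X := X) k
  refine not_isZero_bc k K (isCoh_cokernel ι hF.1 hG) (fun hz => h ?_) ?_
  · haveI : Epi ι := Preadditive.epi_of_isZero_cokernel ι hz
    exact isIso_of_mono_of_epi ι
  · exact (isZero_cokernel_of_epi _).of_iso (PreservesCokernel.iso (Scheme.Modules.pullback (Curv2.bcFst k X K)) ι)

end Groth.Agent.EulerLib
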