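import Groth.Agent.EulerLib.Degree
import Groth.Agent.Coherent.DevissageApps

/-!
# Cohomology of quasi-coherent modules vanishes above the dimension of their support
-/

set_option autoImplicit false
set_option linter.style.haveILetI false

universe u

open CategoryTheory CategoryTheory.Limits AlgebraicGeometry Opposite TopologicalSpace
open Groth.Agent.Coherent

namespace Groth.Agent.EulerLib

variable {X : Scheme.{u}}

local notation "St" => DerSch.stalkFunctor X

/-- Vanishing of `HH` through `HA`. -/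
theorem subsingleton_HH_iff (M : X.Modules) (q : ℕ) :
    Subsingleton (Coh.HH X M q) ↔ Subsingleton (HA (RingHom.id Γ(X, ⊤)) M (⊤ : X.Opens) q) :=
  (HHTopEquiv M q).toEquiv.subsingleton_congr

theorem subsingleton_HH_of_isZero {M : X.Modules} (h : IsZero M) (q : ℕ) : Subsingleton (Coh.HH X M q) := by
  rw [subsingleton_HH_iff]
  refine subsingleton_of_forall_eq 0 fun x => ?_
  have e : postHM (𝟙 M) q (⊤ : X.Opens) x = x := postHM_id M q _ x
  rw [h.eq_of_src (𝟙 M) 0] at e
  exact e.symm.trans (postHM_zero q _ x)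

theorem subsingleton_HH_X₂ {S : ShortComplex X.Modules} (hS : S.ShortExact) (q : ℕ)
    (h₁ : Subsingleton (Coh.HH X S.X₁ q)) (h₃ : Subsingleton (Coh.HH X S.X₃ q)) :
    Subsingleton (Coh.HH X S.X₂ q) := by
  rw [subsingleton_HH_iff] at *
  refine subsingleton_of_forall_eq 0 fun x => ?_
  obtain ⟨y, rfl⟩ := (exact_postA (RingHom.id Γ(X, ⊤)) hS ⊤ q x).1 (Subsingleton.elim _ _)
  rw [Subsingleton.elim y 0, map_zero]

theorem subsingleton_HH_X₁ {S : ShortComplex X.Modules} (hS : S.ShortExact) (q : ℕ)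
    (h₃ : Subsingleton (Coh.HH X S.X₃ q)) (h₂ : Subsingleton (Coh.HH X S.X₂ (q + 1))) :
    Subsingleton (Coh.HH X S.X₁ (q + 1)) := by
  rw [subsingleton_HH_iff] at *
  refine subsingleton_of_forall_eq 0 fun x => ?_
  obtain ⟨y, rfl⟩ := (exact_deltaA_postA (RingHom.id Γ(X, ⊤)) hS ⊤ q x).1 (Subsingleton.elim _ _)
  rw [Subsingleton.elim y 0, map_zero]

theorem isZero_of_support_eq_empty {M : X.Modules} (h : CohB1.support M = ∅) : IsZero M :=
  ModStalk.isZero_of_stalks fun y => (notMem_support_iff M y).1 (by rw [h]; exact Set.notMem_empty y)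

/-- The direct image of a restriction is supported in the closure of the support. -/
theorem support_push_restrict_subset (M : X.Modules) (U : X.Opens) (T : Set X) (hT : IsClosed T)
    (h : CohB1.support M ∩ U ⊆ T) :
    CohB1.support ((Coh.push U.ι).obj (M.restrict U.ι)) ⊆ T := by
  intro z hz
  by_contra hzT
  refine hz (subsingleton_of_forall_eq 0 fun t => ?_)
  obtain ⟨V, hV, s, rfl⟩ := ((Coh.push U.ι).obj (M.restrict U.ι)).presheaf.exists_germ_eq t
  let V₁ : X.Opens := V ⊓ ⟨Tᶜ, hT.isOpen_compl⟩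
  have hsub : Subsingleton Γ(M, U.ι ''ᵁ U.ι ⁻¹ᵁ V₁) := by
    refine subsingleton_sections_of_disjoint M _ (Set.disjoint_left.2 fun x hx hxs => ?_)
    obtain ⟨w, hw, rfl⟩ := hx
    exact hw.2 (h ⟨hxs, w.2⟩)
  erw [← TopCat.Presheaf.germ_res_apply _ (homOfLE (inf_le_left : V₁ ≤ V)) z ⟨hV, hzT⟩ s]
  let t₁ : Γ(M, U.ι ''ᵁ U.ι ⁻¹ᵁ V₁) :=
    ((Coh.push U.ι).obj (M.restrict U.ι)).presheaf.map (homOfLE (inf_le_left : V₁ ≤ V)).op s
  exact (congrArg (((Coh.push U.ι).obj (M.restrict U.ι)).presheaf.germ V₁ z ⟨hV, hzT⟩)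
    (hsub.elim t₁ 0)).trans (map_zero _)

variable [AlgebraicGeometry.IsNoetherian X] [X.IsSeparated]

/-- Grothendieck vanishing for quasi-coherent modules. -/
theorem subsingleton_HH_of_support : ∀ (Z : Closeds X) (M : X.Modules), Coh.IsQCoh M →
    CohB1.support M ⊆ (Z : Set X) → ∀ q : ℕ, topologicalKrullDim (Z : Set X) < q →
      Subsingleton (Coh.HH X M q) := by
  classical
  intro Z
  induction Z using WellFoundedLT.induction with
  | ind Z ih =>
    intro M hM hMZ q hq
    haveI := hM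
    rcases (Z : Set X).eq_empty_or_nonempty with hZe | hZne
    · exact subsingleton_HH_of_isZero (isZero_of_support_eq_empty (Set.subset_empty_iff.1 (hZe ▸ hMZ))) q
    obtain ⟨S, hS, hirr, hZ⟩ := NoetherianSpace.exists_finite_set_closeds_irreducible Z
    have hne : S.Nonempty := Set.nonempty_iff_ne_empty.2 fun h => hZne.ne_empty (by
      rw [hZ, h, sSup_empty]
      rfl)
    obtain ⟨Z₁, hZ₁, hmax⟩ := hS.exists_maximal hne
    have hZ₁Z : Z₁ ≤ Z := hZ ▸ le_sSup hZ₁
    have hi := hirr Z₁ hZ₁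
    obtain ⟨y, hy⟩ : ∃ y : X, closure {y} = (Z₁ : Set X) :=
      ⟨hi.genericPoint, hi.closure_genericPoint Z₁.2⟩
    have hyZ₁ : y ∈ (Z₁ : Set X) := hy ▸ subset_closure rfl
    let O : X.Opens := ⟨(⋃ T ∈ S \ {Z₁}, (T : Set X))ᶜ,
      ((hS.subset Set.sdiff_subset).isClosed_biUnion fun T _ => T.2).isOpen_compl⟩
    have hyO : y ∈ O := fun hmem => by
      obtain ⟨T, hT, hyT⟩ := Set.mem_iUnion₂.1 hmem
      have hle : Z₁ ≤ T := fun z hz => by
        have : z ∈ closure {y} := hy ▸ hz
        exact (T.2.closure_subset_iff.2 (Set.singleton_subset_iff.2 hyT)) this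
      exact hT.2 ((hmax hT.1 hle).antisymm hle)
    obtain ⟨U, hU, hyU, hUO⟩ := exists_isAffineOpen_mem_and_subset (x := y) (U := O) hyO
    have hZU : (Z : Set X) ∩ U ⊆ Z₁ := by
      rintro z ⟨hz, hzU⟩
      have hle : Z ≤ ⟨⋃ T ∈ S, (T : Set X), hS.isClosed_biUnion fun T _ => T.2⟩ :=
        hZ.le.trans (sSup_le fun T hT z hz => Set.mem_iUnion₂.2 ⟨T, hT, hz⟩)
      obtain ⟨T, hT, hzT⟩ := Set.mem_iUnion₂.1 (hle hz)
      by_cases hT1 : T = Z₁
      · exact hT1 ▸ hzT
      · exact absurd (Set.mem_iUnion₂.2 ⟨T, ⟨hT, hT1⟩, hzT⟩) (hUO hzU)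
    have hlt : ∀ T : Closeds X, T ≤ Z → y ∉ (T : Set X) → T < Z := fun T hT hyT =>
      lt_of_le_of_ne hT fun h => hyT (h ▸ hZ₁Z hyZ₁)
    have hq0 : q ≠ 0 := fun h => by
      subst h
      haveI : Nonempty (Z : Set X) := hZne.to_subtype
      obtain ⟨z⟩ := this
      haveI : Nonempty (IrreducibleCloseds (Z : Set X)) :=
        ⟨⟨closure {z}, isIrreducible_singleton.closure, isClosed_closure⟩⟩
      exact not_le.2 hq (Order.krullDim_nonneg)
    obtain ⟨p, rfl⟩ := Nat.exists_eq_succ_of_ne_zero hq0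
    have hdim : topologicalKrullDim (Z₁ : Set X) ≤ (p : ℕ) := by
      refine (dim_mono hZ₁Z).trans ?_
      generalize topologicalKrullDim (Z : Set X) = a at hq
      match a with
      | ⊥ => exact bot_le
      | (a : ℕ∞) =>
        rw [Nat.cast_succ] at hq
        exact WithBot.coe_le_coe.2 (ENat.lt_natCast_add_one_iff.1 (WithBot.coe_lt_coe.1 hq))
    let u : M ⟶ (Coh.push U.ι).obj (M.restrict U.ι) := (Scheme.Modules.restrictAdjunction U.ι).unit.app M
    haveI hJ : Coh.IsQCoh ((Coh.push U.ι).obj (M.restrict U.ι)) := isQCoh_push U.ι _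
    haveI : IsAffine U.toScheme := hU
    haveI : IsAffineHom U.ι := IsAffineHom.of_comp U.ι (terminal.from X)
    have hJ0 : ∀ n : ℕ, 0 < n → Subsingleton (Coh.HH X ((Coh.push U.ι).obj (M.restrict U.ι)) n) := fun n hn =>
      haveI := subsingleton_HH_of_isAffine (M.restrict U.ι) n hn
      (HHAffinePushEquiv U.ι (M.restrict U.ι) n).toEquiv.symm.subsingleton
    have hbij : ∀ z ∈ U, Function.Bijective ((St z).map u) := fun z hz =>
      bijective_stalk_restrictUnit M hz
    -- the kernel lives away from `U`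
    have hKsupp : CohB1.support (kernel u) ⊆ (Z : Set X) \ U := fun z hz =>
      ⟨hMZ (support_subset_of_mono (kernel.ι u) hz), fun hzU => hz (subsingleton_of_forall_eq 0 fun a => by
        have h1 : (St z).map u ((St z).map (kernel.ι u) a) = 0 := by
          refine (stalk_comp_apply _ _ _).trans ?_
          rw [kernel.condition]
          exact stalk_zero_apply _
        exact (ModuleCat.mono_iff_injective ((St z).map (kernel.ι u))).1 inferInstance
          (((hbij z hzU).1 (h1.trans (map_zero _).symm)).trans (map_zero _).symm))⟩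
    let ι := Abelian.image.ι u
    have hI : Coh.IsQCoh (Abelian.image u) := isQCoh_image u
    have hQq : Coh.IsQCoh (cokernel u) := isQCoh_cokernel u
    have hQsupp : CohB1.support (cokernel u) ⊆ (Z₁ : Set X) \ U := fun z hz =>
      ⟨support_push_restrict_subset M U Z₁ Z₁.2 ((Set.inter_subset_inter_left _ hMZ).trans hZU)
        (support_subset_of_epi (cokernel.π u) hz), fun hzU => hz (subsingleton_of_forall_eq 0 fun a => by
        obtain ⟨b, rfl⟩ := (ModuleCat.epi_iff_surjective ((St z).map (cokernel.π u))).1 inferInstance a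
        obtain ⟨c, rfl⟩ := (hbij z hzU).2 b
        refine (stalk_comp_apply _ _ _).trans ?_
        rw [cokernel.condition]
        exact stalk_zero_apply _)⟩
    let T₀ : Closeds X := ⟨(Z : Set X) \ U, Z.2.sdiff U.2⟩
    let T₁ : Closeds X := ⟨(Z₁ : Set X) \ U, Z₁.2.sdiff U.2⟩
    have hK : Subsingleton (Coh.HH X (kernel u) (p + 1)) :=
      ih T₀ (hlt T₀ (fun z hz => hz.1) fun h => h.2 hyU) _ (isQCoh_kernel u) hKsupp _
        (lt_of_le_of_lt (dim_mono (show (T₀ : Set X) ⊆ Z from fun z hz => hz.1)) hq)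
    have hQ : Subsingleton (Coh.HH X (cokernel u) p) :=
      ih T₁ (hlt T₁ (fun z hz => hZ₁Z hz.1) fun h => h.2 hyU) _ hQq hQsupp _
        (dim_lt_of_notMem T₁.2 (fun z hz => hz.1) Z₁.2 hy (fun h => h.2 hyU) hdim)
    let S₁ : ShortComplex X.Modules := ShortComplex.mk (kernel.ι u) (Abelian.factorThruImage u) (by
      rw [← cancel_mono ι, Category.assoc, Abelian.image.fac, kernel.condition, zero_comp])
    have hS₁ : S₁.ShortExact :=
      { mono_f := inferInstanceAs (Mono (kernel.ι u))
        epi_g := inferInstanceAs (Epi (Abelian.factorThruImage u))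
        exact := ShortComplex.exact_of_f_is_kernel _
          (isKernelOfComp (f := Abelian.factorThruImage u) ι u (kernelIsKernel u) S₁.zero (Abelian.image.fac u)) }
    let S₂ : ShortComplex X.Modules :=
      ShortComplex.mk ι (cokernel.π u) (kernel.condition (cokernel.π u))
    have hS₂ : S₂.ShortExact :=
      { exact := ShortComplex.exact_of_f_is_kernel _ (kernelIsKernel (cokernel.π u))
        mono_f := inferInstanceAs (Mono (kernel.ι (cokernel.π u)))
        epi_g := inferInstanceAs (Epi (cokernel.π u)) }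
    exact subsingleton_HH_X₂ hS₁ (p + 1) hK
      (subsingleton_HH_X₁ hS₂ p hQ (hJ0 (p + 1) p.succ_pos))

/-- Vanishing above the dimension. -/
theorem subsingleton_HH_of_dim (M : X.Modules) [Coh.IsQCoh M] {d : ℕ} (hd : topologicalKrullDim X ≤ d)
    {q : ℕ} (hq : d < q) : Subsingleton (Coh.HH X M q) :=
  subsingleton_HH_of_support ⊤ M inferInstance (Set.subset_univ _) q
    (lt_of_le_of_lt ((Topology.IsInducing.subtypeVal.topologicalKrullDim_le).trans hd) (by exact_mod_cast hq))

end Groth.Agent.EulerLib
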