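import Groth.Agent.EulerLib.InvClass
import Groth.Agent.EulerLib.SupportVanishing

/-!
# `eulerCharLE` and intersection numbers through classes of invertible modules
-/

set_option autoImplicit false
set_option linter.style.haveILetI false

universe u

open CategoryTheory CategoryTheory.Limits AlgebraicGeometry
open Groth.Agent.Coherent Groth.Agent.PicLib Groth.Agent.AmpleLib

namespace Groth.Agent.EulerLib

variable (k : Type u) [Field k] {X : Scheme.{u}} [X.Over (Spec (CommRingCat.of k))]
  [IsProper (X ↘ Spec (CommRingCat.of k))]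

include k in
theorem isSeparated_of_proper : X.IsSeparated :=
  ⟨by
    rw [terminal.hom_ext (terminal.from X) ((X ↘ Spec (CommRingCat.of k)) ≫ terminal.from _)]
    infer_instance⟩

/-- `eulerCharLE` is the Euler characteristic above the dimension. -/
theorem eulerCharLE_eq (F : X.Modules) (hF : Coh.IsQCoh F) {d : ℕ} (hd : topologicalKrullDim X ≤ d) :
    FGA.eulerCharLE k X F d = Curv2.euler k X F := by
  haveI := isNoetherian_of_proper (X := X) k
  haveI := isSeparated_of_proper (X := X) k
  haveI := hF
  exact (euler_eq_sum k X F d fun q hq => subsingleton_HH_of_dim F hd hq).symm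

theorem eulerCharLE_tensor {N F : X.Modules} (hN : PicF.IsInvertible N) (hF : Coh.IsCoh F) {d : ℕ}
    (hd : topologicalKrullDim X ≤ d) :
    FGA.eulerCharLE k X (CohB1.tensorMod N F) d = chiCl k F (InvCl.mk N hN) := by
  haveI := isNoetherian_of_proper (X := X) k
  rw [eulerCharLE_eq k _ ?_ hd, chiCl_mk]
  · exact euler_congr k X (tensorComm N F)
  · exact (isCoh_iso (tensorComm N F).symm (isCoh_twist hN hF)).1

omit [X.Over (Spec (CommRingCat.of k))] [IsProper (X ↘ Spec (CommRingCat.of k))] in
theorem exists_multiTwist_rep {n : ℕ} (L : Fin n → X.Modules) (hL : ∀ i, PicF.IsInvertible (L i))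
    (m : Fin n → ℕ) :
    ∃ hN : PicF.IsInvertible (FGA.multiTwist L m),
      InvCl.mk _ hN = ∏ i, InvCl.mk (L i) (hL i) ^ m i := by
  obtain ⟨hN, hc⟩ := exists_tensorList_rep ((List.finRange n).map fun i =>
    (⟨CohB1.tensorPow (L i) (m i), isInvertible_tensorPow (hL i) (m i)⟩ : Inv X))
  have hlist : ((List.finRange n).map fun i =>
      (⟨CohB1.tensorPow (L i) (m i), isInvertible_tensorPow (hL i) (m i)⟩ : Inv X)).map Subtype.val =
      (List.finRange n).map fun i => CohB1.tensorPow (L i) (m i) := List.map_map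
  have hN' : PicF.IsInvertible (FGA.multiTwist L m) := by
    show PicF.IsInvertible (FGA.tensorList _)
    rw [← hlist]
    exact hN
  refine ⟨hN', (InvCl.mk_eq hN' hN (eqToIso (congrArg FGA.tensorList hlist.symm))).trans ?_⟩
  refine Eq.trans ?_ ((Fin.prod_univ_def _).symm.trans (Finset.prod_congr rfl fun i _ => InvCl.mk_tensorPow (hL i) (m i)))
  exact hc.trans (congrArg List.prod List.map_map)

/-- Intersection numbers as alternating sums on classes. -/
theorem intNum_eq {r : ℕ} (M : Fin r → X.Modules) (hM : ∀ i, PicF.IsInvertible (M i)) {F : X.Modules}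
    (hF : Coh.IsCoh F) {d : ℕ} (hd : topologicalKrullDim X ≤ d) :
    FGA.intNum k X d M F = altSum (fun i => InvCl.mk (M i) (hM i)) (chiCl k F) := by
  refine Finset.sum_congr rfl fun I _ => congrArg _ ?_
  obtain ⟨hN, hc⟩ := exists_tensorList_rep ((I.sort (· ≤ ·)).map fun i => (⟨M i, hM i⟩ : Inv X))
  have hlist : ((I.sort (· ≤ ·)).map fun i => (⟨M i, hM i⟩ : Inv X)).map Subtype.val =
      (I.sort (· ≤ ·)).map M := List.map_map
  rw [← hlist, eulerCharLE_tensor k hN hF hd, hc]
  congr 1
  rw [List.map_map]
  calc _ = (((I.sort (· ≤ ·) : List (Fin r)) : Multiset (Fin r)).map fun i => InvCl.mk (M i) (hM i)).prod := by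
        rw [Multiset.map_coe, Multiset.prod_coe]
        rfl
    _ = _ := by rw [Finset.sort_eq, Finset.prod_eq_multiset_prod]

omit k [X.Over (Spec (CommRingCat.of k))] [IsProper (X ↘ Spec (CommRingCat.of k))] in
theorem cons_mk {r : ℕ} (A : X.Modules) (hA : PicF.IsInvertible A) (M : Fin r → X.Modules)
    (hM : ∀ i, PicF.IsInvertible (M i)) :
    (fun i => InvCl.mk ((Fin.cons A M : Fin (r + 1) → X.Modules) i)
      (Fin.cases (motive := fun i => PicF.IsInvertible ((Fin.cons A M : Fin (r + 1) → X.Modules) i)) hA hM i)) =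
      Fin.cons (InvCl.mk A hA) fun i => InvCl.mk (M i) (hM i) := by
  funext i
  induction i using Fin.cases with
  | zero => rfl
  | succ i => rfl

end Groth.Agent.EulerLib
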