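import Groth.Agent.EulerLib.InvClass
import Mathlib.Algebra.MvPolynomial.Polynomial
import Mathlib.Algebra.Polynomial.Roots

/-!
# Euler characteristics along integral powers of a class are polynomial
-/

set_option autoImplicit false

universe u

open CategoryTheory CategoryTheory.Limits AlgebraicGeometry

namespace Groth.Agent.EulerLib

variable {X : Scheme.{u}} (k : Type u) [Field k] [X.Over (Spec (CommRingCat.of k))]

/-- `m ↦ χ(F ⊗ g m)` is polynomial of degree at most the dimension, on all of `ℤ`, for an additive `g`. -/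
theorem exists_poly_int [IsProper (X ↘ Spec (CommRingCat.of k))] {F : X.Modules} (hF : Coh.IsCoh F) {r : ℕ}
    (hr : topologicalKrullDim X ≤ r) (g : ℤ → InvCl X) (h0 : g 0 = 1) (hg : ∀ a b, g (a + b) = g a * g b) :
    ∃ P : Polynomial ℚ, P.natDegree ≤ r ∧ ∀ m : ℤ, (chiCl k F (g m) : ℚ) = P.eval (m : ℚ) := by
  obtain ⟨P, hdeg, hP⟩ := snapper k hF (r := r) (n := 2)
    ((Topology.IsInducing.subtypeVal.topologicalKrullDim_le).trans hr) ![g 1, g (-1)]
  have hpow : ∀ (a : ℤ) (n : ℕ), g (a * n) = g a ^ n := by
    intro a n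
    induction n with
    | zero => simpa using h0
    | succ n ih => rw [pow_succ, Nat.cast_succ, mul_add, mul_one, hg, ih]
  have hP' : ∀ a b : ℕ, (chiCl k F (g ((a : ℤ) - b)) : ℚ) = MvPolynomial.eval ![(a : ℚ), (b : ℚ)] P := by
    intro a b
    have h := hP ![a, b]
    rw [Fin.prod_univ_two] at h
    simp only [Matrix.cons_val_zero, Matrix.cons_val_one] at h
    rw [← hpow, ← hpow, ← hg, one_mul, neg_one_mul, ← sub_eq_add_neg] at h
    rw [h]
    refine congrArg (fun v => MvPolynomial.eval v P) (funext fun i => ?_)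
    fin_cases i <;> simp
  refine ⟨MvPolynomial.aeval ![Polynomial.X, 0] P, ?_, fun m => ?_⟩
  · refine (MvPolynomial.aeval_natDegree_le P hdeg _ (n := 1) fun i => ?_).trans_eq (mul_one r)
    fin_cases i <;> simp
  · let Q : Polynomial ℚ := MvPolynomial.aeval ![Polynomial.X + Polynomial.C (m : ℚ), Polynomial.X] P
    have hQ : Q = Polynomial.C (chiCl k F (g m) : ℚ) := by
      refine Polynomial.eq_of_infinite_eval_eq _ _ (Set.infinite_of_injective_forall_mem
        (f := fun t : ℕ => (((-m).toNat + t : ℕ) : ℚ)) (fun a b h => by simpa using h) fun t => ?_)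
      rw [Set.mem_ofPred_eq, Polynomial.eval_C]
      have hT : 0 ≤ (((-m).toNat + t : ℕ) : ℤ) + m := by omega
      generalize (-m).toNat + t = T at hT ⊢
      have h := hP' ((T : ℤ) + m).toNat T
      rw [show (((T : ℤ) + m).toNat : ℤ) - T = m by omega] at h
      rw [h]
      simp only [Q]
      rw [← Polynomial.coe_evalRingHom, MvPolynomial.map_aeval, MvPolynomial.eval₂Hom_congr _ _ rfl]
      · rfl
      · exact RingHom.ext fun q => by simp
      · funext i
        have hcast : (((T : ℤ) + m).toNat : ℚ) = (T : ℚ) + m := by exact_mod_cast Int.toNat_of_nonneg hT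
        fin_cases i <;> simp [hcast]
    have h := congrArg (Polynomial.eval 0) hQ
    rw [Polynomial.eval_C] at h
    rw [← h]
    simp only [Q]
    rw [← Polynomial.coe_evalRingHom, ← Polynomial.coe_evalRingHom, MvPolynomial.map_aeval,
      MvPolynomial.map_aeval]
    have : (Polynomial.evalRingHom (0 : ℚ)).comp (algebraMap ℚ (Polynomial ℚ)) =
        (Polynomial.evalRingHom (m : ℚ)).comp (algebraMap ℚ (Polynomial ℚ)) :=
      RingHom.ext fun q => by simp
    refine MvPolynomial.eval₂Hom_congr this ?_ rfl
    funext i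
    fin_cases i <;> simp

end Groth.Agent.EulerLib
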