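import Groth.Agent.EulerLib.CohSub

/-!
# Hilbert polynomials in short exact sequences, positivity, semistable modules
-/

set_option autoImplicit false
set_option linter.style.haveILetI false

universe u

open CategoryTheory CategoryTheory.Limits AlgebraicGeometry Polynomial StabCat
open Groth.Agent.Coherent

namespace Groth.Agent.EulerLib

variable (k : Type u) [Field k] {X : Scheme.{u}} [X.Over (Spec (CommRingCat.of k))]
  [IsProper (X ↘ Spec (CommRingCat.of k))] {L : X.Modules}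

/-- The Hilbert polynomial. -/
noncomputable def hp (hL : CohB1.IsAmple L) (F : X.Modules) (hF : Coh.IsCoh F) : ℚ[X] :=
  (exists_isHilbPoly k hL.1 hF (exists_dim_le k (CohB1.support F)).choose_spec).choose

variable (hL : CohB1.IsAmple L)

theorem isHilbPoly_hp (F : X.Modules) (hF : Coh.IsCoh F) : ShStab.IsHilbPoly k X L F (hp k hL F hF) :=
  (exists_isHilbPoly k hL.1 hF (exists_dim_le k (CohB1.support F)).choose_spec).choose_spec

include hL

theorem hilb_ses {S : ShortComplex X.Modules} (hS : S.ShortExact) (h₁ : Coh.IsCoh S.X₁)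
    (h₂ : Coh.IsCoh S.X₂) (h₃ : Coh.IsCoh S.X₃) {P Q R : ℚ[X]} (hP : ShStab.IsHilbPoly k X L S.X₁ P)
    (hQ : ShStab.IsHilbPoly k X L S.X₂ Q) (hR : ShStab.IsHilbPoly k X L S.X₃ R) : Q = P + R :=
  isHilbPoly_unique k hQ (isHilbPoly_add k hL.1 hS h₁ h₂ h₃ hP hR)

omit hL [X.Over (Spec (CommRingCat.of k))] [IsProper (X ↘ Spec (CommRingCat.of k))] k in
theorem support_nonempty {F : X.Modules} (h : ¬ IsZero F) : (CohB1.support F).Nonempty :=
  Set.nonempty_iff_ne_empty.2 fun he => h (isZero_of_support_eq_empty he)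

omit hL in
include k in
theorem exists_dim_eq {F : X.Modules} (h : ¬ IsZero F) :
    ∃ r : ℕ, topologicalKrullDim (CohB1.support F) = r := by
  obtain ⟨r, hr⟩ := exists_dim_le k (CohB1.support F)
  obtain ⟨s, -, hs⟩ := dim_eq_of_le (support_nonempty h) hr
  exact ⟨s, hs⟩

theorem hilb_zero {F : X.Modules} (h : IsZero F) {P : ℚ[X]} (hP : ShStab.IsHilbPoly k X L F P) : P = 0 :=
  isHilbPoly_unique k hP (isHilbPoly_zero k hL.1 h)

theorem hilb_leadingCoeff_pos {F : X.Modules} (hF : Coh.IsCoh F) (h : ¬ IsZero F) {P : ℚ[X]}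
    (hP : ShStab.IsHilbPoly k X L F P) : 0 < P.leadingCoeff := by
  obtain ⟨r, hr⟩ := exists_dim_eq k h
  have hpos := alpha_pos k hL hF hP hr
  have hdeg := (alpha_eq_interDeg k hL.1 hF hP hr.le).1
  have hc : 0 < P.coeff r := pos_of_mul_pos_right hpos (by positivity)
  rw [Polynomial.leadingCoeff, le_antisymm hdeg (le_natDegree_of_ne_zero hc.ne')]
  exact hc

theorem hilb_eq_zero_iff {F : X.Modules} (hF : Coh.IsCoh F) {P : ℚ[X]}
    (hP : ShStab.IsHilbPoly k X L F P) : P = 0 ↔ IsZero F := by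
  refine ⟨fun h => ?_, fun h => hilb_zero k hL h hP⟩
  by_contra hz
  have := hilb_leadingCoeff_pos k hL hF hz hP
  rw [h, leadingCoeff_zero] at this
  exact lt_irrefl _ this

theorem polyLE_zero {F : X.Modules} (hF : Coh.IsCoh F) {P : ℚ[X]} (hP : ShStab.IsHilbPoly k X L F P) :
    PolyLE 0 P := by
  rw [polyLE_iff, sub_zero]
  by_cases h : IsZero F
  · rw [hilb_zero k hL h hP, leadingCoeff_zero]
  · exact (hilb_leadingCoeff_pos k hL hF h hP).le

theorem alpha_nonneg {F : X.Modules} (hF : Coh.IsCoh F) {P : ℚ[X]} (hP : ShStab.IsHilbPoly k X L F P)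
    {d : ℕ} (hd : topologicalKrullDim (CohB1.support F) ≤ d) : 0 ≤ alpha d P := by
  rcases hd.lt_or_eq with h | h
  · rw [alpha_eq_zero_of_dim_lt k hL.1 hF hP h]
  · exact (alpha_pos k hL hF hP h).le

omit hL k [X.Over (Spec (CommRingCat.of k))] [IsProper (X ↘ Spec (CommRingCat.of k))] in
theorem shortExact_cokernel {F E : X.Modules} (ι : F ⟶ E) [Mono ι] :
    (ShortComplex.mk ι (cokernel.π ι) (cokernel.condition ι)).ShortExact :=
  { exact := ShortComplex.exact_cokernel ι }

omit hL k [X.Over (Spec (CommRingCat.of k))] [IsProper (X ↘ Spec (CommRingCat.of k))] in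
theorem shortExact_kernel {E G : X.Modules} (π : E ⟶ G) [Epi π] :
    (ShortComplex.mk (kernel.ι π) π (kernel.condition π)).ShortExact :=
  { exact := ShortComplex.exact_kernel π }

theorem hilb_mono {F E : X.Modules} (ι : F ⟶ E) [Mono ι] (hF : Coh.IsCoh F) (hE : Coh.IsCoh E)
    {P Q : ℚ[X]} (hP : ShStab.IsHilbPoly k X L F P) (hQ : ShStab.IsHilbPoly k X L E Q) :
    ∃ R, ShStab.IsHilbPoly k X L (cokernel ι) R ∧ Q = P + R :=
  have hc := isCoh_cokernel ι hF.1 hE
  ⟨_, isHilbPoly_hp k hL _ hc, hilb_ses k hL (shortExact_cokernel ι) hF hE hc hP hQ (isHilbPoly_hp k hL _ hc)⟩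

section Pure

variable {E : X.Modules} {d : ℕ}

omit hL in
include k in
theorem dim_le_of_pure (hE : Coh.IsCoh E) (hp : ShStab.IsPure X E d) :
    topologicalKrullDim (CohB1.support E) ≤ d := by
  by_cases h : IsZero E
  · rw [Set.subset_empty_iff.1 (support_of_isZero h ∅)]
    exact (dim_empty_lt d).le
  · exact (hp E (𝟙 E) inferInstance hE h).le

omit hL k [X.Over (Spec (CommRingCat.of k))] [IsProper (X ↘ Spec (CommRingCat.of k))] in
theorem isPure_of_mono (hp : ShStab.IsPure X E d) {F : X.Modules} (ι : F ⟶ E) [Mono ι] :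
    ShStab.IsPure X F d := fun G κ _ hG hG0 => hp G (κ ≫ ι) (mono_comp κ ι) hG hG0

theorem alpha_pos_of_sub (hp : ShStab.IsPure X E d) {F : X.Modules} (ι : F ⟶ E) [Mono ι]
    (hF : Coh.IsCoh F) (h : ¬ IsZero F) {P : ℚ[X]} (hP : ShStab.IsHilbPoly k X L F P) : 0 < alpha d P :=
  alpha_pos k hL hF hP (hp F ι inferInstance hF h)

theorem alpha_pos_self (hE : Coh.IsCoh E) (h : ¬ IsZero E) (hp : ShStab.IsPure X E d) {P : ℚ[X]}
    (hP : ShStab.IsHilbPoly k X L E P) : 0 < alpha d P :=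
  alpha_pos_of_sub k hL hp (𝟙 E) hE h hP

theorem natDegree_le_of_pure (hE : Coh.IsCoh E) (hp : ShStab.IsPure X E d) {P : ℚ[X]}
    (hP : ShStab.IsHilbPoly k X L E P) : P.natDegree ≤ d :=
  (alpha_eq_interDeg k hL.1 hE hP (dim_le_of_pure k hE hp)).1

omit hL k [X.Over (Spec (CommRingCat.of k))] [IsProper (X ↘ Spec (CommRingCat.of k))] in
theorem dim_sub_le {F : X.Modules} (ι : F ⟶ E) [Mono ι]
    (hd : topologicalKrullDim (CohB1.support E) ≤ d) : topologicalKrullDim (CohB1.support F) ≤ d :=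
  (dim_mono (support_subset_of_mono ι)).trans hd

/-- Multiplicity of a nonzero submodule versus that of the module. -/
theorem alpha_le_of_mono {F : X.Modules} (ι : F ⟶ E) [Mono ι] (hF : Coh.IsCoh F) (hE : Coh.IsCoh E)
    (hd : topologicalKrullDim (CohB1.support E) ≤ d) {P Q : ℚ[X]} (hP : ShStab.IsHilbPoly k X L F P)
    (hQ : ShStab.IsHilbPoly k X L E Q) : alpha d P ≤ alpha d Q := by
  obtain ⟨R, hR, rfl⟩ := hilb_mono k hL ι hF hE hP hQ
  rw [alpha_add]
  have := alpha_nonneg k hL (isCoh_cokernel ι hF.1 hE) hR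
    ((dim_mono (support_subset_of_epi (cokernel.π ι))).trans hd)
  linarith

end Pure

section Semistable

variable {E F G : X.Modules} {d : ℕ}

/-- The reduced polynomial of a semistable module is at most that of its nonzero quotients. -/
theorem redLE_quotient (hE : ShStab.IsSemistable k X L E d) (π : E ⟶ G) [Epi π] (hG : Coh.IsCoh G)
    (hG0 : ¬ IsZero G) {P Q : ℚ[X]} (hP : ShStab.IsHilbPoly k X L E P) (hQ : ShStab.IsHilbPoly k X L G Q) :
    RedLE d P Q := by
  haveI := isNoetherian_of_proper (X := X) k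
  obtain ⟨hEc, -, -, hss⟩ := hE
  have hK := isCoh_kernel π hEc hG.1
  have hPK := isHilbPoly_hp k hL _ hK
  have hsum : P = hp k hL _ hK + Q := hilb_ses k hL (shortExact_kernel π) hK hEc hG hPK hP hQ
  by_cases hK0 : IsZero (kernel π)
  · rw [hsum, hilb_zero k hL hK0 hPK, zero_add]
    exact redLE_refl Q
  · have hni : ¬ IsIso (kernel.ι π) := fun h => hG0 <| by
      rw [IsZero.iff_id_eq_zero, ← cancel_epi π, Category.comp_id, Limits.comp_zero,
        ← cancel_epi (kernel.ι π), kernel.condition, Limits.comp_zero]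
    have h1 := hss (kernel π) (kernel.ι π) inferInstance hK hK0 hni _ _ hPK hP
    rw [hsum] at h1 ⊢
    exact (redLE_seesaw _ _).1 h1

/-- Strict version for stable modules. -/
theorem redLT_quotient (hE : ShStab.IsStable k X L E d) (π : E ⟶ G) [Epi π] (hG : Coh.IsCoh G)
    (hG0 : ¬ IsZero G) (hK0 : ¬ IsZero (kernel π)) {P Q : ℚ[X]} (hP : ShStab.IsHilbPoly k X L E P)
    (hQ : ShStab.IsHilbPoly k X L G Q) : RedLT d P Q := by
  haveI := isNoetherian_of_proper (X := X) k
  obtain ⟨hEc, -, -, hst⟩ := hE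
  have hK := isCoh_kernel π hEc hG.1
  have hPK := isHilbPoly_hp k hL _ hK
  have hsum : P = hp k hL _ hK + Q := hilb_ses k hL (shortExact_kernel π) hK hEc hG hPK hP hQ
  have hni : ¬ IsIso (kernel.ι π) := fun h => hG0 <| by
    rw [IsZero.iff_id_eq_zero, ← cancel_epi π, Category.comp_id, Limits.comp_zero,
      ← cancel_epi (kernel.ι π), kernel.condition, Limits.comp_zero]
  have h1 := hst (kernel π) (kernel.ι π) inferInstance hK hK0 hni _ _ hPK hP
  rw [hsum] at h1 ⊢
  exact (redLT_seesaw _ _).1 h1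

omit hL k [X.Over (Spec (CommRingCat.of k))] [IsProper (X ↘ Spec (CommRingCat.of k))] in
theorem isCoh_image [IsLocallyNoetherian X] (φ : F ⟶ G) (hF : Coh.IsCoh F) (hG : Coh.IsCoh G) :
    Coh.IsCoh (Abelian.image φ) :=
  haveI := hF.1
  haveI := hG.1
  isCoh_of_mono (Abelian.image.ι φ) hG (isQCoh_image φ)

omit hL k [X.Over (Spec (CommRingCat.of k))] [IsProper (X ↘ Spec (CommRingCat.of k))] in
theorem image_ne_zero {φ : F ⟶ G} (hφ : φ ≠ 0) : ¬ IsZero (Abelian.image φ) := fun h => hφ <| by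
  rw [← Abelian.image.fac φ, h.eq_of_tgt (Abelian.factorThruImage φ) 0, Limits.zero_comp]

omit hL [IsProper (X ↘ Spec (CommRingCat.of k))] in
theorem stable_to_semistable (h : ShStab.IsStable k X L E d) : ShStab.IsSemistable k X L E d :=
  ⟨h.1, h.2.1, h.2.2.1, fun F ι a b c e p q hp hq => (redLT_iff_le_ne.1 (h.2.2.2 F ι a b c e p q hp hq)).1⟩

/-- The image of a map between semistable modules has reduced polynomial in between. -/
theorem redLE_image (hF : ShStab.IsSemistable k X L F d) (hG : ShStab.IsSemistable k X L G d) {φ : F ⟶ G}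
    (hφ : φ ≠ 0) {P Q R : ℚ[X]} (hP : ShStab.IsHilbPoly k X L F P) (hQ : ShStab.IsHilbPoly k X L G Q)
    (hR : ShStab.IsHilbPoly k X L (Abelian.image φ) R) :
    RedLE d P R ∧ RedLE d R Q ∧ 0 < alpha d P ∧ 0 < alpha d R ∧ 0 < alpha d Q := by
  haveI := isNoetherian_of_proper (X := X) k
  have hI := isCoh_image φ hF.1 hG.1
  have hI0 := image_ne_zero hφ
  refine ⟨redLE_quotient k hL hF (Abelian.factorThruImage φ) hI hI0 hP hR, ?_,
    alpha_pos_self k hL hF.1 hF.2.1 hF.2.2.1 hP,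
    alpha_pos_of_sub k hL hG.2.2.1 (Abelian.image.ι φ) hI hI0 hR,
    alpha_pos_self k hL hG.1 hG.2.1 hG.2.2.1 hQ⟩
  by_cases hiso : IsIso (Abelian.image.ι φ)
  · rw [isHilbPoly_unique k (isHilbPoly_iso k (asIso (Abelian.image.ι φ)) hR) hQ]
    exact redLE_refl Q
  · exact hG.2.2.2 _ (Abelian.image.ι φ) inferInstance hI hI0 hiso _ _ hR hQ

end Semistable

end Groth.Agent.EulerLib
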