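import Groth.Agent.Coherent.CohLocalize
import Groth.Agent.EulerLib.StabBasic
import Groth.Agent.EmbLib24.Coord
import Groth.Agent.AssSch12.Primary
import Groth.Prelude.Def_DefoSh

/-!
# Endomorphisms which are invertible unless zero are scalars
-/

set_option autoImplicit false
set_option linter.style.haveILetI false

universe u

open CategoryTheory CategoryTheory.Limits AlgebraicGeometry Opposite TopologicalSpace
open Groth.Agent.Coherent

namespace Groth.Agent.EulerLib

variable {X : Scheme.{u}}

theorem smulLin (M : X.Modules) (r : Γ(X, ⊤)) (W : X.Opens) (a : Γ(X, W)) (m : Γ(M, W)) :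
    (X.presheaf.map (homOfLE (le_top : W ≤ ⊤)).op r : Γ(X, W)) • a • m =
      a • (X.presheaf.map (homOfLE (le_top : W ≤ ⊤)).op r : Γ(X, W)) • m :=
  smul_comm _ _ _

/-- Multiplication by a global function. -/
noncomputable def smulMod (M : X.Modules) (r : Γ(X, ⊤)) : M ⟶ M :=
  ⟨PresheafOfModules.homMk (smulEndAb M r).hom fun W a m => smulLin M r W.unop a m⟩

theorem smulMod_app (M : X.Modules) (r : Γ(X, ⊤)) (V : X.Opens) (s : Γ(M, V)) :
    ((smulMod M r).val.app (op V) s : Γ(M, V)) = (X.presheaf.map (homOfLE (le_top : V ≤ ⊤)).op r : Γ(X, V)) • s :=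
  smulEndAb_app M r V s

theorem stalkMapₗ_smulMod (M : X.Modules) (r : Γ(X, ⊤)) (x : X) (v : M.presheaf.stalk x) :
    RefHull.stalkMapₗ (smulMod M r) x v = X.presheaf.germ ⊤ x trivial r • v := by
  obtain ⟨U, hU, m, rfl⟩ := TopCat.Presheaf.exists_germ_eq M.presheaf v
  rw [RefHull.stalkMapₗ_germ]
  refine (congrArg (M.presheaf.germ U x hU) (smulMod_app M r U m)).trans ?_
  rw [Mero.germ_smul M U x hU, TopCat.Presheaf.germ_res_apply]

/-- An endomorphism becomes non-surjective at a point after subtracting a scalar. -/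
theorem exists_scalar_not_iso (k : Type u) [Field k] [IsAlgClosed k] [X.Over (Spec (CommRingCat.of k))]
    [LocallyOfFiniteType (X ↘ Spec (CommRingCat.of k))] [IsLocallyNoetherian X] {M : X.Modules}
    (hM : Coh.IsCoh M) (h0 : ¬ IsZero M) (φ : M ⟶ M) :
    ∃ c : k, ¬ IsIso (φ - smulMod M (Coh.toGlobal (X ↘ Spec (CommRingCat.of k)) c)) := by
  haveI : JacobsonSpace X := LocallyOfFiniteType.jacobsonSpace (X ↘ Spec (CommRingCat.of k))
  obtain ⟨x, hx, hcl⟩ : ∃ x ∈ CohB1.support M, IsClosed ({x} : Set X) := by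
    obtain ⟨y, hy⟩ := support_nonempty h0
    have hclo : IsClosed (CohB1.support M) := isClosed_support M (locallyFinGen_of_isFT M hM.2)
    obtain ⟨x, hx1, hx2⟩ := nonempty_inter_closedPoints ⟨y, hy⟩ hclo.isLocallyClosed
    exact ⟨x, hx1, hx2⟩
  let R := X.presheaf.stalk x
  let N := M.presheaf.stalk x
  haveI : Module.Finite R N := AssSch12.finite_stalk hM x
  haveI : Nontrivial N := not_subsingleton_iff_nontrivial.1 hx
  let f : k →+* R := (X.presheaf.germ ⊤ x trivial).hom.comp (Coh.toGlobal (X ↘ Spec (CommRingCat.of k)))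
  let m := IsLocalRing.maximalIdeal R
  let V := N ⧸ (m • ⊤ : Submodule R N)
  haveI : Nontrivial V := Submodule.Quotient.nontrivial_iff.2 fun e =>
    not_subsingleton N ((Submodule.subsingleton_iff R).1 (subsingleton_iff_bot_eq_top.1
      (Submodule.eq_bot_of_le_smul_of_le_jacobson_bot m ⊤ Module.Finite.fg_top e.ge
        (IsLocalRing.maximalIdeal_le_jacobson _)).symm))
  letI : Algebra k R := f.toAlgebra
  letI : Module k V := Module.compHom V f
  haveI : IsScalarTower k R V := ⟨fun a b v => by
    show (algebraMap k R a * b) • v = f a • b • v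
    rw [mul_smul]
    rfl⟩
  haveI : Module.Finite k V := by
    obtain ⟨s, hs⟩ := (inferInstance : Module.Finite R V).fg_top
    refine ⟨⟨s, top_le_iff.1 fun v htop => ?_⟩⟩
    clear htop
    have hv : v ∈ Submodule.span R (s : Set V) := hs ▸ trivial
    induction hv using Submodule.span_induction with
    | mem y hy => exact Submodule.subset_span hy
    | zero => exact zero_mem _
    | add y z _ _ hy hz => exact add_mem hy hz
    | smul a y _ hy =>
      obtain ⟨c, hc⟩ := EmbLib24.exists_residue_eq (X ↘ Spec (CommRingCat.of k)) hcl a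
      have e : a • y = f c • y := by
        rw [← sub_eq_zero, ← sub_smul]
        induction y using Submodule.Quotient.induction_on with
        | _ z => exact (Submodule.Quotient.mk_eq_zero _).2 (Submodule.smul_mem_smul hc trivial)
      rw [e]
      exact (Submodule.span k _).smul_mem c hy
  let ψ : V →ₗ[R] V := Submodule.mapQ _ _ (RefHull.stalkMapₗ φ x) (by
    rw [← Submodule.map_le_iff_le_comap, Submodule.map_smul'']
    exact Submodule.smul_mono le_rfl le_top)
  obtain ⟨c, hc⟩ := Module.End.exists_eigenvalue (ψ.restrictScalars k)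
  refine ⟨c, fun hiso => ?_⟩
  obtain ⟨v, hv, hv0⟩ := hc.exists_hasEigenvector
  rw [Module.End.mem_eigenspace_iff] at hv
  have hsur : Function.Surjective (RefHull.stalkMapₗ (φ - smulMod M (Coh.toGlobal (X ↘ Spec (CommRingCat.of k)) c)) x) :=
    fun w => ⟨RefHull.stalkMapₗ (inv (φ - smulMod M (Coh.toGlobal (X ↘ Spec (CommRingCat.of k)) c))) x w, by
      rw [← DefoSh.stalkMapₗ_comp_apply, IsIso.inv_hom_id, DefoSh.stalkMapₗ_id_apply]⟩
  let χ : V →ₗ[R] V := ψ - f c • LinearMap.id
  have hχ : Function.Surjective χ := fun w => by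
    induction w using Submodule.Quotient.induction_on with
    | _ w =>
      obtain ⟨z, hz⟩ := hsur w
      refine ⟨Submodule.Quotient.mk z, ?_⟩
      rw [← hz]
      have e : RefHull.stalkMapₗ φ x z = RefHull.stalkMapₗ (φ - smulMod M (Coh.toGlobal (X ↘ Spec (CommRingCat.of k)) c)) x z
          + RefHull.stalkMapₗ (smulMod M (Coh.toGlobal (X ↘ Spec (CommRingCat.of k)) c)) x z := by
        rw [← DefoSh.stalkMapₗ_add_apply, sub_add_cancel]
      rw [LinearMap.sub_apply, LinearMap.smul_apply, LinearMap.id_apply]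
      refine (congrArg (· - _) (Submodule.mapQ_apply _ _ (RefHull.stalkMapₗ φ x) z)).trans ?_
      rw [e, stalkMapₗ_smulMod, Submodule.Quotient.mk_add, Submodule.Quotient.mk_smul]
      exact add_sub_cancel_right _ _
  have hinj : Function.Injective (χ.restrictScalars k) :=
    LinearMap.injective_iff_surjective.2 hχ
  refine hv0 (hinj ?_)
  rw [map_zero]
  show ψ v - f c • v = 0
  rw [sub_eq_zero]
  exact hv

end Groth.Agent.EulerLib
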