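import Groth.Agent.EulerLib.DegClass
import Groth.Agent.EulerLib.SupportVanishing
import Groth.Agent.EulerLib.FGABridge
import Groth.Agent.AmpleLib.Ample
import Groth.Agent.DimLib.Components
import Groth.Agent.DimLib.Cut
import Groth.Agent.DimLib.Maximal
import Groth.Agent.DimLib.Sub

/-!
# Positivity of intersection degrees of ample modules
-/

set_option autoImplicit false
set_option linter.style.haveILetI false
set_option backward.isDefEq.respectTransparency.types false

universe u

open CategoryTheory CategoryTheory.Limits AlgebraicGeometry Opposite TopologicalSpace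
open Groth.Agent.Coherent Groth.Agent.PicLib Groth.Agent.AmpleLib Groth.Agent.AssSch12 Groth.Agent.DimLib

namespace Groth.Agent.EulerLib

variable {X : Scheme.{u}}

local notation "St" => DerSch.stalkFunctor X

section Twisting

variable {P : X.Modules} (F : X.Modules) (b : Γ(P, ⊤))

/-- Multiplication by a global section of `P`. -/
noncomputable def mulSec : F ⟶ CohB1.tensorMod F P :=
  ⟨PresheafOfModules.homMk
    { app := fun W => AddCommGrpCat.ofHom (AddMonoidHom.mk'
        (fun a => tmul (show Γ(F, W.unop) from a) (resM P (le_top : W.unop ≤ ⊤) b))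
        (fun a a' => tmul_add_left _ _ _))
      naturality := fun V W i => ConcreteCategory.hom_ext _ _ fun a => by
        show tmul (resM F (leOfHom i.unop) a) _ = resM _ (leOfHom i.unop) (tmul _ _)
        rw [resM_tmul, resM_resM] }
    (fun W r a => tmul_smul_left r _ _)⟩

theorem mulSec_app (U : X.Opens) (a : Γ(F, U)) :
    (mulSec F b).app U a = tmul a (resM P le_top b) := rfl

theorem bijective_stalk_mulSec {y : X} (hy : y ∈ glocus P b) :
    Function.Bijective ((St y).map (mulSec F b)) := by
  have hg := isGen_glocus (L := P) b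
  have h : ∀ u : F.presheaf.stalk y,
      (St y).map (mulSec F b) u = twistStalk (resM P (le_top : glocus P b ≤ ⊤) b) hy F u := by
    intro u
    obtain ⟨V, hV, s, rfl⟩ := F.presheaf.exists_germ_eq u
    erw [stalk_map_germ, twistStalk_germ,
      ← TopCat.Presheaf.germ_res_apply (CohB1.tensorMod F P).presheaf
        (homOfLE (inf_le_left : V ⊓ glocus P b ≤ V)) y ⟨hV, hy⟩]
    refine congrArg _ ?_
    show resM _ _ (tmul s _) = _
    rw [resM_tmul, resM_resM, resM_resM]
  exact ⟨fun u v huv => twistStalk_injective hy hg F ((h u).symm.trans (huv.trans (h v))),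
    fun w => (twistStalk_surjective hy hg F w).imp fun u hu => (h u).trans hu⟩

theorem not_surjective_stalk_mulSec [IsLocallyNoetherian X] (hP : PicF.IsInvertible P) (hF : Coh.IsCoh F)
    {z : X} (hz : z ∉ glocus P b) (hzF : z ∈ CohB1.support F) :
    ¬ Function.Surjective ((St z).map (mulSec F b)) := by
  intro hsur
  obtain ⟨U, hzU, g, hg⟩ := exists_isGen hP z
  let f := hg.coef le_rfl (resM P le_top b)
  have hf : f • g = resM P (le_top : U ≤ ⊤) b := by
    have := hg.coef_spec le_rfl (resM P le_top b)
    rwa [resM_self] at this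
  have hfz : X.presheaf.germ U z hzU f ∈ IsLocalRing.maximalIdeal (X.presheaf.stalk z) := by
    rw [IsLocalRing.mem_maximalIdeal]
    intro hu
    have : z ∈ glocus P b ⊓ U := by
      rw [glocus_inf b hg]
      exact (Scheme.mem_basicOpen _ _ _ hzU).2 hu
    exact hz this.1
  have key : ∀ u : F.presheaf.stalk z, (St z).map (mulSec F b) u =
      X.presheaf.germ U z hzU f • twistStalk g hzU F u := by
    intro u
    obtain ⟨V, hV, s, rfl⟩ := F.presheaf.exists_germ_eq u
    erw [stalk_map_germ, twistStalk_germ,
      ← TopCat.Presheaf.germ_res_apply (CohB1.tensorMod F P).presheaf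
        (homOfLE (inf_le_left : V ⊓ U ≤ V)) z ⟨hV, hzU⟩,
      ← TopCat.Presheaf.germ_res_apply X.presheaf (homOfLE (inf_le_right : V ⊓ U ≤ U)) z ⟨hV, hzU⟩ f,
      ← QCohLoc.germ_smul' (CohB1.tensorMod F P)]
    refine congrArg _ ?_
    show resM _ _ (tmul s _) = _
    rw [resM_tmul, resM_resM, ← tmul_smul_right, ← resM_resM P (le_top : U ≤ ⊤) (inf_le_right : V ⊓ U ≤ U),
      ← hf, resM_smul]
  haveI := finite_stalk (isCoh_twist hP hF) z
  have h0 : (⊤ : Submodule (X.presheaf.stalk z) ((CohB1.tensorMod F P).presheaf.stalk z)) = ⊥ := by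
    refine Submodule.eq_bot_of_le_smul_of_le_jacobson_bot
      (IsLocalRing.maximalIdeal (X.presheaf.stalk z)) ⊤ (Module.Finite.fg_top) (fun w _ => ?_)
      (IsLocalRing.maximalIdeal_le_jacobson _)
    obtain ⟨u, hu⟩ := hsur w
    rw [← hu]
    exact (key u).symm ▸ Submodule.smul_mem_smul hfz trivial
  have : z ∈ CohB1.support (CohB1.tensorMod F P) := by rwa [support_twist hP F]
  exact this (subsingleton_of_forall_eq 0 fun w => (Submodule.mem_bot _).1 (h0 ▸ Submodule.mem_top))

end Twisting

/-- A submodule of `clM y` whose support misses `y` is zero. -/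
theorem isZero_of_mono_clM [IsLocallyNoetherian X] {M : X.Modules} {y : X} (ι : M ⟶ clM y) [Mono ι]
    (hM : Coh.IsCoh M) (hy : y ∉ CohB1.support M) : IsZero M := by
  let V : X.Opens := ⟨(CohB1.support M)ᶜ, (isClosed_support M (locallyFinGen_of_isFT M hM.2)).isOpen_compl⟩
  let η := fun N : X.Modules => (Scheme.Modules.restrictAdjunction V.ι).unit.app N
  haveI : Mono (η (clM y)) := mono_clM_restrictUnit y (V := V) hy
  haveI : Mono (ι ≫ η (clM y)) := mono_comp _ _
  have h0 : ι ≫ η (clM y) = 0 := by
    refine Scheme.Modules.hom_ext _ _ fun W => ConcreteCategory.hom_ext _ _ fun a => ?_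
    have hsub : Subsingleton Γ(M, V.ι ''ᵁ V.ι ⁻¹ᵁ W) :=
      subsingleton_sections_of_disjoint M _ (Set.disjoint_left.2 fun x hx hxs => by
        obtain ⟨w, -, rfl⟩ := hx
        exact w.2 hxs)
    have hnat := congrArg (fun φ => φ.app W a) ((Scheme.Modules.restrictAdjunction V.ι).unit.naturality ι)
    refine hnat.trans ?_
    show ((Scheme.Modules.restrictFunctor V.ι ⋙ Scheme.Modules.pushforward V.ι).map ι).app W
      ((η M).app W a) = 0
    rw [show (η M).app W a = 0 from hsub.elim _ _, map_zero]
  exact IsZero.of_mono_eq_zero _ h0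

/-- A nonzero submodule of `clM y` is all of it at `y`. -/
theorem surjective_stalk_of_mono_clM [IsLocallyNoetherian X] {M : X.Modules} {y : X} (ι : M ⟶ clM y)
    [Mono ι] (hy : y ∈ CohB1.support M) : Function.Surjective ((St y).map ι) := by
  have hsimple : IsSimpleModule (X.presheaf.stalk y) ((clM y).presheaf.stalk y) :=
    Module.length_eq_one_iff.1 (length_stalk_clM y)
  obtain ⟨a, ha⟩ : ∃ a : M.presheaf.stalk y, a ≠ 0 := by
    by_contra h
    push Not at h
    exact hy (subsingleton_of_forall_eq 0 h)
  have hne : (St y).map ι a ≠ 0 := fun h =>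
    ha ((ModuleCat.mono_iff_injective ((St y).map ι)).1 inferInstance (h.trans (map_zero _).symm))
  intro z
  obtain ⟨r, rfl⟩ := IsSimpleModule.toSpanSingleton_surjective (R := X.presheaf.stalk y)
    (show (show (clM y).presheaf.stalk y from (St y).map ι a) ≠ 0 from hne) z
  exact ⟨r • a, map_smul _ r a⟩

theorem nontrivial_global_clM (y : X) : Nontrivial Γ(clM y, ⊤) :=
  ⟨clOne y ⊤, 0, fun h => germ_clOne_ne_zero y (by rw [h, map_zero])⟩

theorem closure_subset_support [IsLocallyNoetherian X] {M : X.Modules} (hM : Coh.IsCoh M) {y : X}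
    (hy : y ∈ CohB1.support M) : closure {y} ⊆ CohB1.support M :=
  (isClosed_support M (locallyFinGen_of_isFT M hM.2)).closure_subset_iff.2 (Set.singleton_subset_iff.2 hy)

theorem support_clM [IsLocallyNoetherian X] (y : X) : CohB1.support (clM y) = closure {y} :=
  (support_clM_subset y).antisymm (closure_subset_support (isCoh_clM y) fun h =>
    germ_clOne_ne_zero y (h.elim _ _))

variable (k : Type u) [Field k] [X.Over (Spec (CommRingCat.of k))]
  [IsProper (X ↘ Spec (CommRingCat.of k))]

include k in
theorem dim_union {A B : Set X} (hA : IsClosed A) (hB : IsClosed B) {r : ℕ}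
    (h1 : topologicalKrullDim A < r) (h2 : topologicalKrullDim B < r) :
    topologicalKrullDim (A ∪ B : Set X) < r := by
  let p := X ↘ Spec (CommRingCat.of k)
  rw [topologicalKrullDim_closed_eq_iSup p hA] at h1
  rw [topologicalKrullDim_closed_eq_iSup p hB] at h2
  rw [topologicalKrullDim_closed_eq_iSup p (hA.union hB)]
  have hb : ∀ x : (A ∪ B : Set X), ptDim p x.1 < r := by
    rintro ⟨x, hx | hx⟩
    · exact_mod_cast lt_of_le_of_lt (le_iSup (fun x : A => (ptDim p x.1 : WithBot ℕ∞)) ⟨x, hx⟩) h1
    · exact_mod_cast lt_of_le_of_lt (le_iSup (fun x : B => (ptDim p x.1 : WithBot ℕ∞)) ⟨x, hx⟩) h2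
  rcases r with _ | r
  · haveI : IsEmpty (A ∪ B : Set X) := ⟨fun x => Nat.not_lt_zero _ (hb x)⟩
    rw [iSup_of_empty]
    exact WithBot.bot_lt_coe _
  · refine lt_of_le_of_lt (iSup_le fun x => ?_) (show ((r : ℕ) : WithBot ℕ∞) < ((r + 1 : ℕ) : WithBot ℕ∞) by
      exact_mod_cast Nat.lt_succ_self r)
    exact_mod_cast Nat.le_of_lt_succ (hb x)

theorem clDeg_chiCl {F : X.Modules} (hF : Coh.IsCoh F) {r : ℕ}
    (hr : topologicalKrullDim (CohB1.support F) ≤ r) : ClDeg (r + 1) (chiCl k F) :=
  finDeg_chiCl k hF (hr.trans_lt (by exact_mod_cast Nat.lt_succ_self r))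

include k in
/-- An integral closed subset of positive dimension is not inside an affine open. -/
theorem not_subset_affine {y : X} {U : X.Opens} (hU : IsAffineOpen U) (h : closure {y} ⊆ (U : Set X)) :
    topologicalKrullDim (closure {y} : Set X) ≤ 0 := by
  haveI := isSeparated_of_proper (X := X) k
  let i := (clI y).subschemeι
  have hi : Set.range i = closure {y} := range_clι y
  have hpre : i ⁻¹ᵁ U = ⊤ := eq_top_iff.2 fun w _ => h (hi.le ⟨w, rfl⟩)
  have haff : IsAffineOpen (⊤ : (clI y).subscheme.Opens) := hpre ▸ hU.preimage i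
  haveI : IsAffine ((⊤ : (clI y).subscheme.Opens) : Scheme.{u}) := haff
  haveI : IsAffine (clI y).subscheme := IsAffine.of_isIso (clI y).subscheme.topIso.inv
  let q := i ≫ (X ↘ Spec (CommRingCat.of k))
  haveI : IsProper q := inferInstance
  haveI : IsAffineHom q := inferInstance
  haveI : IsFinite q := IsFinite.iff_isProper_and_isAffineHom.2 ⟨inferInstance, inferInstance⟩
  have hdim : topologicalKrullDim (clI y).subscheme ≤ 0 := by
    let e := (clI y).subscheme.isoSpec
    have hfin : RingHom.Finite (q.app ⊤).hom := IsFinite.finite_app (f := q) _ (isAffineOpen_top _)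
    haveI : IsDomain Γ((clI y).subscheme, ⊤) := inferInstance
    have hfield : IsField Γ((clI y).subscheme, ⊤) := by
      let ψ : k →+* Γ((clI y).subscheme, ⊤) :=
        (q.app ⊤).hom.comp (Scheme.ΓSpecIso (CommRingCat.of k)).inv.hom
      have hψ : ψ.Finite := hfin.comp (RingHom.Finite.of_surjective _
        (ConcreteCategory.bijective_of_isIso (Scheme.ΓSpecIso (CommRingCat.of k)).inv).2)
      letI := ψ.toAlgebra
      haveI : Module.Finite k Γ((clI y).subscheme, ⊤) := hψ
      haveI : IsArtinianRing Γ((clI y).subscheme, ⊤) := IsArtinianRing.of_finite k _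
      exact IsArtinianRing.isField_of_isDomain _
    rw [(e.hom.homeomorph).isHomeomorph.topologicalKrullDim_eq]
    letI := hfield.toField
    refine (PrimeSpectrum.topologicalKrullDim_eq_ringKrullDim Γ((clI y).subscheme, ⊤)).trans_le ?_
    exact (ringKrullDim_eq_zero_of_field _).le
  rw [← hi]
  let e' : (clI y).subscheme ≃ₜ Set.range i := i.isClosedEmbedding.isEmbedding.toHomeomorph
  rw [← e'.isHomeomorph.topologicalKrullDim_eq]
  exact hdim

/-- Positivity: intersection degrees of ample modules on a coherent module. -/
theorem interDeg_pos : ∀ (r : ℕ) (L : Fin r → X.Modules) (hL : ∀ i, CohB1.IsAmple (L i)) (F : X.Modules),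
    Coh.IsCoh F → topologicalKrullDim (CohB1.support F) = r →
      0 < interDeg (fun i => InvCl.mk (L i) (hL i).1) (chiCl k F) := by
  haveI := isNoetherian_of_proper (X := X) k
  haveI := isSeparated_of_proper (X := X) k
  let p := X ↘ Spec (CommRingCat.of k)
  -- from integral subschemes to all modules
  have red : ∀ (r : ℕ) (L : Fin r → X.Modules) (hL : ∀ i, CohB1.IsAmple (L i)),
      (∀ y : X, topologicalKrullDim (closure {y} : Set X) = r →
        0 < interDeg (fun i => InvCl.mk (L i) (hL i).1) (chiCl k (clM y))) →
      ∀ F : X.Modules, Coh.IsCoh F → topologicalKrullDim (CohB1.support F) = r →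
        0 < interDeg (fun i => InvCl.mk (L i) (hL i).1) (chiCl k F) := by
    intro r L hL hint F hF hr
    let c : Fin r → InvCl X := fun i => InvCl.mk (L i) (hL i).1
    let K : X.Modules → Prop := fun M =>
      (topologicalKrullDim (CohB1.support M) ≤ r → 0 ≤ interDeg c (chiCl k M)) ∧
        (topologicalKrullDim (CohB1.support M) = r → 0 < interDeg c (chiCl k M))
    have hK : ExtClass K :=
      { iso := fun e h => by
          show (_ → _) ∧ (_ → _)
          rw [← chiCl_congr k e, support_eq_of_iso e.symm]
          exact h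
        zero := fun M hM => by
          have he : CohB1.support M = ∅ := Set.subset_empty_iff.1 (support_of_isZero hM ∅)
          have hlt : topologicalKrullDim (CohB1.support M) < r := by
            rw [he]
            haveI : IsEmpty (IrreducibleCloseds (∅ : Set X)) :=
              ⟨fun A => A.2.1.elim fun a _ => a.2⟩
            show Order.krullDim _ < _
            rw [Order.krullDim_eq_bot]
            exact WithBot.bot_lt_coe _
          refine ⟨fun _ => le_of_eq (interDeg_eq_zero c (finDeg_chiCl k (isCoh_of_isZero hM) hlt)).symm,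
            fun h => absurd h hlt.ne⟩
        ext := fun S hS h₁ h₂ h₃ a b => by
          haveI := hS.mono_f
          haveI := hS.epi_g
          have e : interDeg c (chiCl k S.X₂) = interDeg c (chiCl k S.X₁) + interDeg c (chiCl k S.X₃) := by
            rw [chiCl_additive k S hS h₁ h₂ h₃, interDeg_add_fun]
          refine ⟨fun h => ?_, fun h => ?_⟩
          · have := a.1 ((dim_mono (support_subset_of_mono S.f)).trans h)
            have := b.1 ((dim_mono (support_subset_of_epi S.g)).trans h)
            omega
          · have ha := (dim_mono (support_subset_of_mono S.f)).trans h.le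
            have hb := (dim_mono (support_subset_of_epi S.g)).trans h.le
            have := a.1 ha
            have := b.1 hb
            rcases ha.lt_or_eq with ha' | ha'
            · rcases hb.lt_or_eq with hb' | hb'
              · exact absurd h ((lt_of_le_of_lt (dim_mono (support_X₂_subset hS)) (dim_union k
                  (isClosed_support _ (locallyFinGen_of_isFT _ h₁.2))
                  (isClosed_support _ (locallyFinGen_of_isFT _ h₃.2)) ha' hb')).ne)
              · have := b.2 hb'
                omega
            · have := a.2 ha'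
              omega }
    refine (mem_of_ideals hK Set.univ (fun y _ I ι hι hI hI0 => ?_) F hF (Set.subset_univ _)).2 hr
    let i := (clI y).subschemeι
    haveI := hι
    haveI : Mono ((Coh.push i).map ι) :=
      haveI : (Coh.push i).IsRightAdjoint := (Scheme.Modules.pullbackPushforwardAdjunction i).isRightAdjoint
      inferInstance
    haveI := hI
    haveI : Coh.IsQCoh ((Coh.push i).obj I) := isQCoh_push i I
    have hM : Coh.IsCoh ((Coh.push i).obj I) :=
      isCoh_of_mono (show (Coh.push i).obj I ⟶ clM y from (Coh.push i).map ι) (isCoh_clM y) inferInstance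
    let j : (Coh.push i).obj I ⟶ clM y := (Coh.push i).map ι
    haveI : Mono j := inferInstanceAs (Mono ((Coh.push i).map ι))
    have hy : y ∈ CohB1.support ((Coh.push i).obj I) := by
      by_contra hy
      have h0 : (Coh.push i).map (𝟙 I) = (Coh.push i).map 0 := (isZero_of_mono_clM j hM hy).eq_of_src _ _
      exact hI0 ((IsZero.iff_id_eq_zero I).2 ((Coh.push i).map_injective h0))
    have hsub : CohB1.support ((Coh.push i).obj I) = closure {y} :=
      ((support_subset_of_mono j).trans (support_clM_subset y)).antisymm (closure_subset_support hM hy)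
    show (_ → _) ∧ (_ → _)
    rw [hsub]
    rcases lt_trichotomy (topologicalKrullDim (closure {y} : Set X)) (r : ℕ) with h | h | h
    · exact ⟨fun _ => le_of_eq (interDeg_eq_zero c (finDeg_chiCl k hM (hsub ▸ h))).symm,
        fun h' => absurd h' h.ne⟩
    · have hc : Coh.IsCoh (cokernel j) := isCoh_cokernel j hM.1 (isCoh_clM y)
      have hcy : y ∉ CohB1.support (cokernel j) := fun hy' => hy' (subsingleton_of_forall_eq 0 fun a => by
        obtain ⟨x, rfl⟩ := (ModuleCat.epi_iff_surjective ((St y).map (cokernel.π j))).1 inferInstance a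
        obtain ⟨w, rfl⟩ := surjective_stalk_of_mono_clM j hy x
        refine (stalk_comp_apply _ _ _).trans ?_
        rw [cokernel.condition]
        exact stalk_zero_apply _)
      have hlt := dim_lt_of_notMem (isClosed_support _ (locallyFinGen_of_isFT _ hc.2))
        ((support_subset_of_epi (cokernel.π j)).trans (support_clM_subset y)) isClosed_closure rfl hcy h.le
      have e : interDeg c (chiCl k (clM y)) =
          interDeg c (chiCl k ((Coh.push i).obj I)) + interDeg c (chiCl k (cokernel j)) := by
        rw [chiCl_additive k (ShortComplex.mk j (cokernel.π j) (cokernel.condition j))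
          { exact := ShortComplex.exact_cokernel j } hM (isCoh_clM y) hc, interDeg_add_fun]
      have hz := interDeg_eq_zero c (finDeg_chiCl k hc hlt)
      have hp : 0 < interDeg c (chiCl k (clM y)) := hint y h
      exact ⟨fun _ => (by omega : 0 ≤ interDeg c (chiCl k ((Coh.push i).obj I))),
        fun _ => (by omega : 0 < interDeg c (chiCl k ((Coh.push i).obj I)))⟩
    · exact ⟨fun h' => absurd h' (not_le.2 h), fun h' => absurd h' h.ne'⟩
  intro r
  induction r with
  | zero =>
    intro L hL
    refine red 0 L hL fun y hy => ?_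
    rw [interDeg_zero, chiCl_one]
    have hG := isCoh_clM y
    have hsupp := support_clM_subset y
    rw [euler_eq_sum k X (clM y) 0 fun q hq => subsingleton_HH_of_support ⟨_, isClosed_closure⟩ (clM y)
      hG.1 hsupp q (hy.trans_lt (by exact_mod_cast hq))]
    haveI : Module.Finite k (Coh.HH X (clM y) 0) :=
      (finite_HH_iff k (clM y) 0).2 (finCoh_of_isProper (X ↘ Spec (CommRingCat.of k)) _ hG 0)
    haveI : Nontrivial (Coh.HH X (clM y) 0) :=
      haveI : Nontrivial ((Coh.toAb (clM y)).obj.obj (op (⊤ : X.Opens))) := nontrivial_global_clM y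
      ((HHTopEquiv (clM y) 0).trans (secH (X := X.toTopCat) (Coh.toAb (clM y)) (⊤ : X.Opens))).toEquiv.nontrivial
    simp [Module.finrank_pos]
  | succ r ih =>
    intro L hL
    refine red (r + 1) L hL fun y hy => ?_
    obtain ⟨hL0, -, hx⟩ := isAmple_iff_affGlocus.1 (hL 0)
    obtain ⟨m, hm, b, hyb, -, hb⟩ := hx y
    let P := CohB1.tensorPow (L 0) m
    have hP : PicF.IsInvertible P := isInvertible_tensorPow hL0 m
    let G := clM y
    have hG : Coh.IsCoh G := isCoh_clM y
    have hGP := isCoh_twist hP hG
    let u := mulSec G b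
    let T : Set X := closure {y} ∩ (glocus P b : Set X)ᶜ
    have hT : IsClosed T := isClosed_closure.inter (glocus P b).2.isClosed_compl
    haveI := hG.1
    haveI := hGP.1
    have hker : IsZero (kernel u) := isZero_of_mono_clM (kernel.ι u) (isCoh_kernel u hG hGP.1) fun h =>
      h (subsingleton_of_forall_eq 0 fun a => by
        have h1 : (St y).map u ((St y).map (kernel.ι u) a) = 0 := by
          refine (stalk_comp_apply _ _ _).trans ?_
          rw [kernel.condition]
          exact stalk_zero_apply _
        exact (ModuleCat.mono_iff_injective ((St y).map (kernel.ι u))).1 inferInstance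
          (((bijective_stalk_mulSec G b hyb).1 (h1.trans (map_zero _).symm)).trans (map_zero _).symm))
    haveI : Mono u := Preadditive.mono_of_isZero_kernel u hker
    let Q := cokernel u
    have hQ : Coh.IsCoh Q := isCoh_cokernel u hG.1 hGP
    have hGPsupp : CohB1.support (CohB1.tensorMod G P) = closure {y} :=
      (support_twist hP G).trans (support_clM y)
    have hQsupp : CohB1.support Q = T := by
      refine Set.Subset.antisymm (fun z hz => ⟨hGPsupp.le (support_subset_of_epi (cokernel.π u) hz),
        fun hzU => hz (subsingleton_of_forall_eq 0 fun a => ?_)⟩) fun z hz hsub => ?_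
      · obtain ⟨w, rfl⟩ := (ModuleCat.epi_iff_surjective ((St z).map (cokernel.π u))).1 inferInstance a
        obtain ⟨v, rfl⟩ := (bijective_stalk_mulSec G b hzU).2 w
        refine (stalk_comp_apply _ _ _).trans ?_
        rw [cokernel.condition]
        exact stalk_zero_apply _
      · refine not_surjective_stalk_mulSec G b hP hG hz.2 ((support_clM y).ge hz.1) fun w => ?_
        exact ((ShortComplex.ShortExact.moduleCat_exact_iff_function_exact _).1
          ((ShortComplex.exact_cokernel u).map (St z)) w).1 (hsub.elim _ _)
    have hyT : y ∉ T := fun h => h.2 hyb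
    have hTlt := dim_lt_of_notMem hT Set.inter_subset_left isClosed_closure rfl hyT hy.le
    have hTge : (r : WithBot ℕ∞) ≤ topologicalKrullDim T := by
      obtain ⟨z₀, hz₀⟩ : T.Nonempty := by
        by_contra h
        rw [Set.not_nonempty_iff_eq_empty] at h
        have hle : closure {y} ⊆ (glocus P b : Set X) := fun z hz => by
          by_contra hzU
          exact (h.le ⟨hz, hzU⟩ : z ∈ (∅ : Set X))
        have := not_subset_affine k hb hle
        rw [hy] at this
        exact Nat.not_succ_le_zero r (by exact_mod_cast this)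
      obtain ⟨z, hz, -, hmax⟩ := exists_maximal_mem p hz₀ (η := y)
        fun w hw _ => specializes_iff_mem_closure.2 hw.1
      obtain ⟨V₀, hzV₀, g₀, hg₀⟩ := exists_isGen hP z
      obtain ⟨V, hV, hzV, hVV₀⟩ := exists_isAffineOpen_mem_and_subset (x := z) (U := V₀) hzV₀
      have hg := hg₀.restrict (show V ≤ V₀ from hVV₀)
      let f := hg.coef le_rfl (resM P le_top b)
      have hbo : glocus P b ⊓ V = X.basicOpen f := glocus_inf b hg
      have hyz : y ⤳ z := specializes_iff_mem_closure.2 hz.1
      have h1 := ptDim_le_add_of_minimal_zero p hV {f} hyz hzV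
        (fun r' hr' => by
          rw [Finset.mem_singleton.1 hr']
          intro h
          rw [← hbo] at h
          exact hz.2 h.1)
        (fun w hyw hwz hwV hwf => (hmax w ⟨specializes_iff_mem_closure.1 hyw, fun hwU =>
          hwf f (Finset.mem_singleton_self f) (hbo ▸ ⟨hwU, hwV⟩)⟩ hwz).symm)
      rw [Finset.card_singleton] at h1
      have hpy : ptDim p y = r + 1 := by
        have := topologicalKrullDim_eq_ptDim_of_isGenericPoint p (isGenericPoint_closure (x := y))
        rw [hy] at this
        exact_mod_cast this.symm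
      rw [topologicalKrullDim_closed_eq_iSup p hT]
      refine le_trans ?_ (le_iSup (fun x : T => (ptDim p x.1 : WithBot ℕ∞)) ⟨z, hz⟩)
      exact_mod_cast (by omega : r ≤ ptDim p z)
    have hTle : topologicalKrullDim T ≤ (r : ℕ) := by
      generalize topologicalKrullDim T = a at hTlt
      match a with
      | ⊥ => exact bot_le
      | (a : ℕ∞) =>
        rw [Nat.cast_succ] at hTlt
        exact WithBot.coe_le_coe.2 (ENat.lt_natCast_add_one_iff.1 (WithBot.coe_lt_coe.1 hTlt))
    have hQdim : topologicalKrullDim (CohB1.support Q) = r := by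
      rw [hQsupp]
      exact le_antisymm hTle hTge
    have hpos := ih (fun i => L i.succ) (fun i => hL i.succ) Q hQ hQdim
    have hadd := chiCl_additive k (ShortComplex.mk u (cokernel.π u) (cokernel.condition u))
      { exact := ShortComplex.exact_cokernel u } hG hGP hQ
    let a := InvCl.mk (L 0) hL0
    let c : Fin r → InvCl X := fun i => InvCl.mk (L i.succ) (hL i.succ).1
    have hcons : (fun i => InvCl.mk (L i) (hL i).1) = Fin.cons a c := by
      funext i
      induction i using Fin.cases with
      | zero => rfl
      | succ i => rfl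
    have hdeg : ClDeg (r + 2) (chiCl k G) := clDeg_chiCl k hG (r := r + 1) ((dim_mono (support_clM_subset y)).trans hy.le)
    have hfun : (fun x => chiCl k G (a ^ m * x) - chiCl k G x) = chiCl k Q := by
      funext x
      have h1 : a ^ m = InvCl.mk P hP := (InvCl.mk_tensorPow hL0 m).symm
      rw [h1, chiCl_mul k G hP x]
      have h2 := congrFun hadd x
      replace h2 : chiCl k (CohB1.tensorMod G P) x = chiCl k G x + chiCl k Q x := h2
      show chiCl k (CohB1.tensorMod G P) x - chiCl k G x = chiCl k Q x
      omega
    have key : (m : ℤ) * interDeg (Fin.cons a c) (chiCl k G) = interDeg c (chiCl k Q) := by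
      rw [← interDeg_pow a c hdeg m, interDeg_cons, hfun]
    rw [hcons]
    exact pos_of_mul_pos_right (key.symm ▸ hpos) (Int.natCast_nonneg m)

end Groth.Agent.EulerLib
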