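import Groth.Agent.Coherent.DevissageIdeal
import Groth.Agent.Coherent.ProperOverApps

/-!
# The structure sheaf of the closure of a point has stalk of length one there
-/

set_option autoImplicit false

universe u

open CategoryTheory CategoryTheory.Limits AlgebraicGeometry Opposite TopologicalSpace
  Groth.Agent.ModStalk Groth.Agent.AssSch12 Groth.Agent.Coherent

namespace Groth.Agent.EulerLib

variable {X : Scheme.{u}} (y : X)

theorem support_clM_subset : CohB1.support (clM y) ⊆ closure {y} :=
  (support_push_subset (clI y).subschemeι _).trans (range_clι y).le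

theorem killed_clM [IsLocallyNoetherian X] : Killed y 1 (clM y) := by
  refine killed_of_killedByIdeal isClosed_closure subset_rfl (isCoh_clM y) ?_
  have h := killedByIdeal_of_mono (clI y).subschemeι (Coh.structureModule _) (𝟙 (clM y))
  rwa [Scheme.IdealSheafData.ker_subschemeι] at h

theorem germ_clOne_ne_zero :
    (clM y).presheaf.germ (⊤ : X.Opens) y trivial (clOne y ⊤) ≠ 0 := by
  intro h0
  obtain ⟨y', hy'⟩ : y ∈ Set.range (clI y).subschemeι := by
    rw [range_clι]; exact subset_closure rfl
  obtain ⟨W, hW, i₁, i₂, e₁⟩ := TopCat.Presheaf.germ_eq _ y (U := (⊤ : X.Opens)) (V := (⊤ : X.Opens))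
    trivial trivial _ _ (h0.trans (map_zero ((clM y).presheaf.germ (⊤ : X.Opens) y trivial).hom).symm)
  rw [map_zero] at e₁
  let i := (clI y).subschemeι
  have e₂ : (clI y).subscheme.presheaf.map ((Opens.map i.base).map i₁).op
      (1 : Γ((clI y).subscheme, i ⁻¹ᵁ ⊤)) = 0 := e₁
  rw [map_one] at e₂
  have := congrArg ((clI y).subscheme.presheaf.germ (i ⁻¹ᵁ W) y'
    (show i y' ∈ W from hy'.symm ▸ hW)) e₂
  rw [map_one, map_zero] at this
  exact one_ne_zero this

theorem exists_smul_clOne (z : (clM y).presheaf.stalk y) :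
    ∃ r : X.presheaf.stalk y, r • (clM y).presheaf.germ (⊤ : X.Opens) y trivial (clOne y ⊤) = z := by
  obtain ⟨V, hV, s, rfl⟩ := (clM y).presheaf.exists_germ_eq z
  obtain ⟨_, ⟨U, hU, rfl⟩, hyU, hUV⟩ := X.isBasis_affineOpens.exists_subset_of_mem_open hV V.2
  erw [← TopCat.Presheaf.germ_res_apply (clM y).presheaf (homOfLE (hUV : U ≤ V)) y hyU s]
  obtain ⟨r, hr⟩ := (clI y).subschemeι.app_surjective U hU
    ((clM y).presheaf.map (homOfLE (hUV : U ≤ V)).op s)
  refine ⟨X.presheaf.germ U y hyU r, ?_⟩
  erw [← TopCat.Presheaf.germ_res_apply (clM y).presheaf (homOfLE (le_top : U ≤ ⊤)) y hyU (clOne y ⊤)]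
  refine Eq.trans (QCohLoc.germ_smul' (clM y) hyU r _).symm (congrArg _ ?_)
  have h1 : (clM y).presheaf.map (homOfLE (le_top : U ≤ ⊤)).op (clOne y ⊤) = clOne y U :=
    map_one ((clI y).subscheme.presheaf.map _).hom
  rw [h1]
  exact (smul_clOne y U r).trans hr

theorem length_stalk_clM [IsLocallyNoetherian X] :
    Module.length (X.presheaf.stalk y) ((clM y).presheaf.stalk y) = 1 := by
  let m₀ := (clM y).presheaf.germ (⊤ : X.Opens) y trivial (clOne y ⊤)
  let f := LinearMap.toSpanSingleton (X.presheaf.stalk y) _ m₀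
  have hf : Function.Surjective f := exists_smul_clOne y
  have hker : LinearMap.ker f = IsLocalRing.maximalIdeal (X.presheaf.stalk y) := by
    refine ((IsLocalRing.maximalIdeal.isMaximal _).eq_of_le (fun h => ?_) fun r hr => ?_).symm
    · have : (1 : X.presheaf.stalk y) ∈ LinearMap.ker f := by rw [h]; trivial
      rw [LinearMap.mem_ker] at this
      exact germ_clOne_ne_zero y ((one_smul _ m₀).symm.trans this)
    · exact killed_clM y r (by rwa [pow_one]) m₀
  rw [← (f.quotKerEquivOfSurjective hf).length_eq, Module.length_eq_one_iff]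
  exact isSimpleModule_iff_quot_maximal.2 ⟨_, IsLocalRing.maximalIdeal.isMaximal _,
    ⟨Submodule.quotEquivOfEq _ _ hker⟩⟩

end Groth.Agent.EulerLib
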