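import Mathlib.Algebra.Group.ForwardDiff
import Mathlib.Algebra.MvPolynomial.Rename
import Mathlib.Algebra.MvPolynomial.Degrees
import Mathlib.Data.Nat.Cast.Commute
import Mathlib.Data.Rat.Defs
import Mathlib.Algebra.Order.Ring.Rat
import Mathlib.Tactic

/-!
# Functions on `ℕ ^ n` with vanishing iterated differences are polynomials
-/

set_option autoImplicit false

open fwdDiff

namespace Groth.Agent.EulerLib

/-- All differences of order `r` along the directions `e i` vanish. -/
def FinDeg {ι M : Type*} [AddCommMonoid M] (e : ι → M) : ℕ → (M → ℤ) → Prop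
  | 0, f => f = 0
  | r + 1, f => ∀ i, FinDeg e r (Δ_[e i] f)

section Basic

variable {ι κ M N : Type*} [AddCommMonoid M] [AddCommMonoid N] {e : ι → M}

theorem FinDeg.zero : ∀ r, FinDeg e r 0
  | 0 => rfl
  | r + 1 => fun i => by
    rw [show Δ_[e i] (0 : M → ℤ) = 0 from funext fun x => sub_self _]
    exact FinDeg.zero r

theorem FinDeg.succ : ∀ {r : ℕ} {f : M → ℤ}, FinDeg e r f → FinDeg e (r + 1) f
  | 0, f, h => fun i => by
    rw [show f = 0 from h]
    exact funext fun x => sub_self _
  | r + 1, _, h => fun i => (h i).succ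

/-- Pullback along an additive map sending directions to directions, with a shift. -/
theorem FinDeg.comp (e' : κ → N) (φ : N → M) (σ : κ → ι) (hφ : ∀ x j, φ (x + e' j) = φ x + e (σ j)) :
    ∀ {r : ℕ} {f : M → ℤ}, FinDeg e r f → FinDeg e' r (f ∘ φ)
  | 0, f, h => by
    rw [show f = 0 from h]
    rfl
  | r + 1, f, h => fun j => by
    have : Δ_[e' j] (f ∘ φ) = Δ_[e (σ j)] f ∘ φ := funext fun x => by
      show f (φ (x + e' j)) - f (φ x) = f (φ x + e (σ j)) - f (φ x)
      rw [hφ]
    rw [this]
    exact FinDeg.comp e' φ σ hφ (h (σ j))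

theorem FinDeg.iter (i : ι) : ∀ {j r : ℕ} {f : M → ℤ}, FinDeg e (r + j) f → FinDeg e r ((Δ_[e i])^[j] f)
  | 0, _, _, h => h
  | j + 1, r, f, h => by
    rw [Function.iterate_succ_apply]
    exact FinDeg.iter i (h i)

theorem FinDeg.iter_eq_zero (i : ι) {j r : ℕ} {f : M → ℤ} (h : FinDeg e r f) (hj : r ≤ j) :
    (Δ_[e i])^[j] f = 0 := by
  obtain ⟨a, rfl⟩ := Nat.exists_eq_add_of_le hj
  have h' : FinDeg e (0 + (r + a)) f := by
    rw [Nat.zero_add]
    induction a with
    | zero => exact h
    | succ a ih => exact (ih (Nat.le_add_right r a)).succ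
  exact FinDeg.iter i h'

end Basic

/-- The binomial polynomial `x choose j`. -/
noncomputable def binomPoly {σ : Type*} (v : σ) : ℕ → MvPolynomial σ ℚ
  | 0 => 1
  | j + 1 => binomPoly v j * (MvPolynomial.X v - MvPolynomial.C (j : ℚ)) * MvPolynomial.C (1 / (j + 1 : ℚ))

theorem totalDegree_binomPoly {σ : Type*} (v : σ) : ∀ j, (binomPoly v j).totalDegree ≤ j
  | 0 => by simp [binomPoly]
  | j + 1 => by
    refine (MvPolynomial.totalDegree_mul _ _).trans ?_
    rw [MvPolynomial.totalDegree_C, add_zero]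
    refine (MvPolynomial.totalDegree_mul _ _).trans (Nat.add_le_add (totalDegree_binomPoly v j) ?_)
    exact (MvPolynomial.totalDegree_sub_C_le _ _).trans (MvPolynomial.totalDegree_X v).le

theorem eval_binomPoly {σ : Type*} (v : σ) (m : σ → ℕ) :
    ∀ j, MvPolynomial.eval (fun i => (m i : ℚ)) (binomPoly v j) = ((m v).choose j : ℚ)
  | 0 => by simp [binomPoly]
  | j + 1 => by
    simp only [binomPoly, map_mul, map_sub, MvPolynomial.eval_X, MvPolynomial.eval_C, eval_binomPoly v m j]
    have h := congrArg (Nat.cast : ℕ → ℚ) (Nat.choose_succ_right_eq (m v) j)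
    rcases le_or_gt j (m v) with hj | hj
    · push_cast [Nat.cast_sub hj] at h
      field_simp
      linarith
    · rw [Nat.choose_eq_zero_of_lt hj, Nat.choose_eq_zero_of_lt (hj.trans (Nat.lt_succ_self j))]
      simp

/-- Functions with vanishing differences of order `r + 1` are polynomials of total degree `≤ r`. -/
theorem exists_poly_of_finDeg : ∀ (n r : ℕ) (f : (Fin n → ℕ) → ℤ),
    FinDeg (fun i : Fin n => (Pi.single i 1 : Fin n → ℕ)) (r + 1) f →
      ∃ P : MvPolynomial (Fin n) ℚ, P.totalDegree ≤ r ∧ ∀ m, (f m : ℚ) = MvPolynomial.eval (fun i => (m i : ℚ)) P := by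
  intro n
  induction n with
  | zero =>
    intro r f _
    exact ⟨MvPolynomial.C (f 0 : ℚ), (MvPolynomial.totalDegree_C _).le.trans r.zero_le, fun m => by simp [Subsingleton.elim m 0]⟩
  | succ n ih =>
    intro r f hf
    let ι₀ : (Fin n → ℕ) → (Fin (n + 1) → ℕ) := fun m => Fin.snoc m 0
    have hι : ∀ (x : Fin n → ℕ) (j : Fin n), ι₀ (x + Pi.single j 1) = ι₀ x + Pi.single j.castSucc 1 := by
      intro x j
      funext i
      induction i using Fin.lastCases with
      | last => simp [ι₀]
      | cast i =>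
        simp only [ι₀, Pi.add_apply, Fin.snoc_castSucc]
        by_cases h : i = j
        · subst h; simp
        · rw [Pi.single_eq_of_ne h, Pi.single_eq_of_ne (fun e => h (Fin.castSucc_injective _ e))]
    let D : ℕ → (Fin n → ℕ) → ℤ := fun k => (Δ_[(Pi.single (Fin.last n) 1 : Fin (n + 1) → ℕ)])^[k] f ∘ ι₀
    have hD : ∀ k ∈ Finset.range (r + 1), FinDeg (fun i : Fin n => (Pi.single i 1 : Fin n → ℕ)) (r - k + 1) (D k) := by
      intro k hk
      have hk' := Finset.mem_range.1 hk
      refine FinDeg.comp (e := fun i : Fin (n + 1) => (Pi.single i 1 : Fin (n + 1) → ℕ)) _ ι₀ Fin.castSucc hι (FinDeg.iter (e := fun i : Fin (n + 1) => (Pi.single i 1 : Fin (n + 1) → ℕ)) (Fin.last n) ?_)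
      rwa [show r - k + 1 + k = r + 1 by omega]
    choose Q hQd hQe using fun (k : ℕ) (hk : k ∈ Finset.range (r + 1)) => ih (r - k) (D k) (hD k hk)
    refine ⟨∑ k ∈ (Finset.range (r + 1)).attach, binomPoly (Fin.last n) k.1 * MvPolynomial.rename Fin.castSucc (Q k.1 k.2),
      MvPolynomial.totalDegree_finsetSum_le fun k _ => ?_, fun m => ?_⟩
    · refine (MvPolynomial.totalDegree_mul _ _).trans ?_
      have h1 := totalDegree_binomPoly (Fin.last n) k.1
      have h2 := (MvPolynomial.totalDegree_rename_le Fin.castSucc (Q k.1 k.2)).trans (hQd k.1 k.2)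
      have h3 := Finset.mem_range.1 k.2
      omega
    · obtain ⟨x, t, rfl⟩ : ∃ (x : Fin n → ℕ) (t : ℕ), Fin.snoc x t = m :=
        ⟨Fin.init m, m (Fin.last n), Fin.snoc_init_self m⟩
      have hm : (Fin.snoc x t : Fin (n + 1) → ℕ) = ι₀ x + t • (Pi.single (Fin.last n) 1 : Fin (n + 1) → ℕ) := by
        funext i
        induction i using Fin.lastCases with
        | last => simp [ι₀]
        | cast i => simp [ι₀]
      have hN : f (Fin.snoc x t) = ∑ k ∈ Finset.range (r + 1), (t.choose k : ℤ) * D k x := by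
        rw [hm, shift_eq_sum_fwdDiff_iter (Pi.single (Fin.last n) 1) f t (ι₀ x)]
        simp only [nsmul_eq_mul]
        rcases le_total (r + 1) (t + 1) with h | h
        · refine (Finset.sum_subset (Finset.range_mono h) fun k _ hk => ?_).symm
          rw [FinDeg.iter_eq_zero (Fin.last n) hf (by simpa using hk)]
          simp
        · refine Finset.sum_subset (Finset.range_mono h) fun k _ hk => ?_
          rw [Nat.choose_eq_zero_of_lt (by simpa using hk)]
          simp
      rw [hN, ← Finset.sum_attach, map_sum]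
      push_cast
      refine Finset.sum_congr rfl fun k _ => ?_
      rw [map_mul, eval_binomPoly, MvPolynomial.eval_rename, Fin.snoc_last, hQe k.1 k.2 x]
      congr 3
      funext i
      simp

end Groth.Agent.EulerLib
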