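import Groth.Agent.Coherent.Devissage

/-!
# Additive functions vanishing on smaller supports see only the generic stalk
-/

set_option autoImplicit false

universe u v

open CategoryTheory CategoryTheory.Limits AlgebraicGeometry Opposite TopologicalSpace
  Groth.Agent.ModStalk Groth.Agent.AssSch12 Groth.Agent.Coherent

namespace Groth.Agent.EulerLib

variable {X : Scheme.{u}}

local notation "St" => DerSch.stalkFunctor X

variable [IsLocallyNoetherian X] {A : Type v} [AddCommGroup A] {ψ : X.Modules → A}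
  (hψ : ∀ S : ShortComplex X.Modules, S.ShortExact → Coh.IsCoh S.X₁ → Coh.IsCoh S.X₂ → Coh.IsCoh S.X₃ →
    ψ S.X₂ = ψ S.X₁ + ψ S.X₃) {y : X} {Z : Set X}
  (hsm : ∀ M : X.Modules, Coh.IsCoh M → CohB1.support M ⊆ Z → y ∉ CohB1.support M → ψ M = 0)

include hψ hsm

theorem eq_of_isIso_stalk {E F : X.Modules} (φ : E ⟶ F) (hE : Coh.IsCoh E) (hF : Coh.IsCoh F)
    (hEZ : CohB1.support E ⊆ Z) (hFZ : CohB1.support F ⊆ Z)
    (hφ : Function.Bijective ((St y).map φ)) : ψ E = ψ F := by
  have := hE.1
  have := hF.1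
  let ι := Abelian.image.ι φ
  let π := Abelian.factorThruImage φ
  have hI : Coh.IsQCoh (Abelian.image φ) := isQCoh_image φ
  have hIm : Coh.IsCoh (Abelian.image φ) := isCoh_of_mono ι hF hI
  have hker : Coh.IsCoh (kernel φ) := isCoh_kernel φ hE hF.1
  have hcok : Coh.IsCoh (cokernel φ) := isCoh_cokernel φ hE.1 hF
  have hKk : ψ (kernel φ) = 0 := hsm _ hker ((support_subset_of_mono (kernel.ι φ)).trans hEZ) <|
    fun hy => hy (subsingleton_of_forall_eq 0 fun a => by
      have h : ((St y).map φ) (((St y).map (kernel.ι φ)) a) = 0 := by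
        refine (stalk_comp_apply _ _ _).trans ?_
        rw [kernel.condition]; exact stalk_zero_apply _
      exact (ModuleCat.mono_iff_injective ((St y).map (kernel.ι φ))).1 inferInstance
        ((hφ.1 (h.trans (map_zero _).symm)).trans (map_zero _).symm))
  have hKc : ψ (cokernel φ) = 0 := hsm _ hcok ((support_subset_of_epi (cokernel.π φ)).trans hFZ) <|
    fun hy => hy (subsingleton_of_forall_eq 0 fun a => by
      obtain ⟨b, rfl⟩ := (ModuleCat.epi_iff_surjective ((St y).map (cokernel.π φ))).1 inferInstance a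
      obtain ⟨c, rfl⟩ := hφ.2 b
      refine (stalk_comp_apply _ _ _).trans ?_
      rw [cokernel.condition]; exact stalk_zero_apply _)
  let S₁ : ShortComplex X.Modules := ShortComplex.mk (kernel.ι φ) π (by
    rw [← cancel_mono ι, Category.assoc, Abelian.image.fac, kernel.condition, zero_comp])
  have hS₁ : S₁.ShortExact :=
    { mono_f := inferInstanceAs (Mono (kernel.ι φ))
      epi_g := inferInstanceAs (Epi (Abelian.factorThruImage φ))
      exact := ShortComplex.exact_of_f_is_kernel _
        (isKernelOfComp (f := π) ι φ (kernelIsKernel φ) S₁.zero (Abelian.image.fac φ)) }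
  let S₂ : ShortComplex X.Modules :=
    ShortComplex.mk ι (cokernel.π φ) (kernel.condition (cokernel.π φ))
  have hS₂ : S₂.ShortExact :=
    { exact := ShortComplex.exact_of_f_is_kernel _ (kernelIsKernel (cokernel.π φ))
      mono_f := inferInstanceAs (Mono (kernel.ι (cokernel.π φ)))
      epi_g := inferInstanceAs (Epi (cokernel.π φ)) }
  have a₁ : ψ E = ψ (kernel φ) + ψ (Abelian.image φ) := hψ S₁ hS₁ hker hE hIm
  have b₁ : ψ F = ψ (Abelian.image φ) + ψ (cokernel φ) := hψ S₂ hS₂ hIm hF hcok
  rw [a₁, b₁, hKk, hKc, zero_add, add_zero]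

/-- Modules with isomorphic stalks of finite length at `y`. -/
theorem eq_of_stalk_iso {F G : X.Modules} (hF : Coh.IsCoh F) (hG : Coh.IsCoh G)
    (hFZ : CohB1.support F ⊆ Z) (hGZ : CohB1.support G ⊆ Z)
    (e : (St y).obj F ≅ (St y).obj G) {k : ℕ} (hk : Killed y k G) : ψ F = ψ G := by
  have := hF.1
  have := hG.1
  have hA : Coh.IsQCoh ((sky y).obj ((St y).obj G)) := isQCoh_sky_of_killed y k hk
  let a := skyMap y e.hom
  let b := skyMap y (𝟙 ((St y).obj G))
  let S : ShortComplex X.Modules := ShortComplex.mk (biprod.inl : F ⟶ F ⊞ G) biprod.snd (by simp)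
  have hS := (ShortComplex.Splitting.ofHasBinaryBiproduct F G).shortExact
  have hP : Coh.IsCoh (F ⊞ G) := isCoh_X₂ hS hF hG
  let d : F ⊞ G ⟶ (sky y).obj ((St y).obj G) := biprod.desc a (-b)
  have := hP.1
  have hq : Coh.IsQCoh (kernel d) := isQCoh_kernel d
  have hE : Coh.IsCoh (kernel d) := isCoh_of_mono (kernel.ι d) hP hq
  have hEZ : CohB1.support (kernel d) ⊆ Z :=
    (support_subset_of_mono (kernel.ι d)).trans
      ((support_X₂_subset hS).trans (Set.union_subset hFZ hGZ))
  let T : ShortComplex X.Modules := ShortComplex.mk (kernel.ι d) d (kernel.condition d)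
  have hT : T.Exact := ShortComplex.exact_kernel d
  have hTy := (ShortComplex.ShortExact.moduleCat_exact_iff_function_exact _).1 (hT.map (St y))
  have hdec : ∀ p : (St y).obj (F ⊞ G), (St y).map d p =
      (St y).map a ((St y).map biprod.fst p) - (St y).map b ((St y).map biprod.snd p) := fun p => by
    have : d = biprod.fst ≫ a - biprod.snd ≫ b := by
      apply biprod.hom_ext' <;> simp [d]
    rw [this, Functor.map_sub, Functor.map_comp, Functor.map_comp]
    rfl
  have hpair : ∀ (u : (St y).obj F) (v : (St y).obj G), e.hom u = v →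
      ∃ w, (St y).map (kernel.ι d ≫ biprod.fst) w = u ∧
        (St y).map (kernel.ι d ≫ biprod.snd) w = v := fun u v huv => by
    let p := (St y).map (biprod.inl : F ⟶ F ⊞ G) u + (St y).map (biprod.inr : G ⟶ F ⊞ G) v
    have h1 : (St y).map (biprod.fst : F ⊞ G ⟶ F) p = u := by
      simp only [p, map_add]
      rw [stalk_comp_apply, stalk_comp_apply, biprod.inl_fst, biprod.inr_fst, stalk_id_apply,
        stalk_zero_apply, add_zero]
    have h2 : (St y).map (biprod.snd : F ⊞ G ⟶ G) p = v := by
      simp only [p, map_add]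
      rw [stalk_comp_apply, stalk_comp_apply, biprod.inl_snd, biprod.inr_snd, stalk_id_apply,
        stalk_zero_apply, zero_add]
    obtain ⟨w, hw⟩ := (hTy p).1 (by
      refine (hdec p).trans ?_
      rw [h1, h2]
      exact sub_eq_zero.2 ((stalk_skyMap_eq_iff y e.hom (𝟙 _) u v).2 huv))
    exact ⟨w, by rw [Functor.map_comp]; exact (congrArg _ hw).trans h1,
      by rw [Functor.map_comp]; exact (congrArg _ hw).trans h2⟩
  have hsplit : ∀ w : (St y).obj (kernel d),
      e.hom ((St y).map (kernel.ι d ≫ biprod.fst) w) =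
        (St y).map (kernel.ι d ≫ biprod.snd) w := fun w => by
    refine (stalk_skyMap_eq_iff y e.hom (𝟙 _) _ _).1 (sub_eq_zero.1 ?_)
    rw [Functor.map_comp, Functor.map_comp]
    exact (hdec _).symm.trans (hTy.apply_apply_eq_zero w)
  have hzero : ∀ w : (St y).obj (kernel d), (St y).map (kernel.ι d ≫ biprod.fst) w = 0 →
      w = 0 := fun w h => by
    have h' : (St y).map (kernel.ι d ≫ biprod.snd) w = 0 := by rw [← hsplit, h, map_zero]
    rw [Functor.map_comp] at h h'
    apply (ModuleCat.mono_iff_injective ((St y).map (kernel.ι d))).1 inferInstance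
    rw [map_zero]
    have htot : biprod.fst ≫ biprod.inl + biprod.snd ≫ biprod.inr = 𝟙 (F ⊞ G) := biprod.total
    set p := (St y).map (kernel.ι d) w
    rw [← stalk_id_apply _ p, ← htot, stalk_add_apply, ← stalk_comp_apply, ← stalk_comp_apply]
    have h1 : (St y).map (biprod.fst : F ⊞ G ⟶ F) p = 0 := h
    have h2 : (St y).map (biprod.snd : F ⊞ G ⟶ G) p = 0 := h'
    rw [h1, h2, map_zero, map_zero, add_zero]
  have hf : Function.Bijective ((St y).map (kernel.ι d ≫ biprod.fst)) :=
    ⟨(injective_iff_map_eq_zero _).2 hzero, fun u => (hpair u _ rfl).imp fun _ h => h.1⟩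
  have hg : Function.Bijective ((St y).map (kernel.ι d ≫ biprod.snd)) :=
    ⟨(injective_iff_map_eq_zero _).2 fun w h => hzero w (e.toLinearEquiv.injective (by
      exact ((hsplit w).trans h).trans (map_zero _).symm)),
      fun v => (hpair (e.inv v) v (by simp)).imp fun _ h => h.2⟩
  exact (eq_of_isIso_stalk hψ hsm _ hE hF hEZ hFZ hf).symm.trans
    (eq_of_isIso_stalk hψ hsm _ hE hG hEZ hGZ hg)

end Groth.Agent.EulerLib
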