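import Groth.Agent.EulerLib.Additive
import Groth.Agent.EulerLib.Twist
import Groth.Agent.EulerLib.StalkAdditive
import Groth.Agent.EulerLib.Poly
import Groth.Agent.Coherent.DevissageMain
import Groth.Agent.EulerLib.ClosurePoint

/-!
# Snapper's theorem: the degree of `N ↦ χ(F ⊗ N)` is bounded by the dimension of the support
-/

set_option autoImplicit false
set_option linter.style.haveILetI false

universe u

open CategoryTheory CategoryTheory.Limits AlgebraicGeometry Opposite TopologicalSpace Topology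
open Groth.Agent.Coherent Groth.Agent.PicLib Groth.Agent.AmpleLib Groth.Agent.AssSch12

namespace Groth.Agent.EulerLib

section Dim

variable {X : Type*} [TopologicalSpace X]

theorem dim_mono {S T : Set X} (h : S ⊆ T) : topologicalKrullDim S ≤ topologicalKrullDim T :=
  (IsEmbedding.inclusion h).isInducing.topologicalKrullDim_le

/-- A closed subset missing the generic point of an irreducible closed set has smaller dimension. -/
theorem dim_lt_of_notMem {T Z : Set X} (hT : IsClosed T) (hTZ : T ⊆ Z) (hZ : IsClosed Z) {y : X}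
    (hy : closure {y} = Z) (hyT : y ∉ T) {r : ℕ} (hr : topologicalKrullDim Z ≤ r) :
    topologicalKrullDim T < r := by
  have hyZ : y ∈ Z := hy ▸ subset_closure rfl
  have hirr : IsIrreducible (Set.univ : Set Z) :=
    (irreducibleSpace_def _).1 (Subtype.irreducibleSpace (hy ▸ isIrreducible_singleton.closure))
  let top : IrreducibleCloseds Z := ⟨Set.univ, hirr, isClosed_univ⟩
  have hi := (IsEmbedding.inclusion hTZ).isInducing
  let F : IrreducibleCloseds T → IrreducibleCloseds Z := IrreducibleCloseds.map _ hi.continuous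
  have hF : StrictMono F := IrreducibleCloseds.map_strictMono_of_isInducing hi
  have hlt : ∀ A, F A < top := fun A => by
    refine lt_of_le_of_ne (fun z _ => trivial) fun h => ?_
    have hy' : (⟨y, hyZ⟩ : Z) ∈ (F A : Set Z) := by
      rw [h]; trivial
    have hsub : (F A : Set Z) ⊆ Subtype.val ⁻¹' T :=
      closure_minimal (by rintro _ ⟨t, _, rfl⟩; exact t.2) (hT.preimage continuous_subtype_val)
    exact hyT (hsub hy')
  have key : ∀ p : LTSeries (IrreducibleCloseds T), p.length + 1 ≤ r := by
    intro p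
    have h1 := (Order.LTSeries.length_le_krullDim ((p.map F hF).snoc top (hlt _))).trans hr
    rw [RelSeries.snoc_length, LTSeries.map_length] at h1
    exact_mod_cast h1
  rcases r with _ | r
  · have : IsEmpty (IrreducibleCloseds T) := ⟨fun A => by simpa using key (RelSeries.singleton _ A)⟩
    show Order.krullDim _ < _
    rw [Order.krullDim_eq_bot]
    exact WithBot.bot_lt_coe _
  · refine lt_of_le_of_lt (b := ((r : ℕ) : WithBot ℕ∞)) ?_ (by exact_mod_cast Nat.lt_succ_self r)
    refine iSup_le fun p => ?_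
    exact_mod_cast Nat.le_of_succ_le_succ (key p)

end Dim

variable {X : Scheme.{u}}

/-- Invertible modules. -/
abbrev Inv (X : Scheme.{u}) : Type (u + 1) := {L : X.Modules // PicF.IsInvertible L}

/-- The product of invertible modules. -/
noncomputable def Inv.mul (L N : Inv X) : Inv X :=
  ⟨CohB1.tensorMod L.1 N.1, isInvertible_tensorMod L.2 N.2⟩

/-- The difference along an invertible module. -/
noncomputable def diff (L : Inv X) (φ : Inv X → ℤ) : Inv X → ℤ := fun N => φ (L.mul N) - φ N

/-- All differences of order `r` vanish. -/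
def DegLT : ℕ → (Inv X → ℤ) → Prop
  | 0, φ => φ = 0
  | r + 1, φ => ∀ L : Inv X, DegLT r (diff L φ)

theorem degLT_zero : ∀ r, DegLT r (0 : Inv X → ℤ)
  | 0 => rfl
  | r + 1 => fun L => by
    rw [show diff L (0 : Inv X → ℤ) = 0 from funext fun N => sub_self _]
    exact degLT_zero r

theorem DegLT.add : ∀ {r : ℕ} {φ ψ : Inv X → ℤ}, DegLT r φ → DegLT r ψ → DegLT r (φ + ψ)
  | 0, φ, ψ, h₁, h₂ => by
    rw [show φ = 0 from h₁, show ψ = 0 from h₂]
    exact add_zero (0 : Inv X → ℤ)
  | r + 1, φ, ψ, h₁, h₂ => fun L => by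
    rw [show diff L (φ + ψ) = diff L φ + diff L ψ from funext fun N => add_sub_add_comm _ _ _ _]
    exact (h₁ L).add (h₂ L)

theorem DegLT.neg : ∀ {r : ℕ} {φ : Inv X → ℤ}, DegLT r φ → DegLT r (-φ)
  | 0, φ, h => by
    rw [show φ = 0 from h]
    exact neg_zero (G := Inv X → ℤ)
  | r + 1, φ, h => fun L => by
    rw [show diff L (-φ) = -diff L φ from funext fun N => by
      show -φ _ - -φ _ = -(φ _ - φ _)
      ring]
    exact (h L).neg

theorem DegLT.succ : ∀ {r : ℕ} {φ : Inv X → ℤ}, DegLT r φ → DegLT (r + 1) φ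
  | 0, φ, h => fun L => by
    rw [show φ = 0 from h]
    exact funext fun N => sub_self _
  | r + 1, _, h => fun L => (h L).succ

theorem DegLT.mono {r s : ℕ} {φ : Inv X → ℤ} (h : DegLT r φ) (hrs : r ≤ s) : DegLT s φ := by
  induction hrs with
  | refl => exact h
  | step _ ih => exact ih.succ

/-- Functions of degree `< r`. -/
def degSubgroup (X : Scheme.{u}) (r : ℕ) : AddSubgroup (Inv X → ℤ) where
  carrier := {φ | DegLT r φ}
  zero_mem' := degLT_zero r
  add_mem' := DegLT.add
  neg_mem' := DegLT.neg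

/-- `φ` takes equal values on isomorphic modules. -/
def IsoInv (φ : Inv X → ℤ) : Prop := ∀ N N' : Inv X, Nonempty (N.1 ≅ N'.1) → φ N = φ N'

theorem IsoInv.diff {φ : Inv X → ℤ} (h : IsoInv φ) (L : Inv X) : IsoInv (diff L φ) := by
  rintro N N' ⟨e⟩
  exact congrArg₂ (· - ·) (h _ _ ⟨tensorIso (Iso.refl L.1) e⟩) (h _ _ ⟨e⟩)

/-- A function of bounded degree on invertible modules gives a polynomial on families. -/
theorem exists_poly_of_degLT {n r : ℕ} {φ : Inv X → ℤ} (hφ : DegLT (r + 1) φ) (hi : IsoInv φ)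
    (L : Fin n → Inv X) (T : (Fin n → ℕ) → Inv X)
    (hT : ∀ m i, Nonempty ((T (m + Pi.single i 1)).1 ≅ ((L i).mul (T m)).1)) :
    ∃ P : MvPolynomial (Fin n) ℚ, P.totalDegree ≤ r ∧
      ∀ m, (φ (T m) : ℚ) = MvPolynomial.eval (fun i => (m i : ℚ)) P := by
  refine exists_poly_of_finDeg n r (φ ∘ T) ?_
  suffices h : ∀ s (ψ : Inv X → ℤ), DegLT s ψ → IsoInv ψ →
      FinDeg (fun i : Fin n => (Pi.single i 1 : Fin n → ℕ)) s (ψ ∘ T) from h _ φ hφ hi
  intro s
  induction s with
  | zero =>
    intro ψ h _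
    rw [show ψ = 0 from h]
    rfl
  | succ s ih =>
    intro ψ h hiso i
    rw [show fwdDiff (Pi.single i 1) (ψ ∘ T) = diff (L i) ψ ∘ T from funext fun m => by
      show ψ (T (m + _)) - ψ (T m) = ψ _ - ψ (T m)
      rw [hiso _ _ (hT m i)]]
    exact ih _ (h (L i)) (hiso.diff _)

/-- Associativity of twists, with arbitrary first factor. -/
theorem exists_assocIso' (F : X.Modules) {L M : X.Modules} (hL : PicF.IsInvertible L)
    (hM : PicF.IsInvertible M) :
    Nonempty (CohB1.tensorMod (CohB1.tensorMod F L) M ≅ CohB1.tensorMod F (CohB1.tensorMod L M)) := by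
  obtain ⟨α, hα⟩ := exists_assocHom F M hL
  have key : ∀ (y : X), ∃ (W : X.Opens) (g : Γ(L, W)) (h : Γ(M, W)), y ∈ W ∧ IsGen L W g ∧ IsGen M W h := by
    intro y
    obtain ⟨U, hyU, g, hg⟩ := exists_isGen hL y
    obtain ⟨V, hyV, h, hh⟩ := exists_isGen hM y
    exact ⟨U ⊓ V, _, _, ⟨hyU, hyV⟩, hg.restrict inf_le_left, hh.restrict inf_le_right⟩
  have hrep : ∀ (W : X.Opens) (g : Γ(L, W)) (h : Γ(M, W)), IsGen L W g → IsGen M W h →
      ∀ (V : X.Opens) (hV : V ≤ W), Function.Bijective (fun a : Γ(F, V) =>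
        (tmul (tmul a (resM L hV g)) (resM M hV h) :
          Γ(CohB1.tensorMod (CohB1.tensorMod F L) M, V))) ∧
      Function.Bijective (fun a : Γ(F, V) => (tmul a (tmul (resM L hV g) (resM M hV h)) :
          Γ(CohB1.tensorMod F (CohB1.tensorMod L M), V))) := by
    intro W g h hg hh V hV
    refine ⟨(bijective_tmul_gen (M := CohB1.tensorMod F L) hh V hV).comp (bijective_tmul_gen (M := F) hg V hV), ?_⟩
    have hb := bijective_tmul_gen (M := F) (isGen_tmul hg hh) V hV
    simp only [resM_tmul] at hb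
    exact hb
  have hmono : Mono α := by
    have hinj : ∀ (U : X.Opens) (a : Γ(CohB1.tensorMod (CohB1.tensorMod F L) M, U)), α.app U a = 0 → a = 0 := by
      intro U a ha
      refine sec_ext _ _ _ fun y hy => ?_
      obtain ⟨W, g, h, hyW, hg, hh⟩ := key y
      refine ⟨U ⊓ W, inf_le_left, ⟨hy, hyW⟩, ?_⟩
      obtain ⟨hb₁, hb₂⟩ := hrep W g h hg hh (U ⊓ W) inf_le_right
      obtain ⟨x, hx⟩ := hb₁.2 (resM _ inf_le_left a)
      have h0 := congrArg (resM _ (inf_le_left : U ⊓ W ≤ U)) ha
      rw [← app_resM, ← hx, map_zero] at h0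
      erw [hα] at h0
      rw [map_zero, ← hx]
      show tmul (tmul x _) _ = 0
      rw [hb₂.1 (h0.trans (tmul_zero_left _).symm), tmul_zero_left, tmul_zero_left]
    refine ⟨fun a b hab => Scheme.Modules.hom_ext _ _ fun U => ?_⟩
    ext t
    rw [← sub_eq_zero]
    refine hinj U _ ?_
    rw [map_sub, sub_eq_zero]
    exact ConcreteCategory.congr_hom (congrArg (fun φ => Scheme.Modules.Hom.app φ U) hab) t
  have hepi : Epi α := by
    refine epi_of_locally_surjective _ fun U a y hy => ?_
    obtain ⟨W, g, h, hyW, hg, hh⟩ := key y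
    obtain ⟨x, hx⟩ := (hrep W g h hg hh (U ⊓ W) inf_le_right).2.2 (resM _ inf_le_left a)
    exact ⟨U ⊓ W, inf_le_left, ⟨hy, hyW⟩, _, (hα _ x _ _).trans hx⟩
  have := isIso_of_mono_of_epi α
  exact ⟨asIso α⟩

variable (k : Type u) [Field k] [X.Over (Spec (CommRingCat.of k))]

/-- `N ↦ χ(F ⊗ N)`. -/
noncomputable def chiTwist (F : X.Modules) : Inv X → ℤ :=
  fun N => Curv2.euler k X (CohB1.tensorMod F N.1)

theorem isoInv_chiTwist (F : X.Modules) : IsoInv (chiTwist k F) := fun _ _ ⟨e⟩ =>
  euler_congr k X (tensorIso (Iso.refl F) e)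

theorem chiTwist_congr {F F' : X.Modules} (e : F ≅ F') : chiTwist k F = chiTwist k F' :=
  funext fun N => euler_congr k X (tensorIso e (Iso.refl N.1))

theorem diff_chiTwist (F : X.Modules) (L : Inv X) :
    diff L (chiTwist k F) = chiTwist k (CohB1.tensorMod F L.1) - chiTwist k F := by
  funext N
  obtain ⟨e⟩ := exists_assocIso' F L.2 N.2
  show Curv2.euler k X _ - _ = Curv2.euler k X _ - _
  rw [euler_congr k X e]
  rfl

theorem chiTwist_of_support_empty [IsLocallyNoetherian X] (F : X.Modules) (h : CohB1.support F = ∅) :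
    chiTwist k F = 0 := by
  funext N
  refine euler_of_isZero k X (ModStalk.isZero_of_stalks fun y => (notMem_support_iff _ y).1 ?_)
  rw [support_twist N.2 F, h]
  exact Set.notMem_empty y

variable [IsProper (X ↘ Spec (CommRingCat.of k))]

theorem chiTwist_additive [IsLocallyNoetherian X] (S : ShortComplex X.Modules) (hS : S.ShortExact)
    (h₁ : Coh.IsCoh S.X₁) (h₂ : Coh.IsCoh S.X₂) (h₃ : Coh.IsCoh S.X₃) :
    chiTwist k S.X₂ = chiTwist k S.X₁ + chiTwist k S.X₃ :=
  funext fun N => euler_additive k X (twistSeq S N.1) (twistSeq_shortExact N.2 hS)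
    (isCoh_twist N.2 h₁) (isCoh_twist N.2 h₂) (isCoh_twist N.2 h₃)

include k in
theorem isNoetherian_of_proper : AlgebraicGeometry.IsNoetherian X := by
  haveI : IsLocallyNoetherian X := LocallyOfFiniteType.isLocallyNoetherian (X ↘ Spec (CommRingCat.of k))
  haveI : CompactSpace X := QuasiCompact.compactSpace_of_compactSpace (X ↘ Spec (CommRingCat.of k))
  exact {}

/-- Snapper: `χ(F ⊗ -)` has degree `< r` when the support has dimension `< r`. -/
theorem degLT_chiTwist : ∀ (r : ℕ) (F : X.Modules), Coh.IsCoh F →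
    topologicalKrullDim (CohB1.support F) < r → DegLT r (chiTwist k F) := by
  haveI := isNoetherian_of_proper (X := X) k
  intro r
  induction r with
  | zero =>
    intro F hF hr
    refine chiTwist_of_support_empty k F (Set.eq_empty_iff_forall_notMem.2 fun y hy => ?_)
    haveI : Nonempty (IrreducibleCloseds (CohB1.support F)) :=
      ⟨⟨closure {⟨y, hy⟩}, isIrreducible_singleton.closure, isClosed_closure⟩⟩
    exact not_le.2 hr (Order.krullDim_nonneg)
  | succ r ih =>
    intro F hF hr
    let K : X.Modules → Prop := fun M => DegLT (r + 1) (chiTwist k M)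
    have hK : DevClass K :=
      { iso := fun e h => by
          show DegLT _ _
          rw [← chiTwist_congr k e]
          exact h
        zero := fun M hM => by
          show DegLT _ _
          rw [show chiTwist k M = 0 from chiTwist_of_support_empty k M
            (Set.subset_empty_iff.1 (support_of_isZero hM ∅))]
          exact degLT_zero _
        ses := fun S hS h₁ h₂ h₃ => by
          have e := chiTwist_additive k S hS h₁ h₂ h₃
          refine ⟨fun a b => ?_, fun a b => ?_, fun a b => ?_⟩ <;> show DegLT _ _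
          · rw [show chiTwist k S.X₃ = chiTwist k S.X₂ + -chiTwist k S.X₁ by rw [e]; abel]
            exact b.add a.neg
          · rw [e]
            exact a.add b
          · rw [show chiTwist k S.X₁ = chiTwist k S.X₂ + -chiTwist k S.X₃ by rw [e]; abel]
            exact a.add b.neg }
    have hcl : IsClosed (CohB1.support F) := isClosed_support F (locallyFinGen_of_isFT F hF.2)
    refine mem_of_support hK.toExt (CohB1.support F) (fun Z hZ hZi hZX y hy Z₀ hZ₀ hsm => ?_)
      ⟨_, hcl⟩ subset_rfl F hF subset_rfl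
    have hdim : topologicalKrullDim Z ≤ (r : ℕ) := by
      refine (dim_mono hZX).trans ?_
      generalize topologicalKrullDim (CohB1.support F) = a at hr
      match a with
      | ⊥ => exact bot_le
      | (a : ℕ∞) =>
        rw [Nat.cast_succ] at hr
        exact WithBot.coe_le_coe.2 (ENat.lt_natCast_add_one_iff.1 (WithBot.coe_lt_coe.1 hr))
    have hG : Coh.IsCoh (clM y) := isCoh_clM y
    have hGZ : CohB1.support (clM y) ⊆ Z := hy ▸ support_clM_subset y
    have hsmall : ∀ M : X.Modules, Coh.IsCoh M → CohB1.support M ⊆ Z → y ∉ CohB1.support M →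
        DegLT r (chiTwist k M) := fun M hM hMZ hyM =>
      ih M hM (dim_lt_of_notMem (isClosed_support M (locallyFinGen_of_isFT M hM.2)) hMZ hZ hy hyM hdim)
    refine oneK_of_length_one hK hsm hG (fun L => ?_) (hGZ.trans hZ₀) (length_stalk_clM y)
    rw [diff_chiTwist]
    have hGL := isCoh_twist L.2 hG
    have hGLZ : CohB1.support (CohB1.tensorMod (clM y) L.1) ⊆ Z := (support_twist L.2 _).le.trans hGZ
    obtain ⟨W, hyW, g, hg⟩ := exists_isGen L.2 y
    let ψ : X.Modules → (Inv X → ℤ) ⧸ degSubgroup X r := fun M => QuotientAddGroup.mk (chiTwist k M)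
    have h := eq_of_stalk_iso (ψ := ψ) (y := y) (Z := Z)
      (fun S hS h₁ h₂ h₃ => by
        show QuotientAddGroup.mk _ = QuotientAddGroup.mk _ + QuotientAddGroup.mk _
        rw [chiTwist_additive k S hS h₁ h₂ h₃]
        rfl)
      (fun M hM hMZ hyM => (QuotientAddGroup.eq_zero_iff _).2 (hsmall M hM hMZ hyM))
      hGL hG hGLZ hGZ (twistStalkIso hyW hg (clM y)).symm (k := 1) (killed_clM y)
    exact QuotientAddGroup.eq_iff_sub_mem.1 h

end Groth.Agent.EulerLib
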