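import Groth.Prelude.Def_StabCat
import Mathlib.Analysis.Polynomial.Basic
import Mathlib.Tactic

/-!
# The eventual order on rational polynomials and reduced comparisons
-/

set_option autoImplicit false

open Polynomial Filter StabCat

namespace Groth.Agent.EulerLib

theorem eventually_pos_of_leadingCoeff_pos {P : ℚ[X]} (h : 0 < P.leadingCoeff) :
    ∃ N : ℕ, ∀ m : ℕ, N ≤ m → 0 < P.eval (m : ℚ) := by
  by_cases hd : 0 < P.degree
  · have := (P.tendsto_atTop_of_leadingCoeff_nonneg hd h.le).comp (tendsto_natCast_atTop_atTop (R := ℚ))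
    exact eventually_atTop.1 (this.eventually (eventually_gt_atTop 0))
  · have hC := eq_C_of_degree_le_zero (not_lt.1 hd)
    refine ⟨0, fun m _ => ?_⟩
    rw [hC, eval_C]
    rw [hC, leadingCoeff_C] at h
    exact h

/-- `0 ≤ P` eventually, through the leading coefficient. -/
theorem nonneg_leadingCoeff_iff {P : ℚ[X]} :
    (∃ N : ℕ, ∀ m : ℕ, N ≤ m → 0 ≤ P.eval (m : ℚ)) ↔ 0 ≤ P.leadingCoeff := by
  refine ⟨fun ⟨N, hN⟩ => ?_, fun h => ?_⟩
  · by_contra h
    have h' : 0 < (-P).leadingCoeff := by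
      rw [leadingCoeff_neg]
      linarith
    obtain ⟨N', hN'⟩ := eventually_pos_of_leadingCoeff_pos h'
    have h1 := hN' (max N N') (le_max_right _ _)
    have h2 := hN (max N N') (le_max_left _ _)
    rw [eval_neg] at h1
    linarith
  · rcases h.eq_or_lt with h0 | hpos
    · rw [eq_comm, leadingCoeff_eq_zero] at h0
      exact ⟨0, fun m _ => by rw [h0, eval_zero]⟩
    · obtain ⟨N, hN⟩ := eventually_pos_of_leadingCoeff_pos hpos
      exact ⟨N, fun m hm => (hN m hm).le⟩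

theorem pos_leadingCoeff_iff {P : ℚ[X]} :
    (∃ N : ℕ, ∀ m : ℕ, N ≤ m → 0 < P.eval (m : ℚ)) ↔ 0 < P.leadingCoeff := by
  refine ⟨fun ⟨N, hN⟩ => ?_, eventually_pos_of_leadingCoeff_pos⟩
  refine lt_of_le_of_ne (nonneg_leadingCoeff_iff.1 ⟨N, fun m hm => (hN m hm).le⟩) fun h => ?_
  rw [eq_comm, leadingCoeff_eq_zero] at h
  simpa [h] using hN N le_rfl

theorem polyLE_iff {P Q : ℚ[X]} : PolyLE P Q ↔ 0 ≤ (Q - P).leadingCoeff := by
  rw [← nonneg_leadingCoeff_iff]
  simp only [PolyLE, eval_sub, sub_nonneg]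

theorem polyLT_iff {P Q : ℚ[X]} : PolyLT P Q ↔ 0 < (Q - P).leadingCoeff := by
  rw [← pos_leadingCoeff_iff]
  simp only [PolyLT, eval_sub, sub_pos]

theorem polyLE_refl (P : ℚ[X]) : PolyLE P P := ⟨0, fun _ _ => le_rfl⟩

theorem polyLE_trans {P Q R : ℚ[X]} (h : PolyLE P Q) (h' : PolyLE Q R) : PolyLE P R :=
  ⟨max h.choose h'.choose, fun m hm => (h.choose_spec m ((le_max_left _ _).trans hm)).trans
    (h'.choose_spec m ((le_max_right _ _).trans hm))⟩

theorem polyLE_antisymm {P Q : ℚ[X]} (h : PolyLE P Q) (h' : PolyLE Q P) : P = Q := by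
  rw [polyLE_iff] at h h'
  rw [← neg_sub, leadingCoeff_neg, neg_nonneg] at h'
  exact (sub_eq_zero.1 (leadingCoeff_eq_zero.1 (le_antisymm h' h))).symm

theorem polyLT_iff_le_ne {P Q : ℚ[X]} : PolyLT P Q ↔ PolyLE P Q ∧ P ≠ Q := by
  rw [polyLT_iff, polyLE_iff, lt_iff_le_and_ne, ne_comm (a := (0 : ℚ)), Ne, leadingCoeff_eq_zero,
    sub_eq_zero, eq_comm]

theorem polyLE_total (P Q : ℚ[X]) : PolyLE P Q ∨ PolyLE Q P := by
  rw [polyLE_iff, polyLE_iff, ← neg_sub Q P, leadingCoeff_neg, neg_nonneg]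
  exact le_total _ _

theorem not_polyLE_iff {P Q : ℚ[X]} : ¬ PolyLE P Q ↔ PolyLT Q P := by
  rw [polyLE_iff, polyLT_iff, ← neg_sub Q P, leadingCoeff_neg, neg_pos, not_le]

theorem polyLE_smul {P Q : ℚ[X]} {c : ℚ} (hc : 0 < c) : PolyLE (c • P) (c • Q) ↔ PolyLE P Q := by
  simp only [PolyLE, eval_smul, smul_eq_mul, mul_le_mul_iff_right₀ hc]

theorem polyLT_smul {P Q : ℚ[X]} {c : ℚ} (hc : 0 < c) : PolyLT (c • P) (c • Q) ↔ PolyLT P Q := by
  simp only [PolyLT, eval_smul, smul_eq_mul, mul_lt_mul_iff_right₀ hc]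

theorem polyLE_add_right {P Q R : ℚ[X]} : PolyLE (P + R) (Q + R) ↔ PolyLE P Q := by
  simp only [PolyLE, eval_add, add_le_add_iff_right]

section Alpha

variable {d : ℕ}

theorem alpha_add (P Q : ℚ[X]) : alpha d (P + Q) = alpha d P + alpha d Q := by
  simp [alpha, mul_add]

theorem alpha_smul (c : ℚ) (P : ℚ[X]) : alpha d (c • P) = c * alpha d P := by
  simp [alpha, mul_left_comm]

theorem redLE_refl (P : ℚ[X]) : RedLE d P P := polyLE_refl _

theorem redEq_symm {P Q : ℚ[X]} (h : RedEq d P Q) : RedEq d Q P := h.symm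

/-- With positive multiplicities, `RedLE` compares the reduced polynomials. -/
theorem redLE_iff {P Q : ℚ[X]} (hP : 0 < alpha d P) (hQ : 0 < alpha d Q) :
    RedLE d P Q ↔ PolyLE (red d P) (red d Q) := by
  have h : ∀ R : ℚ[X], 0 < alpha d R → alpha d R • red d R = R := fun R hR => by
    rw [red, smul_smul, mul_inv_cancel₀ hR.ne', one_smul]
  conv_lhs => rw [RedLE, ← h P hP, ← h Q hQ]
  rw [alpha_smul, alpha_smul, red, red, alpha_smul, alpha_smul, inv_mul_cancel₀ hP.ne',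
    inv_mul_cancel₀ hQ.ne', mul_one, mul_one, smul_comm (alpha d Q) (alpha d P), polyLE_smul hP,
    polyLE_smul hQ]

theorem redEq_iff {P Q : ℚ[X]} (hP : 0 < alpha d P) (hQ : 0 < alpha d Q) :
    RedEq d P Q ↔ red d P = red d Q := by
  refine ⟨fun h => ?_, fun h => ?_⟩
  · have h' : alpha d Q • P = alpha d P • Q := h
    calc red d P = (alpha d P)⁻¹ • (alpha d Q)⁻¹ • (alpha d Q • P) := by
          rw [red, inv_smul_smul₀ hQ.ne']
      _ = red d Q := by rw [h', smul_comm, inv_smul_smul₀ hP.ne', red]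
  · show alpha d Q • P = alpha d P • Q
    calc alpha d Q • P = alpha d Q • alpha d P • red d P := by rw [red, smul_inv_smul₀ hP.ne']
      _ = alpha d P • Q := by rw [h, smul_comm, red, smul_inv_smul₀ hQ.ne']

theorem redLT_iff {P Q : ℚ[X]} (hP : 0 < alpha d P) (hQ : 0 < alpha d Q) :
    RedLT d P Q ↔ PolyLT (red d P) (red d Q) := by
  rw [polyLT_iff_le_ne, ← redLE_iff hP hQ, Ne, ← redEq_iff hP hQ]
  exact polyLT_iff_le_ne

theorem not_redLE_iff {P Q : ℚ[X]} : ¬ RedLE d P Q ↔ RedLT d Q P := not_polyLE_iff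

theorem redLT_iff_le_ne {P Q : ℚ[X]} : RedLT d P Q ↔ RedLE d P Q ∧ ¬ RedEq d P Q := polyLT_iff_le_ne

theorem redLE_antisymm {P Q : ℚ[X]} (h : RedLE d P Q) (h' : RedLE d Q P) : RedEq d P Q :=
  polyLE_antisymm h h'

theorem redLE_of_eq {P Q : ℚ[X]} (h : RedEq d P Q) : RedLE d P Q := by
  show PolyLE _ _
  rw [show alpha d Q • P = alpha d P • Q from h]
  exact polyLE_refl _

theorem redLE_trans {P Q R : ℚ[X]} (hP : 0 < alpha d P) (hQ : 0 < alpha d Q) (hR : 0 < alpha d R)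
    (h : RedLE d P Q) (h' : RedLE d Q R) : RedLE d P R :=
  (redLE_iff hP hR).2 (polyLE_trans ((redLE_iff hP hQ).1 h) ((redLE_iff hQ hR).1 h'))

theorem redLT_trans_le {P Q R : ℚ[X]} (hP : 0 < alpha d P) (hQ : 0 < alpha d Q) (hR : 0 < alpha d R)
    (h : RedLT d P Q) (h' : RedLE d Q R) : RedLT d P R := by
  rw [redLT_iff hP hQ, polyLT_iff_le_ne] at h
  rw [redLE_iff hQ hR] at h'
  rw [redLT_iff hP hR, polyLT_iff_le_ne]
  exact ⟨polyLE_trans h.1 h', fun e => h.2 (polyLE_antisymm h.1 (e ▸ h'))⟩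

theorem redLE_trans_lt {P Q R : ℚ[X]} (hP : 0 < alpha d P) (hQ : 0 < alpha d Q) (hR : 0 < alpha d R)
    (h : RedLE d P Q) (h' : RedLT d Q R) : RedLT d P R := by
  rw [redLT_iff hQ hR, polyLT_iff_le_ne] at h'
  rw [redLE_iff hP hQ] at h
  rw [redLT_iff hP hR, polyLT_iff_le_ne]
  exact ⟨polyLE_trans h h'.1, fun e => h'.2 (polyLE_antisymm h'.1 (e ▸ h))⟩

/-- See-saw: `F` is at most `E = F + G` if and only if `E` is at most `G`. -/
theorem redLE_seesaw (F G : ℚ[X]) : RedLE d F (F + G) ↔ RedLE d (F + G) G := by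
  simp only [RedLE, PolyLE, alpha_add, eval_smul, smul_eq_mul, eval_add]
  refine exists_congr fun N => forall_congr' fun m => forall_congr' fun _ => ?_
  constructor <;> intro h <;> nlinarith [h]

theorem redLT_seesaw (F G : ℚ[X]) : RedLT d F (F + G) ↔ RedLT d (F + G) G := by
  simp only [RedLT, PolyLT, alpha_add, eval_smul, smul_eq_mul, eval_add]
  refine exists_congr fun N => forall_congr' fun m => forall_congr' fun _ => ?_
  constructor <;> intro h <;> nlinarith [h]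

theorem redEq_seesaw (F G : ℚ[X]) : RedEq d F (F + G) ↔ RedEq d (F + G) G := by
  simp only [RedEq, alpha_add, add_smul, smul_add]
  constructor <;> intro h
  · rw [add_comm (alpha d F • F) (alpha d G • F)] at h
    rw [add_comm (alpha d G • F)] at h ⊢
    linear_combination (norm := module) h
  · linear_combination (norm := module) h

end Alpha

end Groth.Agent.EulerLib
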