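import Groth.Agent.EulerLib.Positive
import Groth.Agent.EulerLib.PolyOrder
import Groth.Prelude.Def_ShStab
import Mathlib.Algebra.Group.ForwardDiff

/-!
# Hilbert polynomials of coherent modules
-/

set_option autoImplicit false
set_option linter.style.haveILetI false

universe u

open CategoryTheory CategoryTheory.Limits AlgebraicGeometry fwdDiff
open Groth.Agent.Coherent Groth.Agent.PicLib Groth.Agent.AmpleLib

namespace Groth.Agent.EulerLib

variable {X : Scheme.{u}}

/-- `interDeg` along one class is an iterated difference. -/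
theorem interDeg_const_eq (a : InvCl X) : ∀ (r : ℕ) (φ : InvCl X → ℤ),
    interDeg (fun _ : Fin r => a) φ = ((fwdDiff 1)^[r] (fun m : ℕ => φ (a ^ m))) 0
  | 0, φ => by rw [interDeg_zero, Function.iterate_zero_apply, pow_zero]
  | r + 1, φ => by
    have hc : (fun _ : Fin (r + 1) => a) = Fin.cons a (fun _ : Fin r => a) := by
      funext i
      induction i using Fin.cases <;> rfl
    rw [hc, interDeg_cons, interDeg_const_eq a r, Function.iterate_succ_apply]
    refine congrFun (congrArg _ (funext fun m => ?_)) 0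
    show φ (a * a ^ m) - φ (a ^ m) = φ (a ^ (m + 1)) - φ (a ^ m)
    rw [pow_succ']

theorem cast_fwdDiff_iter {f : ℕ → ℤ} {P : Polynomial ℚ} (h : ∀ m : ℕ, (f m : ℚ) = P.eval (m : ℚ)) :
    ∀ (r m : ℕ), ((((fwdDiff 1)^[r] f) m : ℤ) : ℚ) = ((fwdDiff 1)^[r] P.eval) (m : ℚ)
  | 0, m => h m
  | r + 1, m => by
    rw [Function.iterate_succ_apply', Function.iterate_succ_apply']
    simp only [fwdDiff, Int.cast_sub, cast_fwdDiff_iter h r, Nat.cast_add, Nat.cast_one]

theorem coeff_smul_factorial {P : Polynomial ℚ} {r : ℕ} (hr : P.natDegree ≤ r) (x : ℚ) :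
    ((fwdDiff 1)^[r] P.eval) x = StabCat.alpha r P := by
  rcases hr.eq_or_lt with h | h
  · subst h
    rw [P.fwdDiff_iter_degree_eq_factorial]
    show P.leadingCoeff * (P.natDegree.factorial : ℚ) = _
    rw [mul_comm]
    rfl
  · rw [Polynomial.fwdDiff_iter_eq_zero_of_degree_lt h, StabCat.alpha,
      Polynomial.coeff_eq_zero_of_natDegree_lt h, mul_zero]
    rfl

variable (k : Type u) [Field k] [X.Over (Spec (CommRingCat.of k))]
  {L : X.Modules}

theorem euler_twist_eq (hL : PicF.IsInvertible L) (F : X.Modules) (m : ℕ) :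
    Curv2.euler k X (ShStab.twist X L F m) = chiCl k F (InvCl.mk L hL ^ m) := by
  rw [← InvCl.mk_tensorPow hL m]
  rfl

omit k [X.Over (Spec (CommRingCat.of k))] in
theorem poly_ext {P Q : Polynomial ℚ} (h : ∀ m : ℕ, P.eval (m : ℚ) = Q.eval (m : ℚ)) : P = Q :=
  Polynomial.eq_of_infinite_eval_eq P Q (Set.infinite_of_injective_forall_mem
    (f := fun m : ℕ => (m : ℚ)) Nat.cast_injective h)

theorem isHilbPoly_unique {F : X.Modules} {P Q : Polynomial ℚ} (hP : ShStab.IsHilbPoly k X L F P)
    (hQ : ShStab.IsHilbPoly k X L F Q) : P = Q :=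
  poly_ext fun m => (hP m).symm.trans (hQ m)

theorem isHilbPoly_iso {F G : X.Modules} (e : F ≅ G) {P : Polynomial ℚ}
    (hP : ShStab.IsHilbPoly k X L F P) : ShStab.IsHilbPoly k X L G P := fun m => by
  rw [← hP m, ShStab.twist, ShStab.twist, euler_congr k X (tensorIso e (Iso.refl _))]

variable [IsProper (X ↘ Spec (CommRingCat.of k))]

theorem isHilbPoly_add (hL : PicF.IsInvertible L) {S : ShortComplex X.Modules} (hS : S.ShortExact)
    (h₁ : Coh.IsCoh S.X₁) (h₂ : Coh.IsCoh S.X₂) (h₃ : Coh.IsCoh S.X₃) {P Q : Polynomial ℚ}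
    (hP : ShStab.IsHilbPoly k X L S.X₁ P) (hQ : ShStab.IsHilbPoly k X L S.X₃ Q) :
    ShStab.IsHilbPoly k X L S.X₂ (P + Q) := fun m => by
  haveI := isNoetherian_of_proper (X := X) k
  rw [Polynomial.eval_add, ← hP m, ← hQ m, euler_twist_eq k hL, euler_twist_eq k hL, euler_twist_eq k hL,
    chiCl_additive k S hS h₁ h₂ h₃]
  push_cast [Pi.add_apply]
  rfl

variable (hL : PicF.IsInvertible L)

include hL

theorem exists_isHilbPoly {F : X.Modules} (hF : Coh.IsCoh F) {r : ℕ}
    (hr : topologicalKrullDim (CohB1.support F) ≤ r) :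
    ∃ P : Polynomial ℚ, ShStab.IsHilbPoly k X L F P := by
  obtain ⟨P, -, hP⟩ := snapper k hF hr (fun _ : Fin 1 => InvCl.mk L hL)
  refine ⟨MvPolynomial.aeval (fun _ => Polynomial.X) P, fun m => ?_⟩
  have := hP fun _ => m
  rw [Fin.prod_univ_one] at this
  rw [euler_twist_eq k hL, this]
  clear this hP
  induction P using MvPolynomial.induction_on with
  | C c => simp
  | add p q hp hq => rw [map_add, map_add, Polynomial.eval_add, hp, hq]
  | mul_X p i hp => rw [map_mul, map_mul, Polynomial.eval_mul, hp]; simp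

theorem alpha_eq_interDeg {F : X.Modules} (hF : Coh.IsCoh F) {P : Polynomial ℚ}
    (hP : ShStab.IsHilbPoly k X L F P) {r : ℕ} (hr : topologicalKrullDim (CohB1.support F) ≤ r) :
    P.natDegree ≤ r ∧
      StabCat.alpha r P = interDeg (fun _ : Fin r => InvCl.mk L hL) (chiCl k F) := by
  have h : ∀ m : ℕ, ((chiCl k F (InvCl.mk L hL ^ m) : ℤ) : ℚ) = P.eval (m : ℚ) := fun m => by
    rw [← hP m, euler_twist_eq k hL]
  have hiter : ∀ s, ((interDeg (fun _ : Fin s => InvCl.mk L hL) (chiCl k F) : ℤ) : ℚ) =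
      ((fwdDiff 1)^[s] P.eval) 0 := fun s => by
    rw [interDeg_const_eq, cast_fwdDiff_iter h s 0, Nat.cast_zero]
  have hdeg : P.natDegree ≤ r := by
    by_contra hlt
    rw [not_le] at hlt
    have h0 := hiter P.natDegree
    rw [coeff_smul_factorial le_rfl, interDeg_eq_zero _ (finDeg_chiCl k hF
      (hr.trans_lt (by exact_mod_cast hlt))), StabCat.alpha, Int.cast_zero] at h0
    rcases mul_eq_zero.1 h0.symm with h1 | h1
    · exact Nat.factorial_ne_zero _ (by exact_mod_cast h1)
    · have := Polynomial.leadingCoeff_eq_zero.1 h1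
      rw [this, Polynomial.natDegree_zero] at hlt
      exact Nat.not_lt_zero _ hlt
  exact ⟨hdeg, by rw [hiter r, coeff_smul_factorial hdeg]⟩

theorem alpha_eq_zero_of_dim_lt {F : X.Modules} (hF : Coh.IsCoh F) {P : Polynomial ℚ}
    (hP : ShStab.IsHilbPoly k X L F P) {r : ℕ} (hr : topologicalKrullDim (CohB1.support F) < r) :
    StabCat.alpha r P = 0 := by
  rw [(alpha_eq_interDeg k hL hF hP hr.le).2, interDeg_eq_zero _ (finDeg_chiCl k hF hr), Int.cast_zero]

omit hL

theorem alpha_pos (hA : CohB1.IsAmple L) {F : X.Modules} (hF : Coh.IsCoh F) {P : Polynomial ℚ}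
    (hP : ShStab.IsHilbPoly k X L F P) {r : ℕ} (hr : topologicalKrullDim (CohB1.support F) = r) :
    0 < StabCat.alpha r P := by
  rw [(alpha_eq_interDeg k hA.1 hF hP hr.le).2]
  exact_mod_cast interDeg_pos k r (fun _ => L) (fun _ => hA) F hF hr

omit k [X.Over (Spec (CommRingCat.of k))] [IsProper (X ↘ Spec (CommRingCat.of k))] in
theorem dim_empty_lt (r : ℕ) : topologicalKrullDim (∅ : Set X) < r := by
  haveI : IsEmpty (TopologicalSpace.IrreducibleCloseds (∅ : Set X)) :=
    ⟨fun A => A.2.1.elim fun a _ => a.2⟩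
  show Order.krullDim _ < _
  rw [Order.krullDim_eq_bot]
  exact WithBot.bot_lt_coe _

theorem isHilbPoly_zero (hL : PicF.IsInvertible L) {F : X.Modules} (h : IsZero F) :
    ShStab.IsHilbPoly k X L F 0 := fun m => by
  rw [Polynomial.eval_zero, euler_of_isZero k X ?_, Int.cast_zero]
  refine isZero_of_support_eq_empty ?_
  rw [ShStab.twist, support_twist (isInvertible_tensorPow hL m) F]
  exact Set.subset_empty_iff.1 (support_of_isZero h ∅)

end Groth.Agent.EulerLib
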