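import Groth.Agent.EulerLib.NumEquiv
import Groth.Agent.DimLib.Components
import Groth.Prelude.Def_Pic13
import Mathlib.AlgebraicGeometry.ZariskisMainTheorem

/-!
# Degrees on curves and intersection numbers
-/

set_option autoImplicit false
set_option linter.style.haveILetI false
set_option backward.isDefEq.respectTransparency.types false

universe u

open CategoryTheory CategoryTheory.Limits AlgebraicGeometry TopologicalSpace
open Groth.Agent.Coherent Groth.Agent.PicLib Groth.Agent.AmpleLib Groth.Agent.AssSch12 Groth.Agent.AbCubeLib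
  Groth.Agent.DimLib

namespace Groth.Agent.EulerLib

variable (k : Type u) [Field k] {X Y : Scheme.{u}} [X.Over (Spec (CommRingCat.of k))]
  [IsProper (X ↘ Spec (CommRingCat.of k))] [Y.Over (Spec (CommRingCat.of k))]
  [IsProper (Y ↘ Spec (CommRingCat.of k))]

/-- Euler characteristics of pulled back classes through a finite morphism. -/
theorem chiCl_push_mk (g : Y ⟶ X) [IsFinite g]
    (hg : g ≫ (X ↘ Spec (CommRingCat.of k)) = Y ↘ Spec (CommRingCat.of k)) {L : X.Modules}
    (hL : PicF.IsInvertible L) :
    chiCl k ((Coh.push g).obj (Coh.structureModule Y)) (InvCl.mk L hL) =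
      Curv2.euler k Y ((Scheme.Modules.pullback g).obj L) := by
  haveI := isNoetherian_of_proper (X := X) k
  haveI := isNoetherian_of_proper (X := Y) k
  haveI := isSeparated_of_proper (X := X) k
  have hO : Coh.IsCoh (Coh.structureModule Y) := isCoh_structureModule _
  have hLY := PicLoc.isInvertible_pullback g hL
  have hLF : FlatMod.IsFinLocFree L := fun x => let ⟨U, hx, e⟩ := isFinLocFreeOfRank_one hL x; ⟨U, 1, hx, e⟩
  haveI : Coh.IsQCoh (CohB1.tensorMod ((Scheme.Modules.pullback g).obj L) (Coh.structureModule Y)) :=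
    (isCoh_iso (AmpleLib.tensorComm _ _) (isCoh_twist hLY hO)).1
  rw [chiCl_mk, euler_congr k X (AmpleLib.tensorComm _ _ ≪≫ (projIso (f := g) hLF).app (Coh.structureModule Y)),
    ← euler_congr k Y (AmpleLib.tensorComm _ _ ≪≫ AmpleLib.unitTensorIso ((Scheme.Modules.pullback g).obj L))]
  exact (euler_push k g hg (CohB1.tensorMod ((Scheme.Modules.pullback g).obj L) (Coh.structureModule Y))).symm

theorem chiCl_push_one (g : Y ⟶ X) [IsFinite g]
    (hg : g ≫ (X ↘ Spec (CommRingCat.of k)) = Y ↘ Spec (CommRingCat.of k)) :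
    chiCl k ((Coh.push g).obj (Coh.structureModule Y)) 1 = Curv2.euler k Y (Coh.structureModule Y) := by
  haveI := isNoetherian_of_proper (X := Y) k
  haveI := isSeparated_of_proper (X := X) k
  have hO : Coh.IsCoh (Coh.structureModule Y) := isCoh_structureModule _
  haveI := hO.1
  rw [chiCl_one, euler_push k g hg (Coh.structureModule Y)]

/-- The degree along a finite morphism from a curve. -/
theorem curveDeg_pullback_eq (g : Y ⟶ X) [IsFinite g]
    (hg : g ≫ (X ↘ Spec (CommRingCat.of k)) = Y ↘ Spec (CommRingCat.of k)) (hY : topologicalKrullDim Y ≤ 1)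
    {L : X.Modules} (hL : PicF.IsInvertible L) :
    Pic13.curveDeg k (Y ↘ Spec (CommRingCat.of k)) ((Scheme.Modules.pullback g).obj L) =
      interDeg (fun _ : Fin 1 => InvCl.mk L hL) (chiCl k ((Coh.push g).obj (Coh.structureModule Y))) := by
  haveI := isNoetherian_of_proper (X := Y) k
  haveI := isNoetherian_of_proper (X := X) k
  have hO : Coh.IsCoh (Coh.structureModule Y) := isCoh_structureModule _
  have hLY := PicLoc.isInvertible_pullback g hL
  have hc : Coh.IsCoh ((Scheme.Modules.pullback g).obj L) :=
    isCoh_iso (AmpleLib.unitTensorIso _) (isCoh_twist hLY hO)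
  show FGA.eulerCharLE k Y _ 1 - FGA.eulerCharLE k Y _ 1 = _
  rw [eulerCharLE_eq k _ hc.1 hY, eulerCharLE_eq k _ hO.1 hY, ← chiCl_push_mk k g hg hL, ← chiCl_push_one k g hg,
    show (fun _ : Fin 1 => InvCl.mk L hL) = Fin.cons (InvCl.mk L hL) (fun i => i.elim0) from
      funext fun i => by
        induction i using Fin.cases with
        | zero => rfl
        | succ i => exact i.elim0,
    interDeg_cons, interDeg_zero]
  exact congrArg (fun w => chiCl k _ w - chiCl k _ 1) (mul_one (InvCl.mk L hL)).symm

/-- Equal degrees on curves give equal classes for intersection theory. -/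
theorem sameDeg_of_curveDeg {L N : X.Modules} (hL : PicF.IsInvertible L) (hN : PicF.IsInvertible N)
    (h : ∀ (C : Scheme.{u}) (i : C ⟶ X) [IsClosedImmersion i], IsIntegral C → topologicalKrullDim C = 1 →
      Pic13.curveDeg k (i ≫ (X ↘ Spec (CommRingCat.of k))) ((Scheme.Modules.pullback i).obj L) =
        Pic13.curveDeg k (i ≫ (X ↘ Spec (CommRingCat.of k))) ((Scheme.Modules.pullback i).obj N)) :
    SameDeg k (InvCl.mk L hL) (InvCl.mk N hN) := by
  intro y hy
  haveI := isNoetherian_of_proper (X := X) k
  let i := (clI y).subschemeι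
  letI : (clI y).subscheme.Over (Spec (CommRingCat.of k)) := ⟨i ≫ (X ↘ Spec (CommRingCat.of k))⟩
  haveI : IsProper ((clI y).subscheme ↘ Spec (CommRingCat.of k)) :=
    inferInstanceAs (IsProper (i ≫ (X ↘ Spec (CommRingCat.of k))))
  have hdim : topologicalKrullDim (clI y).subscheme = 1 := by
    rw [i.isClosedEmbedding.isEmbedding.toHomeomorph.isHomeomorph.topologicalKrullDim_eq, ← hy]
    exact congrArg (fun S : Set X => topologicalKrullDim S) (range_clι y)
  have h' := h _ i inferInstance hdim
  rw [show i ≫ (X ↘ Spec (CommRingCat.of k)) = (clI y).subscheme ↘ Spec (CommRingCat.of k) from rfl] at h'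
  rw [curveDeg_pullback_eq k i rfl hdim.le hL, curveDeg_pullback_eq k i rfl hdim.le hN,
    show (fun _ : Fin 1 => InvCl.mk L hL) = Fin.cons (InvCl.mk L hL) (fun i => i.elim0) from
      funext fun i => by
        induction i using Fin.cases with
        | zero => rfl
        | succ i => exact i.elim0,
    show (fun _ : Fin 1 => InvCl.mk N hN) = Fin.cons (InvCl.mk N hN) (fun i => i.elim0) from
      funext fun i => by
        induction i using Fin.cases with
        | zero => rfl
        | succ i => exact i.elim0,
    interDeg_cons, interDeg_cons, interDeg_zero, interDeg_zero] at h'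
  have h'' := sub_left_inj.1 h'
  exact ((congrArg (chiCl k (clM y)) (mul_one (InvCl.mk L hL))).symm.trans h'').trans
    (congrArg (chiCl k (clM y)) (mul_one (InvCl.mk N hN)))

/-- A morphism from an integral curve is finite unless it is constant. -/
theorem isFinite_of_ne_point [IsIntegral Y] (g : Y ⟶ X)
    (hg : g ≫ (X ↘ Spec (CommRingCat.of k)) = Y ↘ Spec (CommRingCat.of k)) (hY : topologicalKrullDim Y ≤ 1)
    (hne : ¬ ∀ w, g w = g (genericPoint Y)) : IsFinite g := by
  haveI := isNoetherian_of_proper (X := X) k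
  haveI := isNoetherian_of_proper (X := Y) k
  haveI : IsProper (g ≫ (X ↘ Spec (CommRingCat.of k))) := by rw [hg]; infer_instance
  haveI : IsProper g := IsProper.of_comp g (X ↘ Spec (CommRingCat.of k))
  let p := Y ↘ Spec (CommRingCat.of k)
  set η := genericPoint Y
  have hη : ∀ w : Y, η ⤳ w := fun w => specializes_iff_mem_closure.2 (by rw [genericPoint_closure]; trivial)
  have hb : ∀ w : Y, ptDim p w ≤ 1 := fun w => by
    have h := (topologicalKrullDim_closed_eq_iSup p isClosed_univ).ge.trans
      ((Homeomorph.Set.univ Y).isHomeomorph.topologicalKrullDim_eq.le.trans hY)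
    exact_mod_cast (le_iSup (fun x : (Set.univ : Set Y) => (ptDim p x.1 : WithBot ℕ∞)) ⟨w, trivial⟩).trans h
  have hcl : ∀ w : Y, w ≠ η → IsClosed ({w} : Set Y) := fun w hw => by
    refine isClosed_of_closure_subset fun v hv => ?_
    have h1 := ptDim_lt_of_specializes p (hη w) (Ne.symm hw)
    have h2 := hb η
    exact Set.mem_singleton_iff.2 (eq_of_specializes_of_ptDim_le p (specializes_iff_mem_closure.2 hv) (by omega)).symm
  have hnc : ¬ IsClosed ({g η} : Set X) := fun hc => hne fun w =>
    Set.mem_singleton_iff.1 ((IsClosed.closure_eq hc).le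
      (specializes_iff_mem_closure.1 ((hη w).map g.continuous)))
  haveI : LocallyQuasiFinite g := by
    refine LocallyQuasiFinite.of_finite_preimage_singleton g fun x => ?_
    by_cases hx : x = g η
    · refine (Set.finite_singleton η).subset fun w hw => ?_
      by_contra hwη
      exact hnc (by
        rw [← hx, ← (hw : g w = x), ← Set.image_singleton]
        exact g.isClosedMap _ (hcl w hwη))
    rcases Set.eq_empty_or_nonempty (g ⁻¹' {x}) with he | ⟨w₀, hw₀⟩
    · rw [he]; exact Set.finite_empty
    have hC : IsClosed (g ⁻¹' closure {x}) := isClosed_closure.preimage g.continuous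
    have hηC : η ∉ g ⁻¹' closure {x} := fun h => hx ((((hη w₀).map g.continuous).antisymm
      (specializes_iff_mem_closure.2 (by rw [show g w₀ = x from hw₀]; exact h))).eq.trans hw₀).symm
    refine Set.Finite.subset ?_ (Set.preimage_mono (subset_closure (s := {x})))
    obtain ⟨S, hSf, hSc, hSi, hSe⟩ := NoetherianSpace.exists_finite_set_isClosed_irreducible hC
    rw [hSe]
    refine hSf.sUnion fun s hs => ?_
    obtain ⟨ξ, hξ⟩ := QuasiSober.sober (hSi s hs) (hSc s hs)
    have hξC : ξ ∈ g ⁻¹' closure {x} := hSe ▸ Set.mem_sUnion.2 ⟨s, hs, hξ.mem⟩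
    refine (Set.finite_singleton ξ).subset ?_
    rw [← hξ.def, (hcl ξ fun e => hηC (e ▸ hξC)).closure_eq]
  exact IsFinite.of_isProper_of_locallyQuasiFinite g

end Groth.Agent.EulerLib
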