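import Groth.Agent.EulerLib.InvClass

/-!
# Intersection degrees on classes of invertible modules
-/

set_option autoImplicit false

universe u

open CategoryTheory AlgebraicGeometry

namespace Groth.Agent.EulerLib

variable {X : Scheme.{u}}

/-- Being of degree `< r`, on classes. -/
abbrev ClDeg (r : ℕ) (φ : InvCl X → ℤ) : Prop :=
  FinDeg (id : Additive (InvCl X) → Additive (InvCl X)) r (φ ∘ Additive.toMul)

theorem ClDeg.diff {r : ℕ} {φ : InvCl X → ℤ} (h : ClDeg (r + 1) φ) (a : InvCl X) :
    ClDeg r (fun x => φ (a * x) - φ x) := by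
  have := h (Additive.ofMul a)
  convert this using 1
  funext x
  show φ (a * _) - _ = φ (Additive.toMul x * a) - φ (Additive.toMul x)
  rw [mul_comm]

/-- The intersection degree: the iterated difference at the trivial class. -/
noncomputable def interDeg {r : ℕ} (c : Fin r → InvCl X) (φ : InvCl X → ℤ) : ℤ := (-1) ^ r * altSum c φ

theorem interDeg_zero (c : Fin 0 → InvCl X) (φ : InvCl X → ℤ) : interDeg c φ = φ 1 := by
  simp [interDeg, altSum, Finset.univ_unique, show (default : Finset (Fin 0)) = ∅ from Subsingleton.elim _ _]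

theorem interDeg_cons {r : ℕ} (a : InvCl X) (c : Fin r → InvCl X) (φ : InvCl X → ℤ) :
    interDeg (Fin.cons a c) φ = interDeg c (fun x => φ (a * x) - φ x) := by
  rw [interDeg, interDeg, altSum_cons, pow_succ]
  ring

theorem interDeg_sub {r : ℕ} (c : Fin r → InvCl X) (φ ψ : InvCl X → ℤ) :
    interDeg c (φ - ψ) = interDeg c φ - interDeg c ψ := by
  rw [interDeg, interDeg, interDeg, altSum_sub, mul_sub]

theorem interDeg_add_fun {r : ℕ} (c : Fin r → InvCl X) (φ ψ : InvCl X → ℤ) :
    interDeg c (φ + ψ) = interDeg c φ + interDeg c ψ := by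
  have h := interDeg_sub c (φ + ψ) ψ
  rw [add_sub_cancel_right] at h
  omega

theorem interDeg_eq_zero {r : ℕ} (c : Fin r → InvCl X) {φ : InvCl X → ℤ} (h : ClDeg r φ) :
    interDeg c φ = 0 := by
  rw [interDeg, altSum_eq_zero c φ h, mul_zero]

theorem interDeg_mul {r : ℕ} (a b : InvCl X) (c : Fin r → InvCl X) {φ : InvCl X → ℤ} (h : ClDeg (r + 2) φ) :
    interDeg (Fin.cons (a * b) c) φ = interDeg (Fin.cons a c) φ + interDeg (Fin.cons b c) φ := by
  rw [interDeg, interDeg, interDeg, altSum_add a b c φ h, mul_add]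

theorem interDeg_one {r : ℕ} (c : Fin r → InvCl X) (φ : InvCl X → ℤ) :
    interDeg (Fin.cons 1 c) φ = 0 := by
  rw [interDeg_cons]
  simp [interDeg, altSum]

theorem interDeg_pow {r : ℕ} (a : InvCl X) (c : Fin r → InvCl X) {φ : InvCl X → ℤ} (h : ClDeg (r + 2) φ) :
    ∀ n : ℕ, interDeg (Fin.cons (a ^ n) c) φ = n * interDeg (Fin.cons a c) φ
  | 0 => by rw [pow_zero, interDeg_one, Nat.cast_zero, zero_mul]
  | n + 1 => by
    rw [pow_succ, interDeg_mul _ _ c h, interDeg_pow a c h n]
    push_cast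
    ring

theorem altSum_of_inverse : ∀ {r : ℕ} (a b : Fin r → InvCl X), (∀ i, a i * b i = 1) →
    ∀ {φ : InvCl X → ℤ}, ClDeg (r + 1) φ → altSum b φ = interDeg a φ := by
  intro r
  induction r with
  | zero =>
    intro a b _ φ _
    rw [interDeg_zero]
    simp [altSum, Finset.univ_unique, show (default : Finset (Fin 0)) = ∅ from Subsingleton.elim _ _]
  | succ r ih =>
    intro a b hab φ h
    have h0 : interDeg (Fin.cons (a 0 * b 0) (Fin.tail b)) φ = 0 := by rw [hab, interDeg_one]
    rw [interDeg_mul _ _ _ h] at h0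
    have h1 : altSum b φ = (-1) ^ (r + 1) * interDeg b φ := by
      rw [interDeg, ← mul_assoc, ← mul_pow]
      simp
    rw [h1, ← Fin.cons_self_tail b, ← Fin.cons_self_tail a, interDeg_cons (a 0),
      ← ih (Fin.tail a) (Fin.tail b) (fun i => hab i.succ) (h.diff (a 0))]
    rw [show interDeg (Fin.cons (b 0) (Fin.tail b)) φ = -interDeg (Fin.cons (a 0) (Fin.tail b)) φ by omega,
      interDeg_cons, interDeg, pow_succ]
    have e : ((-1 : ℤ) ^ r) * (-1) ^ r = 1 := by rw [← mul_pow]; simp
    linear_combination (altSum (Fin.tail b) fun x => φ (a 0 * x) - φ x) * e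

variable (k : Type u) [Field k] [X.Over (Spec (CommRingCat.of k))]

theorem chiCl_congr {F F' : X.Modules} (e : F ≅ F') : chiCl k F = chiCl k F' :=
  funext fun c => Quotient.inductionOn c fun N => congrFun (chiTwist_congr k e) N

theorem chiCl_mul (F : X.Modules) {N : X.Modules} (hN : PicF.IsInvertible N) (x : InvCl X) :
    chiCl k F (InvCl.mk N hN * x) = chiCl k (CohB1.tensorMod F N) x :=
  Quotient.inductionOn x fun M => by
    obtain ⟨e⟩ := exists_assocIso' F hN M.2
    exact euler_congr k X e.symm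

theorem chiCl_one (F : X.Modules) : chiCl k F 1 = Curv2.euler k X F :=
  euler_congr k X (Groth.Agent.AmpleLib.tensorComm _ _ ≪≫ Groth.Agent.AmpleLib.unitTensorIso F)

variable [IsProper (X ↘ Spec (CommRingCat.of k))]

theorem chiCl_additive [IsLocallyNoetherian X] (S : ShortComplex X.Modules) (hS : S.ShortExact)
    (h₁ : Coh.IsCoh S.X₁) (h₂ : Coh.IsCoh S.X₂) (h₃ : Coh.IsCoh S.X₃) :
    chiCl k S.X₂ = chiCl k S.X₁ + chiCl k S.X₃ :=
  funext fun c => Quotient.inductionOn c fun N => congrFun (chiTwist_additive k S hS h₁ h₂ h₃) N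

end Groth.Agent.EulerLib
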