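import Groth.Agent.EulerLib.StabSub
import Groth.Agent.CurveRR24.Section
import Groth.Agent.Coherent.QcohOps
import Groth.Agent.MeroLib.Torsion

/-!
# Decomposition of modules along clopen subsets
-/

set_option autoImplicit false
set_option linter.style.haveILetI false
set_option linter.unusedSectionVars false
set_option backward.isDefEq.respectTransparency.types false

universe u

open CategoryTheory CategoryTheory.Limits AlgebraicGeometry Opposite TopologicalSpace
open Groth.Agent.Coherent Groth.Agent.PicLib Groth.Agent.AmpleLib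

namespace Groth.Agent.EulerLib

variable {X : Scheme.{u}}

/-- The part of a module on an open subset, pushed forward. -/
noncomputable abbrev part (U : X.Opens) (M : X.Modules) : X.Modules :=
  (Scheme.Modules.pushforward U.ι).obj (M.restrict U.ι)

/-- The projection to the part on `U`. -/
noncomputable def partπ (U : X.Opens) (M : X.Modules) : M ⟶ part U M :=
  (Scheme.Modules.restrictAdjunction U.ι).unit.app M

/-- Functoriality of the part. -/
noncomputable def partMap (U : X.Opens) {M N : X.Modules} (φ : M ⟶ N) : part U M ⟶ part U N :=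
  (Scheme.Modules.pushforward U.ι).map ((Scheme.Modules.restrictFunctor U.ι).map φ)

theorem partπ_naturality (U : X.Opens) {M N : X.Modules} (φ : M ⟶ N) :
    φ ≫ partπ U N = partπ U M ≫ partMap U φ :=
  (Scheme.Modules.restrictAdjunction U.ι).unit.naturality φ

theorem partπ_apply (U : X.Opens) (M : X.Modules) (V : X.Opens) (x : Γ(M, V)) :
    (partπ U M).app V x = resM M (U.ι.image_preimage_le V) x := rfl

theorem img_eq (U V : X.Opens) : U.ι ''ᵁ (U.ι ⁻¹ᵁ V) = U ⊓ V := by
  rw [U.ι.image_preimage_eq_opensRange_inf, Scheme.Opens.opensRange_ι]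

theorem mono_partMap (U : X.Opens) {M N : X.Modules} (φ : M ⟶ N) [Mono φ] : Mono (partMap U φ) :=
  MeroLib.mono_of_app_injective _ fun V => app_injective_of_mono φ (U.ι ''ᵁ (U.ι ⁻¹ᵁ V))

theorem isZero_part_part {U W : X.Opens} (h : Disjoint (U : Set X) W) (M : X.Modules) :
    IsZero (part U (part W M)) := by
  refine CurveRR24.isZero_of_sections fun V s => ?_
  let O := W.ι ''ᵁ (W.ι ⁻¹ᵁ (U.ι ''ᵁ (U.ι ⁻¹ᵁ V)))
  refine TopCat.Presheaf.section_ext (⟨M.presheaf, M.isSheaf⟩ : TopCat.Sheaf Ab X) O s 0 fun z hz => ?_
  have h1 : z ∈ W ⊓ (U ⊓ V) := by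
    have : z ∈ O := hz
    simpa only [O, img_eq] using this
  exact absurd h1.1 (Set.disjoint_left.1 h h1.2.1)

theorem isZero_part_of_le {U W : X.Opens} (M : X.Modules) (h : IsZero (part U M)) :
    IsZero (part U (part W M)) := by
  refine CurveRR24.isZero_of_sections fun V s => ?_
  let O : X.Opens := W.ι ''ᵁ (W.ι ⁻¹ᵁ (U.ι ''ᵁ (U.ι ⁻¹ᵁ V)))
  have hle : O ≤ U.ι ''ᵁ (U.ι ⁻¹ᵁ O) := by
    simp only [O, img_eq]
    exact le_inf (inf_le_right.trans inf_le_left) le_rfl
  have h0 : (resM M (U.ι.image_preimage_le O) (show Γ(M, O) from s)) = 0 := by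
    have := congrArg (fun φ : part U M ⟶ part U M => φ.app O
      (resM M (U.ι.image_preimage_le O) (show Γ(M, O) from s))) (h.eq_of_src (𝟙 _) 0)
    exact this
  have h2 := congrArg (resM M hle) h0
  rw [resM_resM, resM_self, map_zero] at h2
  exact h2

variable {U W : X.Opens} (hd : Disjoint (U : Set X) W) (hc : U ⊔ W = ⊤)

include hd hc in
theorem isIso_partPair (M : X.Modules) : IsIso (biprod.lift (partπ U M) (partπ W M)) := by
  set φ := biprod.lift (partπ U M) (partπ W M)
  rw [Scheme.Modules.Hom.isIso_iff_isIso_app]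
  intro V
  rw [ConcreteCategory.isIso_iff_bijective]
  have hfst : ∀ x : Γ(M, V), (biprod.fst : part U M ⊞ part W M ⟶ _).app V (φ.app V x) = (partπ U M).app V x :=
    fun x => congrArg (fun ψ : M ⟶ part U M => ψ.app V x) (biprod.lift_fst (partπ U M) (partπ W M))
  have hsnd : ∀ x : Γ(M, V), (biprod.snd : part U M ⊞ part W M ⟶ _).app V (φ.app V x) = (partπ W M).app V x :=
    fun x => congrArg (fun ψ : M ⟶ part W M => ψ.app V x) (biprod.lift_snd (partπ U M) (partπ W M))
  let K : Bool → X.Opens := fun b => cond b (U.ι ''ᵁ (U.ι ⁻¹ᵁ V)) (W.ι ''ᵁ (W.ι ⁻¹ᵁ V))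
  have hcov : V ≤ ⨆ b, K b := fun z hz => by
    rcases (show z ∈ U ⊔ W from hc ▸ trivial) with h | h
    · exact Opens.mem_iSup.2 ⟨true, (img_eq U V).ge ⟨h, hz⟩⟩
    · exact Opens.mem_iSup.2 ⟨false, (img_eq W V).ge ⟨h, hz⟩⟩
  have hK : ∀ b, K b ≤ V := fun b => by cases b <;> exact Scheme.Hom.image_preimage_le _ _
  let F : TopCat.Sheaf Ab X := ⟨M.presheaf, M.isSheaf⟩
  constructor
  · refine (injective_iff_map_eq_zero _).2 fun x hx => ?_
    refine TopCat.Sheaf.eq_of_locally_eq' F K V (fun b => homOfLE (hK b)) hcov x 0 fun b => ?_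
    cases b
    · show resM M (hK false) x = resM M (hK false) 0
      rw [map_zero]
      exact (hsnd x).symm.trans (by rw [hx]; exact map_zero _)
    · show resM M (hK true) x = resM M (hK true) 0
      rw [map_zero]
      exact (hfst x).symm.trans (by rw [hx]; exact map_zero _)
  · intro z
    let a : Γ(M, K true) := (biprod.fst : part U M ⊞ part W M ⟶ _).app V z
    let c : Γ(M, K false) := (biprod.snd : part U M ⊞ part W M ⟶ _).app V z
    let sf : ∀ b, Γ(M, K b) := fun b => match b with
      | true => a
      | false => c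
    obtain ⟨x, hx, -⟩ := TopCat.Sheaf.existsUnique_gluing' F K V (fun b => homOfLE (hK b)) hcov sf (fun b b' => by
      cases b <;> cases b'
      · rfl
      · refine TopCat.Presheaf.section_ext F _ _ _ fun y hy => ?_
        exact absurd ((img_eq W V).le hy.1).1 (Set.disjoint_left.1 hd ((img_eq U V).le hy.2).1)
      · refine TopCat.Presheaf.section_ext F _ _ _ fun y hy => ?_
        exact absurd ((img_eq W V).le hy.2).1 (Set.disjoint_left.1 hd ((img_eq U V).le hy.1).1)
      · rfl)
    refine ⟨x, ?_⟩
    have key : ∀ w : Γ(part U M ⊞ part W M, V), (biprod.inl : part U M ⟶ _).app V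
        ((biprod.fst : part U M ⊞ part W M ⟶ _).app V w) + (biprod.inr : part W M ⟶ _).app V
        ((biprod.snd : part U M ⊞ part W M ⟶ _).app V w) = w := fun w =>
      congrArg (fun ψ : part U M ⊞ part W M ⟶ part U M ⊞ part W M => ψ.app V w) biprod.total
    rw [← key z, ← key (φ.app V x), hfst, hsnd, show (partπ U M).app V x = a from hx true,
      show (partπ W M).app V x = c from hx false]

/-- A module is the sum of its parts. -/
noncomputable def partIso (M : X.Modules) : M ≅ part U M ⊞ part W M :=
  haveI := isIso_partPair hd hc M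
  asIso (biprod.lift (partπ U M) (partπ W M))

/-- The inclusion of a part. -/
noncomputable def partIncl (M : X.Modules) : part U M ⟶ M := biprod.inl ≫ (partIso hd hc M).inv

theorem partIncl_π (M : X.Modules) : partIncl hd hc M ≫ partπ U M = 𝟙 _ := by
  have h : (partIso hd hc M).hom ≫ biprod.fst = partπ U M := biprod.lift_fst _ _
  rw [partIncl, ← h, Category.assoc, Iso.inv_hom_id_assoc, biprod.inl_fst]

instance mono_partIncl (M : X.Modules) : Mono (partIncl hd hc M) :=
  mono_of_mono_fac (partIncl_π hd hc M)

include hd hc in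
theorem epi_partπ (M : X.Modules) : Epi (partπ U M) := epi_of_epi_fac (partIncl_π hd hc M)

include hd hc in
theorem isCoh_part [IsLocallyNoetherian X] {M : X.Modules} (hM : Coh.IsCoh M) : Coh.IsCoh (part U M) := by
  let p : M ⟶ M := 𝟙 M - partπ U M ≫ partIncl hd hc M
  have hp : p ≫ partπ U M = 0 := by
    rw [Preadditive.sub_comp, Category.id_comp, Category.assoc, partIncl_π, Category.comp_id, sub_self]
  let e : cokernel p ≅ part U M :=
    { hom := cokernel.desc p (partπ U M) hp
      inv := partIncl hd hc M ≫ cokernel.π p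
      hom_inv_id := by
        refine coequalizer.hom_ext ?_
        show cokernel.π p ≫ cokernel.desc p (partπ U M) hp ≫ partIncl hd hc M ≫ cokernel.π p = cokernel.π p ≫ 𝟙 _
        rw [cokernel.π_desc_assoc, Category.comp_id]
        have := cokernel.condition p
        simp only [p, Preadditive.sub_comp, Category.id_comp, Category.assoc] at this ⊢
        exact (sub_eq_zero.1 this).symm
      inv_hom_id := by rw [Category.assoc, cokernel.π_desc, partIncl_π] }
  exact isCoh_iso e (Coherent.isCoh_cokernel p hM.1 hM)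

section Hilb

variable (k : Type u) [Field k] [X.Over (Spec (CommRingCat.of k))]
  [IsProper (X ↘ Spec (CommRingCat.of k))] {L : X.Modules} (hL : CohB1.IsAmple L)

include hd hc hL in
/-- Hilbert polynomials add over the parts. -/
theorem hilb_parts {M : X.Modules} (hM : Coh.IsCoh M) {P Q R : Polynomial ℚ}
    (hP : ShStab.IsHilbPoly k X L M P) (hQ : ShStab.IsHilbPoly k X L (part U M) Q)
    (hR : ShStab.IsHilbPoly k X L (part W M) R) : P = Q + R := by
  haveI := isNoetherian_of_proper (X := X) k
  have hW : Coh.IsCoh (part W M) := isCoh_part hd.symm (by rw [sup_comm, hc]) hM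
  have hU : Coh.IsCoh (part U M) := isCoh_part hd hc hM
  let S := ShortComplex.mk (partIncl hd hc M) (partπ W M) (by
    have h : (partIso hd hc M).hom ≫ biprod.snd = partπ W M := biprod.lift_snd _ _
    rw [partIncl, ← h, Category.assoc, Iso.inv_hom_id_assoc, biprod.inl_snd])
  let σ : S.Splitting :=
    { r := partπ U M
      s := biprod.inr ≫ (partIso hd hc M).inv
      f_r := partIncl_π hd hc M
      s_g := by
        have h : (partIso hd hc M).hom ≫ biprod.snd = partπ W M := biprod.lift_snd _ _
        show (biprod.inr ≫ (partIso hd hc M).inv) ≫ partπ W M = 𝟙 _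
        rw [← h, Category.assoc, Iso.inv_hom_id_assoc, biprod.inr_snd]
      id := by
        show partπ U M ≫ partIncl hd hc M + partπ W M ≫ biprod.inr ≫ (partIso hd hc M).inv = 𝟙 M
        rw [partIncl, ← Category.assoc, ← Category.assoc (partπ W M), ← Preadditive.add_comp, ← biprod.lift_eq]
        exact (partIso hd hc M).hom_inv_id }
  exact hilb_ses k hL σ.shortExact hU hM hW hQ hP hR

end Hilb


theorem isClopen_connectedComponent_of_noetherian {T : Type*} [TopologicalSpace T] [NoetherianSpace T] (y : T) :
    IsClopen (connectedComponent y) := by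
  refine ⟨isClosed_connectedComponent, ?_⟩
  have h : (connectedComponent y)ᶜ = ⋃ Z ∈ {Z ∈ irreducibleComponents T | Disjoint Z (connectedComponent y)}, Z := by
    ext z
    simp only [Set.mem_compl_iff, Set.mem_iUnion, Set.mem_setOf_eq]
    refine ⟨fun hz => ⟨irreducibleComponent z, ⟨irreducibleComponent_mem_irreducibleComponents z, ?_⟩,
      mem_irreducibleComponent⟩, fun ⟨Z, ⟨_, hd⟩, hzZ⟩ hzy => Set.disjoint_left.1 hd hzZ hzy⟩
    rw [Set.disjoint_left]
    intro w hw hwy
    have hsub : irreducibleComponent z ⊆ connectedComponent z :=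
      isIrreducible_irreducibleComponent.2.isPreconnected.subset_connectedComponent mem_irreducibleComponent
    exact hz (((connectedComponent_eq (hsub hw)).trans (connectedComponent_eq hwy).symm) ▸ mem_connectedComponent)
  rw [← isClosed_compl_iff, h]
  exact (NoetherianSpace.finite_irreducibleComponents.subset fun Z hZ => hZ.1).isClosed_biUnion
    fun Z hZ => isClosed_of_mem_irreducibleComponents Z hZ.1

/-- The connected component of a point as an open. -/
noncomputable def compOpen [NoetherianSpace X] (y : X) : X.Opens :=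
  ⟨connectedComponent y, (isClopen_connectedComponent_of_noetherian y).2⟩

/-- A module all of whose component parts vanish vanishes. -/
theorem isZero_of_parts [NoetherianSpace X] (M : X.Modules) (h : ∀ y : X, IsZero (part (compOpen y) M)) :
    IsZero M := by
  refine CurveRR24.isZero_of_sections fun V s => ?_
  let K : X → X.Opens := fun y => (compOpen y).ι ''ᵁ ((compOpen y).ι ⁻¹ᵁ V)
  refine TopCat.Sheaf.eq_of_locally_eq' (⟨M.presheaf, M.isSheaf⟩ : TopCat.Sheaf Ab X) K V
    (fun y => homOfLE (Scheme.Hom.image_preimage_le _ _))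
    (fun z hz => Opens.mem_iSup.2 ⟨z, (img_eq _ V).ge ⟨mem_connectedComponent, hz⟩⟩) s 0 fun y => ?_
  exact (congrArg (fun φ : part (compOpen y) M ⟶ part (compOpen y) M =>
    φ.app V (resM M (Scheme.Hom.image_preimage_le _ V) s)) ((h y).eq_of_src (𝟙 _) 0)).trans (map_zero _).symm

end Groth.Agent.EulerLib
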