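import Groth.Agent.EulerLib.StabBasic
import Groth.Agent.Coherent.QcohOps
import Groth.Prelude.Def_RefHull
import Groth.Prelude.Def_DefoSh

/-!
# Duals on an integral scheme are pure
-/

set_option autoImplicit false
set_option linter.style.haveILetI false

universe u

open CategoryTheory CategoryTheory.Limits AlgebraicGeometry Opposite TopologicalSpace
open Groth.Agent.Coherent

namespace Groth.Agent.EulerLib

variable {X : Scheme.{u}} [IsIntegral X]

/-- A submodule of a dual with nowhere dense support vanishes. -/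
theorem isZero_sub_dual {G H : X.Modules} (ι : G ⟶ RefHull.dual H) [Mono ι]
    (hcl : IsClosed (CohB1.support G)) (hne : CohB1.support G ≠ Set.univ) : IsZero G := by
  refine isZero_of_support_eq_empty (Set.eq_empty_iff_forall_notMem.2 fun x hx => hx ?_)
  refine subsingleton_of_forall_eq 0 fun a => ?_
  obtain ⟨U, hxU, s, rfl⟩ := TopCat.Presheaf.exists_germ_eq G.presheaf a
  have h0 : ι.app U s = 0 := by
    refine Subtype.ext (funext fun y => LinearMap.ext fun v => ?_)
    obtain ⟨V, hyV, m, rfl⟩ := TopCat.Presheaf.exists_germ_eq H.presheaf v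
    obtain ⟨W, hW, j, n, hn⟩ := RefHull.isLocSect_of_mem (ι.app U s) (U ⊓ V) (homOfLE inf_le_left)
      (H.presheaf.map (homOfLE inf_le_right).op m) ⟨y.1, y.2, hyV⟩
    obtain ⟨z, hzW, hzG⟩ : ((W : Set X) ∩ (CohB1.support G)ᶜ).Nonempty :=
      nonempty_preirreducible_inter W.isOpen hcl.isOpen_compl ⟨y.1, hW⟩
        (Set.nonempty_compl.2 hne)
    have hzU : z ∈ U := (j.le hzW).1
    haveI : Subsingleton (G.presheaf.stalk z) := not_not.1 hzG
    have hz : (ι.app U s).1 ⟨z, hzU⟩ = 0 := by
      rw [← RefHull.evalStalk_germ H (Coh.structureModule X) z hzU (ι.app U s), ← RefHull.stalkMapₗ_germ,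
        Subsingleton.elim (G.presheaf.germ U z hzU s) 0, map_zero, map_zero]
    have h1 : (Coh.structureModule X).presheaf.germ W z hzW n = 0 := by
      rw [← hn ⟨z, hzW⟩]
      exact (LinearMap.congr_fun hz _).trans (LinearMap.zero_apply _)
    obtain ⟨W', hzW', j₁, j₂, e⟩ := TopCat.Presheaf.germ_eq (Coh.structureModule X).presheaf
      (U := W) (V := W) z hzW hzW n 0 (h1.trans (map_zero _).symm)
    haveI : Nonempty W' := ⟨⟨z, hzW'⟩⟩
    have h2 : (show Γ(X, W) from n) = 0 := map_injective_of_isIntegral X j₁
      ((e.trans (map_zero _)).trans (map_zero (X.presheaf.map j₁.op).hom).symm)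
    have h3 : n = 0 := h2
    have e' := hn ⟨y.1, hW⟩
    rw [h3, map_zero, TopCat.Presheaf.germ_res_apply] at e'
    exact e'.trans (LinearMap.zero_apply _).symm
  rw [show s = 0 from app_injective_of_mono ι U (h0.trans (map_zero _).symm), map_zero]

/-- Reflexive modules on an integral scheme are pure of the dimension of the scheme. -/
theorem isPure_of_isReflexive {F : X.Modules} (hF : RefHull.IsReflexive F) {n : ℕ}
    (hX : topologicalKrullDim X = n) : ShStab.IsPure X F n := by
  intro G κ _ hG hG0
  haveI : IsIso (RefHull.bidualMap F) := hF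
  by_cases h : CohB1.support G = Set.univ
  · rw [h, ← hX]
    exact IsHomeomorph.topologicalKrullDim_eq _ (Homeomorph.Set.univ X).isHomeomorph
  · exact absurd (isZero_sub_dual (κ ≫ RefHull.bidualMap F)
      (isClosed_support G (locallyFinGen_of_isFT G hG.2)) h) hG0

end Groth.Agent.EulerLib
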