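import Groth.Agent.EulerLib.PolyOrder

/-!
# Truncations of reduced comparisons
-/

set_option autoImplicit false

open Polynomial StabCat

namespace Groth.Agent.EulerLib

variable {d ℓ : ℕ} {P Q : ℚ[X]}

theorem coeff_topPart (ℓ d : ℕ) (P : ℚ[X]) (j : ℕ) :
    (topPart ℓ d P).coeff j = if d - ℓ ≤ j ∧ j ≤ d then P.coeff j else 0 := by
  rw [topPart, finsetSum_coeff]
  simp only [coeff_monomial, Finset.sum_ite_eq', Finset.mem_Icc]

theorem alpha_topPart (ℓ d : ℕ) (P : ℚ[X]) : alpha d (topPart ℓ d P) = alpha d P := by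
  simp [alpha, coeff_topPart]

theorem topPart_self (h : P.natDegree ≤ d) : topPart d d P = P := by
  ext j
  rw [coeff_topPart]
  split_ifs with hj
  · rfl
  · rw [coeff_eq_zero_of_natDegree_lt]
    omega

theorem topPart_sub_smul (ℓ d : ℕ) (a b : ℚ) (P Q : ℚ[X]) :
    a • topPart ℓ d Q - b • topPart ℓ d P = topPart ℓ d (a • Q - b • P) := by
  ext j
  simp only [coeff_sub, coeff_smul, coeff_topPart, smul_eq_mul]
  split_ifs <;> ring

theorem natDegree_comb_le (hP : P.natDegree ≤ d) (hQ : Q.natDegree ≤ d) (a b : ℚ) :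
    (a • Q - b • P).natDegree ≤ d :=
  natDegree_sub_le_of_le ((natDegree_smul_le a Q).trans hQ) ((natDegree_smul_le b P).trans hP) |>.trans
    (max_self d).le

/-- Truncation preserves the reduced comparison. -/
theorem redLE_topPart (hP : P.natDegree ≤ d) (hQ : Q.natDegree ≤ d) (h : RedLE d P Q) (ℓ : ℕ) :
    RedLE d (topPart ℓ d P) (topPart ℓ d Q) := by
  rw [RedLE, polyLE_iff] at h ⊢
  rw [alpha_topPart, alpha_topPart, topPart_sub_smul]
  set D := alpha d P • Q - alpha d Q • P
  have hD : D.natDegree ≤ d := natDegree_comb_le hP hQ _ _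
  by_cases h0 : topPart ℓ d D = 0
  · rw [h0, leadingCoeff_zero]
  · by_cases hlo : d - ℓ ≤ D.natDegree
    · have hc : (topPart ℓ d D).coeff D.natDegree = D.leadingCoeff := by
        rw [coeff_topPart, if_pos ⟨hlo, hD⟩]
        rfl
      have hle : (topPart ℓ d D).natDegree ≤ D.natDegree := natDegree_le_iff_coeff_eq_zero.2 fun j hj => by
        rw [coeff_topPart, coeff_eq_zero_of_natDegree_lt hj, ite_self]
      have hne : D.leadingCoeff ≠ 0 := leadingCoeff_ne_zero.2 fun e => h0 (by
        ext j
        rw [coeff_topPart, e, coeff_zero, ite_self])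
      have he : (topPart ℓ d D).natDegree = D.natDegree :=
        hle.antisymm (le_natDegree_of_ne_zero (hc ▸ hne))
      rw [show (topPart ℓ d D).leadingCoeff = D.leadingCoeff from by rw [leadingCoeff, he, hc]]
      exact h
    · exact absurd (by
        ext j
        rw [coeff_topPart, coeff_zero]
        split_ifs with hj
        · exact coeff_eq_zero_of_natDegree_lt (by omega)
        · rfl) h0

/-- Reduced comparison implies comparison of slopes. -/
theorem hatSlope_le (hd : 1 ≤ d) (hP : P.natDegree ≤ d) (hQ : Q.natDegree ≤ d) (hα : 0 < alpha d P)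
    (hβ : 0 < alpha d Q) (h : RedLE d P Q) : hatSlope d P ≤ hatSlope d Q := by
  rw [RedLE, polyLE_iff] at h
  set D := alpha d P • Q - alpha d Q • P with hDdef
  have hD : D.natDegree ≤ d := natDegree_comb_le hP hQ _ _
  have hDd : D.coeff d = 0 := by
    simp only [hDdef, coeff_sub, coeff_smul, smul_eq_mul, alpha]
    ring
  have hc : 0 ≤ D.coeff (d - 1) := by
    rcases lt_trichotomy D.natDegree (d - 1) with hlt | heq | hgt
    · rw [coeff_eq_zero_of_natDegree_lt hlt]
    · exact heq ▸ h
    · have he : D.natDegree = d := by omega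
      have : D.leadingCoeff = 0 := by rw [leadingCoeff, he, hDd]
      rw [leadingCoeff_eq_zero] at this
      rw [this, natDegree_zero] at hgt
      exact absurd hgt (Nat.not_lt_zero _)
  simp only [hDdef, coeff_sub, coeff_smul, smul_eq_mul] at hc
  rw [hatSlope, hatSlope, div_le_div_iff₀ hα hβ]
  have hf : (0 : ℚ) < ((d - 1).factorial : ℚ) := by exact_mod_cast (d - 1).factorial_pos
  simp only [alpha] at hc ⊢
  nlinarith [mul_nonneg hf.le hc]

end Groth.Agent.EulerLib
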