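import Groth.Agent.EulerLib.StabSub
import Groth.Agent.EulerLib.PolyTop

/-!
# Quotients of a module with a filtration by truncated-semistable factors
-/

set_option autoImplicit false
set_option linter.style.haveILetI false
set_option linter.unusedSectionVars false

universe u

open CategoryTheory CategoryTheory.Limits AlgebraicGeometry StabCat Polynomial
open Groth.Agent.Coherent

namespace Groth.Agent.EulerLib

theorem topPart_add (ℓ d : ℕ) (P Q : ℚ[X]) : topPart ℓ d (P + Q) = topPart ℓ d P + topPart ℓ d Q := by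
  ext j
  simp only [coeff_topPart, coeff_add]
  split_ifs <;> simp

theorem topPart_zero (ℓ d : ℕ) : topPart ℓ d (0 : ℚ[X]) = 0 := by
  ext j
  simp [coeff_topPart]

theorem polyLE_zero_topPart {P : ℚ[X]} {d : ℕ} (hP : P.natDegree ≤ d) (h : PolyLE 0 P) (ℓ : ℕ) :
    PolyLE 0 (topPart ℓ d P) := by
  rw [polyLE_iff, sub_zero] at h ⊢
  by_cases hlo : d - ℓ ≤ P.natDegree
  · by_cases h0 : P = 0
    · rw [h0, topPart_zero, leadingCoeff_zero]
    have hc : (topPart ℓ d P).coeff P.natDegree = P.leadingCoeff := by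
      rw [coeff_topPart, if_pos ⟨hlo, hP⟩]
      rfl
    have hle : (topPart ℓ d P).natDegree ≤ P.natDegree := natDegree_le_iff_coeff_eq_zero.2 fun j hj => by
      rw [coeff_topPart, coeff_eq_zero_of_natDegree_lt hj, ite_self]
    have he : (topPart ℓ d P).natDegree = P.natDegree :=
      hle.antisymm (le_natDegree_of_ne_zero (hc ▸ leadingCoeff_ne_zero.2 h0))
    rw [show (topPart ℓ d P).leadingCoeff = P.leadingCoeff from by rw [leadingCoeff, he, hc]]
    exact h
  · rw [show topPart ℓ d P = 0 from ?_, leadingCoeff_zero]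
    ext j
    rw [coeff_topPart, coeff_zero]
    split_ifs with hj
    · exact coeff_eq_zero_of_natDegree_lt (by omega)
    · rfl

variable {X : Scheme.{u}} [AlgebraicGeometry.IsNoetherian X]
variable (k : Type u) [Field k] [X.Over (Spec (CommRingCat.of k))] [IsProper (X ↘ Spec (CommRingCat.of k))]
  {L : X.Modules} (hL : CohB1.IsAmple L) {d ℓ : ℕ}

include hL in
/-- Quotients of a truncated-semistable module. -/
theorem ell_quot {F J : X.Modules} (hF : ShStab.IsEllSemistable k X L F d ℓ) (π : F ⟶ J) [Epi π]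
    (hJ : Coh.IsCoh J) {pF pJ : ℚ[X]} (hpF : ShStab.IsHilbPoly k X L F pF) (hpJ : ShStab.IsHilbPoly k X L J pJ) :
    RedLE d (topPart ℓ d pF) (topPart ℓ d pJ) := by
  obtain ⟨hFc, hF0, hpu, hss⟩ := hF
  have hd : topologicalKrullDim (CohB1.support J) ≤ d :=
    (dim_mono (support_subset_of_epi π)).trans (dim_le_of_pure k hFc hpu)
  have hαF := alpha_pos_self k hL hFc hF0 hpu hpF
  by_cases hzero : alpha d pJ = 0
  · have h := polyLE_zero_topPart (alpha_eq_interDeg k hL.1 hJ hpJ hd).1 (polyLE_zero k hL hJ hpJ) ℓ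
    rw [RedLE, alpha_topPart, alpha_topPart, hzero, zero_smul]
    rw [← smul_zero (alpha d pF)]
    exact (polyLE_smul hαF).2 h
  have hK := isCoh_kernel π hFc hJ.1
  have hpK := isHilbPoly_hp k hL _ hK
  have e := hilb_ses k hL (shortExact_kernel π) hK hFc hJ hpK hpF hpJ
  by_cases hz : IsZero (kernel π)
  · rw [e, hilb_zero k hL hz hpK, zero_add]
    exact redLE_refl _
  have hlt : alpha d (hp k hL _ hK) < alpha d pF := by
    rw [e, alpha_add]
    have h0 := alpha_nonneg k hL hJ hpJ hd
    linarith [lt_of_le_of_ne h0 (Ne.symm hzero)]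
  have h := hss _ (kernel.ι π) inferInstance hK _ _ hpK hpF (alpha_pos_of_sub k hL hpu (kernel.ι π) hK hz hpK) hlt
  rw [e, topPart_add] at h ⊢
  exact (redLE_seesaw _ _).1 h

end Groth.Agent.EulerLib
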