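import Groth.Agent.EulerLib.StabHN
import Groth.Agent.RefHullLib.FreeLocus
import Groth.Agent.KZeroLib.SigmaCoh
import Groth.Agent.ModStalk.Exact
import Groth.Agent.FlatMor12.IsoLocusMod

/-!
# Jordan-Hölder filtrations of good submodules and quotients; locally free graded objects
-/

set_option autoImplicit false
set_option linter.style.haveILetI false
set_option linter.unusedSectionVars false
set_option backward.isDefEq.respectTransparency.types false
set_option maxHeartbeats 1000000

universe u

open CategoryTheory CategoryTheory.Limits AlgebraicGeometry StabCat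
open Groth.Agent.Coherent

namespace Groth.Agent.EulerLib.JHLocFree

variable {X : Scheme.{u}} [AlgebraicGeometry.IsNoetherian X]

/-- The stalk at `x` is free. -/
def FS (x : X) (M : X.Modules) : Prop := Module.Free (X.presheaf.stalk x) (M.presheaf.stalk x)

theorem FS.iff_locFree {M : X.Modules} (hM : Coh.IsCoh M) (x : X) :
    FS x M ↔ ∃ U : X.Opens, x ∈ U ∧ FlatMod.IsFinLocFree (M.restrict U.ι) := by
  refine ⟨fun h => ?_, fun ⟨U, hx, hU⟩ => (RefHullLib.isFinLocFree_restrict_iff hM U).1 hU x hx⟩
  exact ⟨⟨_, RefHullLib.isOpen_free_stalk hM⟩, h, (RefHullLib.isFinLocFree_restrict_iff hM _).2 fun y hy => hy⟩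

theorem FS.retract {M N : X.Modules} (hM : Coh.IsCoh M) {x : X} (h : FS x N) (s : M ⟶ N) (r : N ⟶ M)
    (hsr : s ≫ r = 𝟙 M) : FS x M := by
  haveI : Module.Free (X.presheaf.stalk x) ((DerSch.stalkFunctor X x).obj N : Type u) := h
  haveI := hM.1
  haveI : Module.Finite (X.presheaf.stalk x) ((DerSch.stalkFunctor X x).obj M : Type u) :=
    FlatMor12.IsoLocusMod.finite_stalk hM.2 x
  have hid : ((DerSch.stalkFunctor X x).map r).hom.comp ((DerSch.stalkFunctor X x).map s).hom = LinearMap.id := by
    rw [← ModuleCat.hom_comp, ← Functor.map_comp, hsr, CategoryTheory.Functor.map_id]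
    rfl
  haveI := Module.Projective.of_split _ _ hid
  exact (Module.free_of_flat_of_isLocalRing : Module.Free (X.presheaf.stalk x) ((DerSch.stalkFunctor X x).obj M : Type u))

theorem FS.of_iso {M N : X.Modules} (hM : Coh.IsCoh M) {x : X} (e : M ≅ N) (h : FS x N) : FS x M :=
  h.retract hM e.hom e.inv e.hom_inv_id

theorem FS.extension {S : ShortComplex X.Modules} (hS : S.ShortExact) {x : X} (h₁ : FS x S.X₁) (h₃ : FS x S.X₃) :
    FS x S.X₂ := by
  have hst := hS.map_of_exact (DerSch.stalkFunctor X x)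
  haveI : Module.Free (X.presheaf.stalk x) ((S.map (DerSch.stalkFunctor X x)).X₁ : Type u) := h₁
  haveI : Module.Free (X.presheaf.stalk x) ((S.map (DerSch.stalkFunctor X x)).X₃ : Type u) := h₃
  exact ModuleCat.free_shortExact hst

theorem FS.of_subsingleton {M : X.Modules} {x : X} (h : Subsingleton (M.presheaf.stalk x)) : FS x M :=
  Module.Free.of_subsingleton _ _

theorem FS.of_isZero {M : X.Modules} (h : IsZero M) (x : X) : FS x M :=
  FS.of_subsingleton (ModuleCat.subsingleton_of_isZero (((DerSch.stalkFunctor X x).map_isZero h)))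

/-- A coproduct is a retract of a coproduct with more terms. -/
theorem exists_retract {m n : ℕ} (A : Fin m → X.Modules) (B : Fin n → X.Modules) (σ : Fin m → Fin n)
    (hσ : Function.Injective σ) (φ : ∀ i, A i ≅ B (σ i)) :
    ∃ (s : ∐ A ⟶ ∐ B) (r : ∐ B ⟶ ∐ A), s ≫ r = 𝟙 _ := by
  classical
  let c : ∀ (i : Fin m) (j : Fin n), B j ⟶ ∐ A := fun i j =>
    if h : j = σ i then eqToHom (congrArg B h) ≫ (φ i).inv ≫ Sigma.ι A i else 0
  refine ⟨Sigma.desc fun i => (φ i).hom ≫ Sigma.ι B (σ i), Sigma.desc fun j => ∑ i, c i j,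
    Sigma.hom_ext _ _ fun i => ?_⟩
  simp only [colimit.ι_desc_assoc, Cofan.mk_ι_app, Category.assoc, colimit.ι_desc, Category.comp_id]
  rw [Finset.sum_eq_single i]
  · simp [c]
  · intro b _ hb
    exact dif_neg fun h => hb (hσ h).symm
  · simp

theorem isCoh_grObj {E : X.Modules} (s : LTSeries (Subobject E)) (h : ∀ i, Coh.IsCoh (factor s i)) :
    Coh.IsCoh (grObj s) := KZeroLib.isCoh_sigma_finite ⟨inferInstanceAs (Fintype (Fin s.length))⟩ _ h

theorem isStable_congr {k : Type u} [Field k] [X.Over (Spec (CommRingCat.of k))]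
    [IsProper (X ↘ Spec (CommRingCat.of k))] {L : X.Modules} (hL : CohB1.IsAmple L) {d : ℕ}
    {E E' : X.Modules} (e : E ≅ E') (h : ShStab.IsStable k X L E d) : ShStab.IsStable k X L E' d := by
  refine ⟨isCoh_iso e h.1, fun hz => h.2.1 (hz.of_iso e), isPure_of_mono h.2.2.1 e.inv,
    fun F κ hm hF h0 hni pF pE hpF hpE => ?_⟩
  haveI := hm
  have hni' : ¬ IsIso (κ ≫ e.inv) := fun hi => hni (by
    have := hi
    exact IsIso.of_isIso_comp_right κ e.inv)
  refine h.2.2.2 F (κ ≫ e.inv) (mono_comp κ e.inv) hF h0 hni' pF pE hpF ?_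
  rw [isHilbPoly_unique k hpE (isHilbPoly_hp k hL E' (isCoh_iso e h.1)), ← hp_congr k hL e h.1 (isCoh_iso e h.1)]
  exact isHilbPoly_hp k hL E h.1

section Rank

variable (k : Type u) [Field k] [X.Over (Spec (CommRingCat.of k))] [IsProper (X ↘ Spec (CommRingCat.of k))]
  {L : X.Modules} (hL : CohB1.IsAmple L) {d : ℕ} {E : X.Modules} (hE : Coh.IsCoh E) (hp' : ShStab.IsPure X E d)

/-- A series of good submodules with stable steps passing through a given good submodule. -/
theorem exists_series_through (hss : (stabData k hL hE hp').SS ⊥ ⊤) (a : CohSub hE)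
    (ha : (stabData k hL hE hp').Good a) :
    ∀ c, (stabData k hL hE hp').Good c → c ≤ a → ∃ s : LTSeries (CohSub hE), s.head = c ∧ s.last = ⊤ ∧
      (∀ m, (stabData k hL hE hp').Good (s m)) ∧
      (∀ i : Fin s.length, (stabData k hL hE hp').Stable (s i.castSucc) (s i.succ)) ∧ ∃ m, s m = a := by
  classical
  set R := stabData k hL hE hp'
  intro c
  induction c using WellFoundedGT.induction with
  | ind c ih =>
    intro hc hca
    rcases hca.eq_or_lt with h | h
    · obtain ⟨s, hh, hl, hg, hst⟩ := exists_good_series k hL hE hp' hss c hc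
      exact ⟨s, hh, hl, hg, hst, 0, hh.trans h⟩
    · choose n hn using fun c => R.int c
      have hex : ∃ v : ℕ, ∃ b, R.Good b ∧ c < b ∧ b ≤ a ∧ (n b - n c).toNat = v := ⟨_, a, ha, h, le_rfl, rfl⟩
      obtain ⟨b, hb, hcb, hba, hv⟩ := Nat.find_spec hex
      have hcov : ∀ e, R.Good e → c < e → ¬ e < b := fun e he hce heb => by
        have h1 := RankData.good_pos hss he heb
        have h2 := RankData.good_pos hss hc hce
        rw [R.alpha_Q, hn, hn, sub_pos, Int.cast_lt] at h1 h2
        have := Nat.find_min' hex ⟨e, he, hce, heb.le.trans hba, rfl⟩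
        omega
      obtain ⟨s, hh, hl, hg, hst, m, hm⟩ := ih b hcb hb hba
      refine ⟨consSeries c s (hcb.trans_eq hh.symm), rfl, ?_, ?_, ?_, Fin.succ m, ?_⟩
      · show (Fin.cons c s.toFun : Fin (s.length + 2) → CohSub hE) (Fin.last (s.length + 1)) = ⊤
        rw [← Fin.succ_last, Fin.cons_succ]
        exact hl
      · intro m
        show R.Good ((Fin.cons c s.toFun : Fin (s.length + 2) → CohSub hE) m)
        induction m using Fin.cases with
        | zero => exact hc
        | succ m => exact hg m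
      · intro i
        show R.Stable ((Fin.cons c s.toFun : Fin (s.length + 2) → CohSub hE) (Fin.castSucc i))
          ((Fin.cons c s.toFun : Fin (s.length + 2) → CohSub hE) (Fin.succ i))
        induction i using Fin.cases with
        | zero =>
          rw [Fin.castSucc_zero, Fin.cons_zero, Fin.cons_succ, show s.toFun 0 = b from hh]
          exact RankData.good_stable hss hc hb hcb hcov
        | succ i =>
          rw [← Fin.succ_castSucc, Fin.cons_succ, Fin.cons_succ]
          exact hst i
      · show (Fin.cons c s.toFun : Fin (s.length + 2) → CohSub hE) (Fin.succ m) = a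
        rw [Fin.cons_succ]
        exact hm

end Rank

section SubQuot

variable {E G : X.Modules} (ι : G ⟶ E) [Mono ι]

/-- A submodule of `E` inside `G` as a submodule of `G`. -/
noncomputable def subOf (b : Subobject E) (h : b ≤ Subobject.mk ι) : Subobject G :=
  Subobject.mk (Subobject.ofLEMk b ι h)

theorem subOf_comm {b c : Subobject E} (hbc : b ≤ c) (hc : c ≤ Subobject.mk ι) :
    Subobject.ofLE b c hbc ≫ Subobject.ofLEMk c ι hc = Subobject.ofLEMk b ι (hbc.trans hc) := by
  rw [← cancel_mono ι, Category.assoc, Subobject.ofLEMk_comp, Subobject.ofLEMk_comp, Subobject.ofLE_arrow]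

theorem subOf_le {b c : Subobject E} (hbc : b ≤ c) (hc : c ≤ Subobject.mk ι) :
    subOf ι b (hbc.trans hc) ≤ subOf ι c hc :=
  Subobject.mk_le_mk_of_comm (Subobject.ofLE b c hbc) (by
    rw [← cancel_mono ι, Category.assoc, Subobject.ofLEMk_comp, Subobject.ofLEMk_comp, Subobject.ofLE_arrow])

noncomputable def subFactorIso {b c : Subobject E} (hbc : b ≤ c) (hc : c ≤ Subobject.mk ι) :
    cokernel (Subobject.ofLE b c hbc) ≅
      cokernel (Subobject.ofLE (subOf ι b (hbc.trans hc)) (subOf ι c hc) (subOf_le ι hbc hc)) :=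
  cokernel.mapIso _ _ (Subobject.underlyingIso _).symm (Subobject.underlyingIso _).symm (by
    dsimp only [subOf]
    erw [Subobject.ofLE_mk_le_mk_of_comm (Subobject.ofLE b c hbc) (subOf_comm ι hbc hc)]
    simp)

theorem subOf_self {b : Subobject E} (hb : b = Subobject.mk ι) : subOf ι b hb.le = ⊤ := by
  subst hb
  haveI : IsIso (Subobject.ofLEMk (Subobject.mk ι) ι le_rfl) :=
    ⟨⟨(Subobject.underlyingIso ι).inv, by
      rw [← cancel_mono (Subobject.mk ι).arrow, Category.assoc, Subobject.underlyingIso_arrow,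
        Subobject.ofLEMk_comp, Category.id_comp], by
      rw [← cancel_mono ι, Category.assoc, Subobject.ofLEMk_comp, Subobject.underlyingIso_arrow, Category.id_comp]⟩⟩
  exact Subobject.mk_eq_top_of_isIso _

theorem subOf_bot {b : Subobject E} (hb : b = ⊥) : subOf ι b (hb ▸ bot_le) = ⊥ := by
  subst hb
  exact Subobject.mk_eq_bot_iff_zero.2 (((isZero_zero X.Modules).of_iso Subobject.botCoeIsoZero).eq_of_src _ _)

/-- The image of a submodule `b` in `E / G`, as a map. -/
noncomputable def quotMap (b : Subobject E) (h : Subobject.mk ι ≤ b) :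
    cokernel (Subobject.ofMkLE ι b h) ⟶ cokernel ι :=
  cokernel.map (Subobject.ofMkLE ι b h) ι (𝟙 G) b.arrow (by rw [Category.id_comp, Subobject.ofMkLE_arrow])

instance mono_quotMap (b : Subobject E) (h : Subobject.mk ι ≤ b) : Mono (quotMap ι b h) := by
  let S := ShortComplex.mk (Subobject.ofMkLE ι b h) (b.arrow ≫ cokernel.π ι) (by
    rw [← Category.assoc, Subobject.ofMkLE_arrow, cokernel.condition])
  have hS : S.Exact := ShortComplex.exact_of_f_is_kernel _ (KernelFork.IsLimit.ofι' _ _ fun {A} z hz =>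
    ⟨Abelian.monoLift ι (z ≫ b.arrow) (by rw [Category.assoc]; exact hz), by
      rw [← cancel_mono b.arrow, Category.assoc]
      erw [Subobject.ofMkLE_arrow]
      rw [Abelian.monoLift_comp]⟩)
  have := hS.mono_cokernelDesc
  convert this using 1
  exact coequalizer.hom_ext (by simp [quotMap, S])

noncomputable def quotOf (b : Subobject E) (h : Subobject.mk ι ≤ b) : Subobject (cokernel ι) :=
  Subobject.mk (quotMap ι b h)

noncomputable def quotStep {b c : Subobject E} (hb : Subobject.mk ι ≤ b) (hbc : b ≤ c) :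
    cokernel (Subobject.ofMkLE ι b hb) ⟶ cokernel (Subobject.ofMkLE ι c (hb.trans hbc)) :=
  cokernel.map (Subobject.ofMkLE ι b hb) (Subobject.ofMkLE ι c (hb.trans hbc)) (𝟙 G) (Subobject.ofLE b c hbc) (by
    rw [Category.id_comp, ← cancel_mono c.arrow, Category.assoc, Subobject.ofLE_arrow, Subobject.ofMkLE_arrow,
      Subobject.ofMkLE_arrow])

theorem quotStep_comp {b c : Subobject E} (hb : Subobject.mk ι ≤ b) (hbc : b ≤ c) :
    quotStep ι hb hbc ≫ quotMap ι c (hb.trans hbc) = quotMap ι b hb :=
  coequalizer.hom_ext (by simp [quotStep, quotMap, Subobject.ofLE_arrow_assoc])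

theorem quotOf_le {b c : Subobject E} (hb : Subobject.mk ι ≤ b) (hbc : b ≤ c) :
    quotOf ι b hb ≤ quotOf ι c (hb.trans hbc) :=
  Subobject.mk_le_mk_of_comm (quotStep ι hb hbc) (quotStep_comp ι hb hbc)

/-- The third isomorphism theorem. -/
noncomputable def quotStepIso {b c : Subobject E} (hb : Subobject.mk ι ≤ b) (hbc : b ≤ c) :
    cokernel (Subobject.ofLE b c hbc) ≅ cokernel (quotStep ι hb hbc) where
  hom := cokernel.desc _ (cokernel.π _ ≫ cokernel.π _) (by
    rw [← Category.assoc, show Subobject.ofLE b c hbc ≫ cokernel.π (Subobject.ofMkLE ι c (hb.trans hbc)) =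
      cokernel.π (Subobject.ofMkLE ι b hb) ≫ quotStep ι hb hbc from (cokernel.π_desc _ _ _).symm,
      Category.assoc, cokernel.condition, Limits.comp_zero])
  inv := cokernel.desc _ (cokernel.desc _ (cokernel.π _) (by
    have : Subobject.ofMkLE ι c (hb.trans hbc) = Subobject.ofMkLE ι b hb ≫ Subobject.ofLE b c hbc := by
      rw [← cancel_mono c.arrow, Category.assoc, Subobject.ofLE_arrow, Subobject.ofMkLE_arrow, Subobject.ofMkLE_arrow]
    rw [this, Category.assoc, cokernel.condition, Limits.comp_zero])) (by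
    refine coequalizer.hom_ext ?_
    simp [quotStep])
  hom_inv_id := coequalizer.hom_ext (by simp)
  inv_hom_id := coequalizer.hom_ext (coequalizer.hom_ext (by simp))

noncomputable def quotFactorIso {b c : Subobject E} (hb : Subobject.mk ι ≤ b) (hbc : b ≤ c) :
    cokernel (Subobject.ofLE b c hbc) ≅
      cokernel (Subobject.ofLE (quotOf ι b hb) (quotOf ι c (hb.trans hbc)) (quotOf_le ι hb hbc)) :=
  quotStepIso ι hb hbc ≪≫
    cokernel.mapIso _ _ (Subobject.underlyingIso _).symm (Subobject.underlyingIso _).symm (by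
      dsimp only [quotOf]
      erw [Subobject.ofLE_mk_le_mk_of_comm (quotStep ι hb hbc) (quotStep_comp ι hb hbc)]
      simp)

theorem quotOf_self {b : Subobject E} (hb : b = Subobject.mk ι) : quotOf ι b hb.ge = ⊥ := by
  subst hb
  haveI : Epi (Subobject.ofMkLE ι (Subobject.mk ι) le_rfl) := by
    haveI : IsIso (Subobject.ofMkLE ι (Subobject.mk ι) le_rfl) :=
      ⟨⟨(Subobject.underlyingIso ι).hom, by
        rw [← cancel_mono ι, Category.assoc]
        erw [Subobject.underlyingIso_hom_comp_eq_mk, Subobject.ofMkLE_arrow, Category.id_comp], by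
        rw [← cancel_mono (Subobject.mk ι).arrow, Category.assoc, Subobject.ofMkLE_arrow,
          Subobject.underlyingIso_hom_comp_eq_mk, Category.id_comp]⟩⟩
    infer_instance
  exact Subobject.mk_eq_bot_iff_zero.2
    ((IsZero.of_iso (isZero_zero X.Modules) (cokernel.ofEpi _)).eq_of_src _ _)

theorem quotOf_top {b : Subobject E} (hb : b = ⊤) : quotOf ι b (hb ▸ le_top) = ⊤ := by
  subst hb
  haveI : Epi (quotMap ι ⊤ le_top) := by
    have hfac : cokernel.π _ ≫ quotMap ι ⊤ le_top = (⊤ : Subobject E).arrow ≫ cokernel.π ι := cokernel.π_desc _ _ _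
    haveI hepi : Epi ((⊤ : Subobject E).arrow ≫ cokernel.π ι) := epi_comp _ _
    exact epi_of_epi_fac hfac
  haveI := isIso_of_mono_of_epi (quotMap ι ⊤ le_top)
  exact Subobject.mk_eq_top_of_isIso _

end SubQuot

variable (k : Type u) [Field k] [X.Over (Spec (CommRingCat.of k))] [IsProper (X ↘ Spec (CommRingCat.of k))]
  {L : X.Modules} (hL : CohB1.IsAmple L) {d : ℕ}

include hL in
/-- A submodule with the same reduced polynomial and its quotient have filtrations with free stalks. -/
theorem exists_jh_free {E G : X.Modules} (hE : ShStab.IsSemistable k X L E d) (sE : LTSeries (Subobject E))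
    (hsE : ShStab.IsJHFiltration k X L E d sE) {x : X} (hgr : FS x (grObj sE)) (ι : G ⟶ E) [Mono ι]
    (hG : Coh.IsCoh G) {pG pE : Polynomial ℚ} (hpG : ShStab.IsHilbPoly k X L G pG)
    (hpE : ShStab.IsHilbPoly k X L E pE) (hred : RedEq d pG pE) :
    (∃ sG : LTSeries (Subobject G), ShStab.IsJHFiltration k X L G d sG ∧
      (∀ i, FS x (factor sG i)) ∧ FS x (grObj sG) ∧ Coh.IsCoh (grObj sG)) ∧
    (∃ sQ : LTSeries (Subobject (cokernel ι)), ShStab.IsJHFiltration k X L (cokernel ι) d sQ ∧
      (∀ i, FS x (factor sQ i)) ∧ FS x (grObj sQ) ∧ Coh.IsCoh (grObj sQ)) := by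
  have hss := ss_bot_top k hL hE.1 hE.2.2.1 hE
  set R := stabData k hL hE.1 hE.2.2.1 with hR
  let a : CohSub hE.1 := CohSub.mk ι hG
  have haQ : R.Q ⊥ a = pG := Q_bot_mk k hL ι hG hpG
  have hTQ : R.Q ⊥ ⊤ = pE := isHilbPoly_unique k (isHilbPoly_top k hL) hpE
  have haG : R.Good a := Or.inr (by rw [haQ, hTQ]; exact hred)
  obtain ⟨s, hh, hl, hg, hst, j, hj⟩ := exists_series_through k hL hE.1 hE.2.2.1 hss a haG ⊥ (Or.inl rfl) bot_le
  obtain ⟨-, ⟨egr⟩⟩ := jh_unique k hL hE.1 hE.2.2.1 hss sE (ofCohSeries s) hsE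
    (isJH_ofCoh k hL hE.1 hE.2.2.1 hss s hh hl hg hst)
  have hstab := fun i : Fin s.length => ((isJH_ofCoh k hL hE.1 hE.2.2.1 hss s hh hl hg hst).2.2 i).1
  have hgr' : FS x (grObj (ofCohSeries s)) :=
    hgr.of_iso (isCoh_grObj _ fun i => (hstab i).1) egr.symm
  have hfac : ∀ i : Fin s.length, FS x (factor (ofCohSeries s) i) := fun i => by
    classical
    refine hgr'.retract (hstab i).1 (Sigma.ι (fun i => factor (ofCohSeries s) i) i)
      (Sigma.desc fun b => if h : b = i then eqToHom (congrArg _ h) else 0) ?_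
    erw [colimit.ι_desc]
    simp
  have hmono : ∀ m m' : Fin (s.length + 1), m ≤ m' → (s m).1 ≤ (s m').1 := fun m m' h => s.monotone h
  have haS : (s j).1 = Subobject.mk ι := congrArg Subtype.val hj
  refine ⟨?_, ?_⟩
  · let idx : Fin (j.val + 1) → Fin (s.length + 1) := fun m => ⟨m.val, by omega⟩
    have hle : ∀ m, (s (idx m)).1 ≤ Subobject.mk ι := fun m =>
      (hmono _ j (show (idx m).val ≤ j.val by show m.val ≤ j.val; omega)).trans haS.le
    let e : ∀ i : Fin j.val, cokernel (Subobject.ofLE (s (idx i.castSucc)).1 (s (idx i.succ)).1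
        (hmono _ _ (show i.val ≤ i.val + 1 by omega))) ≅ cokernel (Subobject.ofLE _ _
          (subOf_le ι (hmono (idx i.castSucc) (idx i.succ) (show i.val ≤ i.val + 1 by omega)) (hle i.succ))) :=
      fun i => subFactorIso ι _ _
    let i' : Fin j.val → Fin s.length := fun i => ⟨i.val, by omega⟩
    let sG : LTSeries (Subobject G) :=
      { length := j.val
        toFun := fun m => subOf ι (s (idx m)).1 (hle m)
        step := fun i => lt_of_le_of_ne (subOf_le ι (hmono _ _ (show i.val ≤ i.val + 1 by omega)) (hle i.succ))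
          fun heq => (hstab (i' i)).2.1 (IsZero.of_iso (by
            haveI : IsIso (Subobject.ofLE _ _ (subOf_le ι (hmono (idx i.castSucc) (idx i.succ)
                (show i.val ≤ i.val + 1 by omega)) (hle i.succ))) :=
              (Subobject.isoOfEq _ _ heq).isIso_hom
            exact IsZero.of_iso (isZero_zero X.Modules) (cokernel.ofEpi _)) (e i)) }
    have hcoh : ∀ i : Fin sG.length, Coh.IsCoh (factor sG i) := fun i => isCoh_iso (e i) (hstab (i' i)).1
    have hfree : ∀ i : Fin sG.length, FS x (factor sG i) := fun i =>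
      (hfac (i' i)).of_iso (hcoh i) (e i).symm
    have hgc := isCoh_grObj sG hcoh
    obtain ⟨s₁, r₁, hsr⟩ := exists_retract (factor sG) (factor (ofCohSeries s)) i'
      (fun a b h => Fin.ext (congrArg Fin.val h :)) fun i => (e i).symm
    refine ⟨sG, ⟨subOf_bot ι (congrArg Subtype.val hh), ?_, fun i => ⟨isStable_congr hL (e i) (hstab (i' i)),
      fun p q hp hq => ?_⟩⟩, hfree, hgr'.retract hgc s₁ r₁ hsr, hgc⟩
    · exact subOf_self ι ((congrArg (fun m => (s m).1) (Fin.ext rfl : idx (Fin.last j.val) = j)).trans haS)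
    · rw [isHilbPoly_unique k hp (isHilbPoly_hp k hL _ (hcoh i)), show EulerLib.hp k hL (factor sG i) (hcoh i) = EulerLib.hp k hL _ (hstab (i' i)).1 from (hp_congr k hL (e i) (hstab (i' i)).1 (hcoh i)).symm,
        ← Q_factor k hL hE.1 hE.2.2.1 (s (i' i).castSucc) (s (i' i).succ) (s.step (i' i)).le
          (isHilbPoly_hp k hL _ (hstab (i' i)).1),
        isHilbPoly_unique k hq hpG, ← haQ]
      have h1 := RankData.good_diff (hg (i' i).castSucc) (hg (i' i).succ)
      have hαT : 0 < alpha d (R.Q ⊥ ⊤) := (hss.2 ⊤ hss.1 le_rfl).1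
      have hlt : s (i' i).castSucc < s (i' i).succ := s.step _
      have hαi := RankData.good_pos hss (hg (i' i).castSucc) hlt
      have hαa : 0 < alpha d (R.Q ⊥ a) := RankData.good_pos hss (Or.inl rfl)
        (bot_le.trans_lt (hlt.trans_le (show s (i' i).succ ≤ a from
          hj ▸ s.monotone (show i.val + 1 ≤ j.val from i.isLt))))
      exact (redEq_iff hαi hαa).2 (((redEq_iff hαi hαT).1 h1).trans
        ((redEq_iff hαa hαT).1 (by rw [haQ, hTQ]; exact hred)).symm)
  · let idx : Fin (s.length - j.val + 1) → Fin (s.length + 1) := fun m => ⟨j.val + m.val, by omega⟩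
    have hge : ∀ m, Subobject.mk ι ≤ (s (idx m)).1 := fun m =>
      haS.ge.trans (hmono j _ (show j.val ≤ j.val + m.val by omega))
    let e : ∀ i : Fin (s.length - j.val), cokernel (Subobject.ofLE (s (idx i.castSucc)).1 (s (idx i.succ)).1
        (hmono _ _ (show j.val + i.val ≤ j.val + (i.val + 1) by omega))) ≅ cokernel (Subobject.ofLE _ _
          (quotOf_le ι (hge i.castSucc) (hmono (idx i.castSucc) (idx i.succ)
            (show j.val + i.val ≤ j.val + (i.val + 1) by omega)))) :=
      fun i => quotFactorIso ι _ _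
    let i' : Fin (s.length - j.val) → Fin s.length := fun i => ⟨j.val + i.val, by omega⟩
    let sQ : LTSeries (Subobject (cokernel ι)) :=
      { length := s.length - j.val
        toFun := fun m => quotOf ι (s (idx m)).1 (hge m)
        step := fun i => lt_of_le_of_ne (quotOf_le ι (hge i.castSucc) (hmono (idx i.castSucc) (idx i.succ)
            (show j.val + i.val ≤ j.val + (i.val + 1) by omega)))
          fun heq => (hstab (i' i)).2.1 (IsZero.of_iso (by
            haveI : IsIso (Subobject.ofLE _ _ (quotOf_le ι (hge i.castSucc) (hmono (idx i.castSucc) (idx i.succ)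
                (show j.val + i.val ≤ j.val + (i.val + 1) by omega)))) :=
              (Subobject.isoOfEq _ _ heq).isIso_hom
            exact IsZero.of_iso (isZero_zero X.Modules) (cokernel.ofEpi _)) (e i)) }
    have hcoh : ∀ i : Fin sQ.length, Coh.IsCoh (factor sQ i) := fun i => isCoh_iso (e i) (hstab (i' i)).1
    have hfree : ∀ i : Fin sQ.length, FS x (factor sQ i) := fun i =>
      (hfac (i' i)).of_iso (hcoh i) (e i).symm
    have hgc := isCoh_grObj sQ hcoh
    obtain ⟨s₁, r₁, hsr⟩ := exists_retract (factor sQ) (factor (ofCohSeries s)) i'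
      (fun a b h => Fin.ext (by have := congrArg Fin.val h; simp [i'] at this; omega)) fun i => (e i).symm
    refine ⟨sQ, ⟨quotOf_self ι ((congrArg (fun m => (s m).1)
        (Fin.ext (Nat.add_zero _) : idx 0 = j)).trans haS), ?_, fun i => ⟨isStable_congr hL (e i) (hstab (i' i)),
      fun p q hp hq => ?_⟩⟩, hfree, hgr'.retract hgc s₁ r₁ hsr, hgc⟩
    · exact quotOf_top ι ((congrArg (fun m => (s m).1) (Fin.ext (show j.val + (s.length - j.val) = s.length by omega) :
        idx (Fin.last (s.length - j.val)) = Fin.last s.length)).trans (congrArg Subtype.val hl))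
    · have hQc := isCoh_cokernel ι hG.1 hE.1
      have eQ : R.Q a ⊤ = q := by
        rw [isHilbPoly_unique k hq (isHilbPoly_hp k hL _ hQc)]
        have h1 := hp_ses k hL (shortExact_cokernel ι) hG hE.1 hQc
        have h2 : R.Q ⊥ ⊤ = EulerLib.hp k hL _ hE.1 := isHilbPoly_unique k (isHilbPoly_top k hL) (isHilbPoly_hp k hL _ _)
        have h3 : R.Q ⊥ a = EulerLib.hp k hL _ hG := Q_bot_mk k hL ι hG (isHilbPoly_hp k hL _ _)
        have h4 := R.Q_add ⊥ a ⊤
        rw [h2, h3] at h4
        linear_combination h1 - h4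
      rw [isHilbPoly_unique k hp (isHilbPoly_hp k hL _ (hcoh i)), show EulerLib.hp k hL (factor sQ i) (hcoh i) = EulerLib.hp k hL _ (hstab (i' i)).1 from (hp_congr k hL (e i) (hstab (i' i)).1 (hcoh i)).symm,
        ← Q_factor k hL hE.1 hE.2.2.1 (s (i' i).castSucc) (s (i' i).succ) (s.step (i' i)).le
          (isHilbPoly_hp k hL _ (hstab (i' i)).1), ← eQ]
      have hαT : 0 < alpha d (R.Q ⊥ ⊤) := (hss.2 ⊤ hss.1 le_rfl).1
      have hlt : s (i' i).castSucc < s (i' i).succ := s.step _
      have hαi := RankData.good_pos hss (hg (i' i).castSucc) hlt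
      have hαa : 0 < alpha d (R.Q a ⊤) := RankData.good_pos hss haG
        ((show a ≤ s (i' i).castSucc from hj ▸ s.monotone (show j.val ≤ j.val + i.val by omega)).trans_lt
          (hlt.trans_le le_top))
      exact (redEq_iff hαi hαa).2 (((redEq_iff hαi hαT).1 (RankData.good_diff (hg _) (hg _))).trans
        ((redEq_iff hαa hαT).1 (RankData.good_diff haG (Or.inr rfl))).symm)

end Groth.Agent.EulerLib.JHLocFree
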