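import Groth.Agent.EulerLib.RankSeries

/-!
# Slope Harder-Narasimhan series of a lattice with a polynomial rank function
-/

set_option autoImplicit false

open Polynomial StabCat

namespace Groth.Agent.EulerLib

theorem slopeLE_of_redLE {d : ℕ} {P Q : ℚ[X]} (hP : P.natDegree ≤ d) (hQ : Q.natDegree ≤ d)
    (h : RedLE d P Q) : alpha (d - 1) P * alpha d Q ≤ alpha d P * alpha (d - 1) Q := by
  rcases Nat.eq_zero_or_pos d with rfl | hd
  · simp
  rw [RedLE, polyLE_iff] at h
  set D := alpha d P • Q - alpha d Q • P with hD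
  have hle : D.natDegree ≤ d :=
    (natDegree_sub_le _ _).trans (max_le ((natDegree_smul_le _ _).trans hQ) ((natDegree_smul_le _ _).trans hP))
  have hd0 : D.coeff d = 0 := by
    simp only [hD, coeff_sub, coeff_smul, smul_eq_mul, alpha]
    ring
  have h1 : 0 ≤ D.coeff (d - 1) := by
    by_contra hn
    have hdeg : D.natDegree = d - 1 := by
      refine le_antisymm ?_ (le_natDegree_of_ne_zero (not_le.1 hn).ne)
      refine natDegree_le_iff_coeff_eq_zero.2 fun N hN => ?_
      rcases (show d ≤ N by omega).eq_or_lt with rfl | hlt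
      · exact hd0
      · exact coeff_eq_zero_of_natDegree_lt (hle.trans_lt hlt)
    rw [leadingCoeff, hdeg] at h
    exact hn h
  simp only [hD, coeff_sub, coeff_smul, smul_eq_mul, alpha] at h1
  simp only [alpha]
  have hf : (0 : ℚ) ≤ ((d - 1).factorial : ℚ) := Nat.cast_nonneg _
  nlinarith [mul_nonneg hf h1]

namespace RankData

variable {α : Type*} [Lattice α] [BoundedOrder α] (R : RankData α)

/-- The next multiplicity of an interval. -/
noncomputable abbrev a1 (a b : α) : ℚ := alpha (R.d - 1) (R.Q a b)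

/-- The multiplicity of an interval. -/
noncomputable abbrev a0 (a b : α) : ℚ := alpha R.d (R.Q a b)

theorem a1_add (a b c : α) : R.a1 a c = R.a1 a b + R.a1 b c := by
  rw [a1, R.Q_add a b c, alpha_add]

theorem a0_add (a b c : α) : R.a0 a c = R.a0 a b + R.a0 b c := by
  rw [a0, R.Q_add a b c, alpha_add]

/-- The hypotheses of slope theory. -/
structure SlopeOK : Prop where
  deg : ∀ a b : α, (R.Q a b).natDegree ≤ R.d
  nonneg : ∀ a b : α, a ≤ b → R.a0 a b = 0 → 0 ≤ R.a1 a b

/-- The interval is pure and slope-semistable. -/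
def MuSS (a b : α) : Prop :=
  a < b ∧ ∀ c, a < c → c ≤ b → 0 < R.a0 a c ∧ R.a1 a c * R.a0 a b ≤ R.a0 a c * R.a1 a b

/-- The element of maximal slope over `a`. -/
def MaxMu (a b : α) : Prop :=
  a < b ∧ ∀ c, a < c → R.a1 a c * R.a0 a b ≤ R.a0 a c * R.a1 a b ∧
    (R.a1 a c * R.a0 a b = R.a0 a c * R.a1 a b → c ≤ b)

/-- A slope Harder-Narasimhan series above `a`. -/
structure IsMuHN (a : α) (s : LTSeries α) : Prop where
  head : s.head = a
  last : s.last = ⊤
  ss : ∀ i : Fin s.length, R.MuSS (s i.castSucc) (s i.succ)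
  anti : ∀ i j : Fin s.length, i.val + 1 = j.val →
    R.a1 (s j.castSucc) (s j.succ) * R.a0 (s i.castSucc) (s i.succ) <
      R.a1 (s i.castSucc) (s i.succ) * R.a0 (s j.castSucc) (s j.succ)

variable {R}

theorem exists_maxMu [WellFoundedGT α] (hok : R.SlopeOK) {a : α} (hp : R.PureOver a) (ha : a < ⊤) :
    ∃ b, R.MaxMu a b ∧ R.PureOver b ∧ R.MuSS a b := by
  obtain ⟨F, hF⟩ := exists_maxD hp ha
  have hαF : 0 < R.a0 a F := hp F hF.1
  have hmax : ∀ c, a < c → R.a1 a c * R.a0 a F ≤ R.a0 a c * R.a1 a F := fun c hc =>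
    slopeLE_of_redLE (hok.deg a c) (hok.deg a F) (hF.2 c hc).1
  obtain ⟨b, ⟨hFb, hb⟩, hbmax⟩ := (wellFounded_gt (α := α)).has_min
    {b | F ≤ b ∧ R.a1 a b * R.a0 a F = R.a0 a b * R.a1 a F} ⟨F, le_rfl, mul_comm _ _⟩
  have hab : a < b := hF.1.trans_le hFb
  have hαb : 0 < R.a0 a b := hp b hab
  have hle : ∀ c, a < c → R.a1 a c * R.a0 a b ≤ R.a0 a c * R.a1 a b := fun c hc => by
    refine le_of_mul_le_mul_right ?_ hαF
    calc R.a1 a c * R.a0 a b * R.a0 a F = R.a1 a c * R.a0 a F * R.a0 a b := by ring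
      _ ≤ R.a0 a c * R.a1 a F * R.a0 a b := mul_le_mul_of_nonneg_right (hmax c hc) hαb.le
      _ = R.a0 a c * (R.a0 a b * R.a1 a F) := by ring
      _ = R.a0 a c * R.a1 a b * R.a0 a F := by rw [← hb]; ring
  have hmu : R.MaxMu a b := by
    refine ⟨hab, fun c hc => ⟨hle c hc, fun heq => ?_⟩⟩
    have hcF : R.a1 a c * R.a0 a F = R.a0 a c * R.a1 a F := by
      refine mul_left_cancel₀ hαb.ne' ?_
      calc R.a0 a b * (R.a1 a c * R.a0 a F) = R.a1 a c * R.a0 a b * R.a0 a F := by ring
        _ = R.a0 a c * (R.a1 a b * R.a0 a F) := by rw [heq]; ring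
        _ = R.a0 a b * (R.a0 a c * R.a1 a F) := by rw [hb]; ring
    by_contra hcb
    have hlt : b < b ⊔ c := lt_of_le_of_ne le_sup_left fun e => hcb (e.symm ▸ le_sup_right)
    refine hbmax (b ⊔ c) ⟨hFb.trans le_sup_left, le_antisymm (hmax _ (hab.trans hlt)) ?_⟩ hlt
    have e : R.Q a (b ⊔ c) + R.Q a (b ⊓ c) = R.Q a b + R.Q a c := by
      have := R.modular b c
      simp only [Q]
      linear_combination this
    have e1 : R.a1 a (b ⊔ c) + R.a1 a (b ⊓ c) = R.a1 a b + R.a1 a c := by
      simp only [a1, ← alpha_add, e]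
    have e0 : R.a0 a (b ⊔ c) + R.a0 a (b ⊓ c) = R.a0 a b + R.a0 a c := by
      simp only [a0, ← alpha_add, e]
    have hi : R.a1 a (b ⊓ c) * R.a0 a F ≤ R.a0 a (b ⊓ c) * R.a1 a F := by
      rcases (le_inf hab.le hc.le).eq_or_lt with e' | hlt'
      · simp [← e', a1, a0, Q_self, alpha]
      · exact hmax _ hlt'
    nlinarith [congrArg (fun x => x * R.a0 a F) e1, congrArg (fun x => x * R.a1 a F) e0]
  refine ⟨b, hmu, fun e hbe => lt_of_le_of_ne (R.alpha_Q_nonneg hbe.le) fun h0 => ?_,
    hab, fun c hc hcb => ⟨hp c hc, hle c hc⟩⟩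
  have h1 := hok.nonneg b e hbe.le h0.symm
  have hae := hab.trans hbe
  have e0 : R.a0 a e = R.a0 a b := by rw [R.a0_add a b e, a0, a0, ← h0, add_zero]
  refine hbe.not_ge ((hmu.2 e hae).2 (le_antisymm (hle e hae) ?_))
  rw [e0, R.a1_add a b e]
  nlinarith [mul_nonneg h1 hαb.le]

theorem MaxMu.lt_of_gt {a b c : α} (h : R.MaxMu a b) (hc : b < c) :
    R.a1 b c * R.a0 a b < R.a1 a b * R.a0 b c := by
  have hlt := lt_of_le_of_ne (h.2 c (h.1.trans hc)).1 fun e => hc.not_ge ((h.2 c (h.1.trans hc)).2 e)
  rw [R.a0_add a b c, R.a1_add a b c] at hlt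
  nlinarith

theorem MaxMu.unique {a b b' : α} (h : R.MaxMu a b) (h' : R.MaxMu a b') : b = b' := by
  have h1 := (h.2 b' h'.1).1
  have h2 := (h'.2 b h.1).1
  exact le_antisymm ((h'.2 b h.1).2 (le_antisymm h2 (by linarith)))
    ((h.2 b' h'.1).2 (le_antisymm h1 (by linarith)))

/-- Existence of slope Harder-Narasimhan series. -/
theorem exists_isMuHN [WellFoundedGT α] (hok : R.SlopeOK) :
    ∀ (a : α), R.PureOver a → ∃ s, R.IsMuHN a s := by
  intro a
  induction a using WellFoundedGT.induction with
  | ind a ih =>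
    intro hp
    rcases (le_top : a ≤ ⊤).eq_or_lt with h | h
    · exact ⟨RelSeries.singleton _ a, rfl, h, fun i => i.elim0, fun i => i.elim0⟩
    · obtain ⟨b, hb, hpb, hss⟩ := exists_maxMu hok hp h
      obtain ⟨s, hs⟩ := ih b hb.1 hpb
      refine ⟨consSeries a s (hb.1.trans_eq hs.head.symm), rfl, ?_, ?_, ?_⟩
      · show (Fin.cons a s.toFun : Fin (s.length + 2) → α) (Fin.last (s.length + 1)) = ⊤
        rw [← Fin.succ_last, Fin.cons_succ]
        exact hs.last
      · intro i
        show R.MuSS ((Fin.cons a s.toFun : Fin (s.length + 2) → α) (Fin.castSucc i))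
          ((Fin.cons a s.toFun : Fin (s.length + 2) → α) (Fin.succ i))
        induction i using Fin.cases with
        | zero =>
          rw [Fin.castSucc_zero, Fin.cons_zero, Fin.cons_succ, show s.toFun 0 = b from hs.head]
          exact hss
        | succ i =>
          rw [← Fin.succ_castSucc, Fin.cons_succ, Fin.cons_succ]
          exact hs.ss i
      · intro i j hij
        let g : Fin (s.length + 2) → α := Fin.cons a s.toFun
        show R.a1 (g (Fin.castSucc j)) (g (Fin.succ j)) * R.a0 (g (Fin.castSucc i)) (g (Fin.succ i)) <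
          R.a1 (g (Fin.castSucc i)) (g (Fin.succ i)) * R.a0 (g (Fin.castSucc j)) (g (Fin.succ j))
        induction j using Fin.cases with
        | zero => exact absurd hij (by simp)
        | succ j =>
          rw [← Fin.succ_castSucc]
          simp only [g, Fin.cons_succ]
          induction i using Fin.cases with
          | zero =>
            have hj : j.castSucc = 0 := Fin.ext (by simpa using hij.symm)
            have hlt : b < s j.succ := hs.head ▸ (show s 0 < s j.succ from s.strictMono (Fin.succ_pos j))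
            rw [Fin.castSucc_zero, Fin.cons_zero, hj, show s.toFun 0 = b from hs.head]
            exact hb.lt_of_gt hlt
          | succ i =>
            rw [← Fin.succ_castSucc, Fin.cons_succ]
            exact hs.anti i j (by simpa using hij)

theorem IsMuHN.anti_first {a : α} {s : LTSeries α} (h : R.IsMuHN a s) {i₀ : Fin s.length} (hi₀ : i₀.val = 0) :
    ∀ (m : ℕ) (hm : m < s.length), 0 < m →
      R.a1 (s (⟨m, hm⟩ : Fin s.length).castSucc) (s (⟨m, hm⟩ : Fin s.length).succ) *
          R.a0 (s i₀.castSucc) (s i₀.succ) <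
        R.a1 (s i₀.castSucc) (s i₀.succ) *
          R.a0 (s (⟨m, hm⟩ : Fin s.length).castSucc) (s (⟨m, hm⟩ : Fin s.length).succ) := by
  intro m
  induction m with
  | zero => intro hm h0; exact absurd h0 (lt_irrefl 0)
  | succ m ih =>
    intro hm _
    let j : Fin s.length := ⟨m + 1, hm⟩
    let i : Fin s.length := ⟨m, by omega⟩
    have hstep := h.anti i j rfl
    have pj : 0 < R.a0 (s j.castSucc) (s j.succ) := ((h.ss j).2 _ (s.step j) le_rfl).1
    have pi' : 0 < R.a0 (s i.castSucc) (s i.succ) := ((h.ss i).2 _ (s.step i) le_rfl).1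
    have p0 : 0 < R.a0 (s i₀.castSucc) (s i₀.succ) := ((h.ss i₀).2 _ (s.step i₀) le_rfl).1
    show R.a1 (s j.castSucc) (s j.succ) * R.a0 (s i₀.castSucc) (s i₀.succ) <
      R.a1 (s i₀.castSucc) (s i₀.succ) * R.a0 (s j.castSucc) (s j.succ)
    rcases Nat.eq_zero_or_pos m with hm0 | hm0
    · have hi : i = i₀ := Fin.ext (show m = i₀.val by omega)
      rw [← hi]
      exact hstep
    · have := ih (by omega) hm0
      refine lt_of_mul_lt_mul_right ?_ pi'.le
      nlinarith [mul_lt_mul_of_pos_right hstep p0, mul_lt_mul_of_pos_right this pj]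

theorem IsMuHN.maxMu {a : α} {s : LTSeries α} (h : R.IsMuHN a s) (i₀ : Fin s.length) (hi₀ : i₀.val = 0) :
    R.MaxMu a (s i₀.succ) := by
  have ha : s i₀.castSucc = a := by
    rw [show i₀.castSucc = (0 : Fin (s.length + 1)) from Fin.ext hi₀]
    exact h.head
  refine ⟨ha ▸ s.step i₀, fun c hc => ?_⟩
  set A1 := R.a1 a (s i₀.succ) with hA1
  set A0 := R.a0 a (s i₀.succ) with hA0
  have key : ∀ m : Fin (s.length + 1), R.a1 a (c ⊓ s m) * A0 ≤ R.a0 a (c ⊓ s m) * A1 ∧
      (R.a1 a (c ⊓ s m) * A0 = R.a0 a (c ⊓ s m) * A1 → c ⊓ s m ≤ s i₀.succ) := by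
    intro m
    induction m using Fin.induction with
    | zero =>
      rw [show s 0 = a from h.head, inf_eq_right.2 hc.le]
      refine ⟨?_, fun _ => ha ▸ (s.step i₀).le⟩
      simp [a1, a0, Q_self, alpha]
    | succ m ih =>
      let x := s m.castSucc ⊔ (c ⊓ s m.succ)
      have hQ : R.Q (s m.castSucc) x = R.Q (c ⊓ s m.castSucc) (c ⊓ s m.succ) := by
        rw [Q_sup, show s m.castSucc ⊓ (c ⊓ s m.succ) = c ⊓ s m.castSucc from le_antisymm
          (le_inf (inf_le_right.trans inf_le_left) inf_le_left)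
          (le_inf inf_le_right (inf_le_inf_left c (s.step m).le))]
      rcases (show s m.castSucc ≤ x from le_sup_left).eq_or_lt with e | hlt
      · have e' : c ⊓ s m.castSucc = c ⊓ s m.succ :=
          le_antisymm (inf_le_inf_left c (s.step m).le) (le_inf inf_le_left (le_sup_right.trans e.ge))
        rw [← e']
        exact ih
      · obtain ⟨p0, p1⟩ := (h.ss m).2 x hlt (sup_le (s.step m).le inf_le_right)
        have hm0 : 0 < R.a0 (s m.castSucc) (s m.succ) := ((h.ss m).2 _ (s.step m) le_rfl).1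
        rcases Nat.eq_zero_or_pos m.val with hm | hm
        · have hmi : m = i₀ := Fin.ext (by omega)
          subst hmi
          have hca : c ⊓ s m.castSucc = a := by rw [ha]; exact inf_eq_right.2 hc.le
          simp only [a1, a0, hQ, hca] at p1
          simp only [ha] at p1
          exact ⟨p1, fun _ => inf_le_right⟩
        · have hlt' := h.anti_first hi₀ m.val m.2 hm
          rw [Fin.eta, ha, ← hA0, ← hA1] at hlt'
          simp only [a1, a0, hQ] at p0 p1
          have hstr : R.a1 (c ⊓ s m.castSucc) (c ⊓ s m.succ) * A0 <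
              R.a0 (c ⊓ s m.castSucc) (c ⊓ s m.succ) * A1 := by
            refine lt_of_mul_lt_mul_right ?_ hm0.le
            have hA0' : 0 < A0 := by
              rw [hA0, ← ha]
              exact ((h.ss i₀).2 _ (s.step i₀) le_rfl).1
            nlinarith [mul_le_mul_of_nonneg_right p1 hA0'.le, mul_lt_mul_of_pos_left hlt' p0]
          rw [R.a1_add a (c ⊓ s m.castSucc) (c ⊓ s m.succ), R.a0_add a (c ⊓ s m.castSucc) (c ⊓ s m.succ)]
          exact ⟨by nlinarith [ih.1], fun he => absurd he (by nlinarith [ih.1] : _ < _).ne⟩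
  have := key (Fin.last _)
  rwa [show s (Fin.last _) = ⊤ from h.last, inf_top_eq] at this

/-- Uniqueness of slope Harder-Narasimhan series. -/
theorem IsMuHN.unique [WellFoundedGT α] :
    ∀ (a : α) (s t : LTSeries α), R.IsMuHN a s → R.IsMuHN a t → s = t := by
  intro a
  induction a using WellFoundedGT.induction with
  | ind a ih =>
    rintro ⟨n, f, hf⟩ ⟨m, g, hg⟩ hs ht
    have hs0 : f 0 = a := hs.head
    have ht0 : g 0 = a := ht.head
    have hsl : f (Fin.last n) = ⊤ := hs.last
    have htl : g (Fin.last m) = ⊤ := ht.last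
    match n, m, f, g, hf, hg, hs, ht, hs0, ht0, hsl, htl with
    | 0, 0, f, g, _, _, _, _, hs0, ht0, _, _ =>
      obtain rfl : f = g := funext fun i => by rw [show i = (0 : Fin (0 + 1)) from Fin.ext (by omega), hs0, ht0]
      rfl
    | 0, m + 1, f, g, _, hg, _, _, hs0, ht0, hsl, _ =>
      have h0 : a < g (Fin.succ 0) := ht0 ▸ hg 0
      rw [← hs0, show (0 : Fin 1) = Fin.last 0 from rfl, hsl] at h0
      exact absurd h0 not_top_lt
    | n + 1, 0, f, g, hf, _, _, _, hs0, ht0, _, htl =>
      have h0 : a < f (Fin.succ 0) := hs0 ▸ hf 0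
      rw [← ht0, show (0 : Fin 1) = Fin.last 0 from rfl, htl] at h0
      exact absurd h0 not_top_lt
    | n + 1, m + 1, f, g, hf, hg, hs, ht, hs0, ht0, hsl, htl =>
      have hM : R.MaxMu a (f (Fin.succ 0)) := hs.maxMu ⟨0, n.succ_pos⟩ rfl
      have hb : f (Fin.succ 0) = g (Fin.succ 0) := hM.unique (ht.maxMu ⟨0, m.succ_pos⟩ rfl)
      let s' : LTSeries α :=
        { length := n, toFun := fun i => f i.succ, step := fun i => by
            show f i.castSucc.succ < f i.succ.succ
            rw [Fin.succ_castSucc]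
            exact hf i.succ }
      let t' : LTSeries α :=
        { length := m, toFun := fun i => g i.succ, step := fun i => by
            show g i.castSucc.succ < g i.succ.succ
            rw [Fin.succ_castSucc]
            exact hg i.succ }
      have hs' : R.IsMuHN (f (Fin.succ 0)) s' := by
        refine ⟨rfl, hsl, fun i => ?_, fun i j hij => ?_⟩
        · show R.MuSS (f i.castSucc.succ) (f i.succ.succ)
          rw [Fin.succ_castSucc]
          exact hs.ss i.succ
        · show R.a1 (f j.castSucc.succ) (f j.succ.succ) * R.a0 (f i.castSucc.succ) (f i.succ.succ) <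
            R.a1 (f i.castSucc.succ) (f i.succ.succ) * R.a0 (f j.castSucc.succ) (f j.succ.succ)
          rw [Fin.succ_castSucc, Fin.succ_castSucc]
          exact hs.anti i.succ j.succ (by simpa using hij)
      have ht' : R.IsMuHN (f (Fin.succ 0)) t' := by
        refine ⟨hb.symm, htl, fun i => ?_, fun i j hij => ?_⟩
        · show R.MuSS (g i.castSucc.succ) (g i.succ.succ)
          rw [Fin.succ_castSucc]
          exact ht.ss i.succ
        · show R.a1 (g j.castSucc.succ) (g j.succ.succ) * R.a0 (g i.castSucc.succ) (g i.succ.succ) <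
            R.a1 (g i.castSucc.succ) (g i.succ.succ) * R.a0 (g j.castSucc.succ) (g j.succ.succ)
          rw [Fin.succ_castSucc, Fin.succ_castSucc]
          exact ht.anti i.succ j.succ (by simpa using hij)
      have e := ih _ hM.1 s' t' hs' ht'
      obtain rfl : n = m := congrArg RelSeries.length e
      obtain rfl : f = g := by
        funext i
        induction i using Fin.cases with
        | zero => rw [hs0, ht0]
        | succ i =>
          have he : (fun i : Fin (n + 1) => f i.succ) = fun i => g i.succ := by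
            simpa [s', t', RelSeries.mk.injEq] using e
          exact congrFun he i
      rfl

end RankData

end Groth.Agent.EulerLib
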