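import Groth.Agent.EulerLib.StabSub

/-!
# Slope semistability, cross-multiplied
-/

set_option autoImplicit false
set_option linter.style.haveILetI false
set_option linter.unusedSectionVars false

universe u

open CategoryTheory CategoryTheory.Limits AlgebraicGeometry StabCat Polynomial
open Groth.Agent.Coherent

namespace Groth.Agent.EulerLib

variable {X : Scheme.{u}} [AlgebraicGeometry.IsNoetherian X]
variable (k : Type u) [Field k] [X.Over (Spec (CommRingCat.of k))] [IsProper (X ↘ Spec (CommRingCat.of k))]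
  {L : X.Modules} (hL : CohB1.IsAmple L) {n : ℕ}

include hL in
/-- A module of vanishing multiplicity has nonnegative next multiplicity. -/
theorem alpha_pred_nonneg {Q : X.Modules} (hQ : Coh.IsCoh Q)
    (hd : topologicalKrullDim (CohB1.support Q) ≤ n) {P : ℚ[X]} (hP : ShStab.IsHilbPoly k X L Q P)
    (h0 : alpha n P = 0) : 0 ≤ alpha (n - 1) P := by
  by_cases hz : IsZero Q
  · simp [hilb_zero k hL hz hP, alpha]
  obtain ⟨s, hs, he⟩ := dim_eq_of_le (support_nonempty hz) hd
  rcases hs.eq_or_lt with rfl | hlt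
  · exact absurd h0 (alpha_pos k hL hQ hP he).ne'
  · exact alpha_nonneg k hL hQ hP (he.le.trans (by exact_mod_cast Nat.le_sub_one_of_lt hlt))

include hL in
/-- Submodules of a pure slope-semistable module. -/
theorem slope_sub {E W : X.Modules} (hp : ShStab.IsPure X E n) (hs : ShStab.IsMuSemistable k X L E n)
    (ι : W ⟶ E) [Mono ι] (hW : Coh.IsCoh W) {pW pE : ℚ[X]} (hpW : ShStab.IsHilbPoly k X L W pW)
    (hpE : ShStab.IsHilbPoly k X L E pE) :
    alpha (n - 1) pW * alpha n pE ≤ alpha n pW * alpha (n - 1) pE := by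
  by_cases hz : IsZero W
  · simp [hilb_zero k hL hz hpW, alpha]
  have hαW := alpha_pos_of_sub k hL hp ι hW hz hpW
  have hd := dim_le_of_pure k hs.1 hp
  rcases (alpha_le_of_mono k hL ι hW hs.1 hd hpW hpE).eq_or_lt with e | hlt
  · obtain ⟨R, hR, rfl⟩ := hilb_mono k hL ι hW hs.1 hpW hpE
    have h0 : alpha n R = 0 := by rw [alpha_add] at e; linarith
    have h1 := alpha_pred_nonneg k hL (isCoh_cokernel ι hW.1 hs.1)
      ((dim_mono (support_subset_of_epi (cokernel.π ι))).trans hd) hR h0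
    rw [← e, alpha_add]
    nlinarith
  · have h := hs.2.2.2.2 W ι inferInstance hW pW pE hpW hpE hαW hlt
    rw [hatSlope, hatSlope, div_le_div_iff₀ hαW (hαW.trans hlt)] at h
    linarith

include hL in
/-- Quotients of a pure slope-semistable module. -/
theorem slope_quot {E Q : X.Modules} (hp : ShStab.IsPure X E n) (hs : ShStab.IsMuSemistable k X L E n)
    (π : E ⟶ Q) [Epi π] (hQ : Coh.IsCoh Q) {pE pQ : ℚ[X]} (hpE : ShStab.IsHilbPoly k X L E pE)
    (hpQ : ShStab.IsHilbPoly k X L Q pQ) :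
    alpha (n - 1) pE * alpha n pQ ≤ alpha n pE * alpha (n - 1) pQ := by
  have hK := isCoh_kernel π hs.1 hQ.1
  have h := slope_sub k hL hp hs (kernel.ι π) hK (isHilbPoly_hp k hL _ hK) hpE
  rw [hilb_ses k hL (shortExact_kernel π) hK hs.1 hQ (isHilbPoly_hp k hL _ hK) hpE hpQ] at h ⊢
  simp only [alpha_add] at h ⊢
  linarith

include hL in
/-- Homomorphisms do not decrease the slope. -/
theorem slope_le_of_ne_zero {F G : X.Modules} (hFp : ShStab.IsPure X F n) (hGp : ShStab.IsPure X G n)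
    (hF : ShStab.IsMuSemistable k X L F n) (hG : ShStab.IsMuSemistable k X L G n) {φ : F ⟶ G} (hφ : φ ≠ 0)
    {pF pG : ℚ[X]} (hpF : ShStab.IsHilbPoly k X L F pF) (hpG : ShStab.IsHilbPoly k X L G pG) :
    hatSlope n pF ≤ hatSlope n pG := by
  have hI := isCoh_image φ hF.1 hG.1
  have hI0 := image_ne_zero hφ
  have hαI := alpha_pos_of_sub k hL hGp (Abelian.image.ι φ) hI hI0 (isHilbPoly_hp k hL _ hI)
  have h1 := slope_sub k hL hGp hG (Abelian.image.ι φ) hI (isHilbPoly_hp k hL _ hI) hpG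
  have h2 := slope_quot k hL hFp hF (Abelian.factorThruImage φ) hI hpF (isHilbPoly_hp k hL _ hI)
  have hαF := alpha_pos_self k hL hF.1 hF.2.1 hFp hpF
  have hαG := alpha_pos_self k hL hG.1 hG.2.1 hGp hpG
  calc hatSlope n pF ≤ alpha (n - 1) (hp k hL _ hI) / alpha n (hp k hL _ hI) := by
        rw [hatSlope, div_le_div_iff₀ hαF hαI]; linarith
    _ ≤ hatSlope n pG := by rw [hatSlope, div_le_div_iff₀ hαI hαG]; linarith

theorem isPure_of_shortExact {T : ShortComplex X.Modules} (hT : T.ShortExact) {d : ℕ}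
    (h2 : topologicalKrullDim (CohB1.support T.X₂) ≤ d) (h₃ : Coh.IsCoh T.X₃)
    (h₁p : ShStab.IsPure X T.X₁ d) (h₃p : ShStab.IsPure X T.X₃ d) : ShStab.IsPure X T.X₂ d := by
  intro W ι _ hW hW0
  haveI := hT.mono_f
  refine le_antisymm (dim_sub_le ι h2) ?_
  by_cases hK : IsZero (kernel (ι ≫ T.g))
  · haveI : Mono (ι ≫ T.g) := Preadditive.mono_of_isZero_kernel _ hK
    exact (h₃p W (ι ≫ T.g) inferInstance hW hW0).ge
  · have h : (kernel.ι (ι ≫ T.g) ≫ ι) ≫ T.g = 0 := by rw [Category.assoc, kernel.condition]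
    let l := hT.exact.lift (kernel.ι (ι ≫ T.g) ≫ ι) h
    haveI : Mono l := by
      haveI : Mono (l ≫ T.f) := by rw [hT.exact.lift_f]; infer_instance
      exact mono_of_mono l T.f
    exact (h₁p _ l inferInstance (isCoh_kernel _ hW h₃.1) hK).ge.trans
      (dim_mono (support_subset_of_mono (kernel.ι (ι ≫ T.g))))

end Groth.Agent.EulerLib
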