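import Groth.Agent.EulerLib.StabHN
import Groth.Agent.EulerLib.MuSeries
import Groth.Agent.EulerLib.SlopeBasic

/-!
# Slope Harder-Narasimhan filtrations of pure coherent sheaves
-/

set_option autoImplicit false
set_option linter.style.haveILetI false
set_option linter.unusedSectionVars false

universe u

open CategoryTheory CategoryTheory.Limits AlgebraicGeometry StabCat
open Groth.Agent.Coherent

namespace Groth.Agent.EulerLib

variable {X : Scheme.{u}} [AlgebraicGeometry.IsNoetherian X]
variable (k : Type u) [Field k] [X.Over (Spec (CommRingCat.of k))] [IsProper (X ↘ Spec (CommRingCat.of k))]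
  {L : X.Modules} (hL : CohB1.IsAmple L) {n : ℕ} {E : X.Modules} (hE : Coh.IsCoh E) (hp' : ShStab.IsPure X E n)

theorem slopeOK_stab : (stabData k hL hE hp').SlopeOK where
  deg a b := by
    have h : ∀ c : CohSub hE, ((stabData k hL hE hp').P c).natDegree ≤ n := fun c =>
      natDegree_le_of_pure k hL c.2 (isPure_of_mono hp' c.1.arrow) (isHilbPoly_hp k hL _ c.2)
    exact (Polynomial.natDegree_sub_le _ _).trans (max_le (h b) (h a))
  nonneg a b h h0 := by
    have e := Q_factor k hL hE hp' a b h (isHilbPoly_hp k hL _ (isCoh_cokernel _ a.2.1 b.2))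
    show 0 ≤ alpha (n - 1) _
    have h0' : alpha n ((stabData k hL hE hp').Q a b) = 0 := h0
    rw [e] at h0' ⊢
    exact alpha_pred_nonneg k hL (isCoh_cokernel _ a.2.1 b.2) (dim_factor_le (dim_le_of_pure k hE hp') h)
      (isHilbPoly_hp k hL _ _) h0'

theorem muSS_iff {A B : CohSub hE} (h : A ≤ B) (hne : A < B) :
    (stabData k hL hE hp').MuSS A B ↔
      ShStab.IsPure X (cokernel (Subobject.ofLE A.1 B.1 h)) n ∧
        ShStab.IsMuSemistable k X L (cokernel (Subobject.ofLE A.1 B.1 h)) n := by
  have hC := isCoh_cokernel (Subobject.ofLE A.1 B.1 h) A.2.1 B.2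
  have hC0 := not_isZero_cokernel_of_lt (show A.1 < B.1 from hne)
  have eB := Q_factor k hL hE hp' A B h (isHilbPoly_hp k hL _ hC)
  constructor
  · intro hs
    have hpure : ShStab.IsPure X (cokernel (Subobject.ofLE A.1 B.1 h)) n :=
      isPure_factor k hL h fun C hAC hCB => (hs.2 C hAC hCB).1
    refine ⟨hpure, hC, hC0, hpure _ (𝟙 _) inferInstance hC hC0, fun T κ hm hT => ?_,
      fun T κ hm hT pT pQ hpT hpQ h0 hlt => ?_⟩
    · haveI := hm
      by_cases hz : IsZero T
      · rw [Set.subset_empty_iff.1 (support_of_isZero hz ∅)]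
        have h0 := dim_empty_lt (X := X) 0
        intro e
        revert h0 e
        generalize topologicalKrullDim (∅ : Set X) = a
        intro h0 e
        induction a with
        | bot => simp at e
        | coe a => simp at h0
      · rw [hpure T κ hm hT hz]
        norm_cast
        omega
    · haveI := hm
      have hT0 : ¬ IsZero T := fun hz => by
        rw [hilb_zero k hL hz hpT] at h0
        simp [alpha] at h0
      obtain ⟨C, hAC, hCB, e, -⟩ := exists_preimage k hL (d := n) (hd := dim_le_of_pure k hE hp') h κ hT hT0 hpT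
      have h2 := (hs.2 C hAC hCB).2
      rw [hatSlope, hatSlope, div_le_div_iff₀ h0 (h0.trans hlt)]
      have eB' : (stabData k hL hE hp').Q A B = pQ := eB.trans (isHilbPoly_unique k (isHilbPoly_hp k hL _ hC) hpQ)
      simp only [RankData.a1, RankData.a0, eB', show (stabData k hL hE hp').Q A C = pT from e] at h2
      exact h2.trans_eq (mul_comm _ _)
  · rintro ⟨hpure, hss⟩
    refine ⟨hne, fun C hAC hCB => ?_⟩
    obtain ⟨g, ⟨e⟩⟩ := exists_image_factor hAC.le hCB
    have hI := isCoh_image g C.2 hC
    have hK := isCoh_kernel (Abelian.factorThruImage g) C.2 hI.1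
    have eK : kernel g ≅ kernel (Abelian.factorThruImage g) :=
      kernelIsoOfEq (Abelian.image.fac _).symm ≪≫ kernelCompMono _ (Abelian.image.ι g)
    have hsum := hp_ses k hL (shortExact_kernel (Abelian.factorThruImage g)) hK C.2 hI
    have eQ : (stabData k hL hE hp').Q A C = hp k hL _ hI := by
      show hp k hL _ C.2 - hp k hL _ A.2 = _
      rw [hp_congr k hL (e ≪≫ eK) A.2 hK]
      linear_combination hsum
    have hI0 : ¬ IsZero (Abelian.image g) := fun hz => by
      rw [hilb_zero k hL hz (isHilbPoly_hp k hL _ hI)] at eQ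
      exact hAC.ne ((stabData k hL hE hp').eq_of_Q_eq_zero hAC.le eQ)
    simp only [RankData.a1, RankData.a0, eQ, eB]
    exact ⟨alpha_pos_of_sub k hL hpure (Abelian.image.ι g) hI hI0 (isHilbPoly_hp k hL _ hI),
      slope_sub k hL hpure hss (Abelian.image.ι g) hI (isHilbPoly_hp k hL _ hI) (isHilbPoly_hp k hL _ hC)⟩

include hE hp' hL in
/-- Existence and uniqueness of the slope Harder-Narasimhan filtration. -/
theorem existsUnique_muHN : ∃! s : LTSeries (Subobject E), s.head = ⊥ ∧ s.last = ⊤ ∧
    (∀ i : Fin s.length, ShStab.IsPure X (StabCat.factor s i) n ∧ ShStab.IsMuSemistable k X L (StabCat.factor s i) n) ∧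
    ∀ (i j : Fin s.length), i.val + 1 = j.val → ∀ (p q : Polynomial ℚ),
      ShStab.IsHilbPoly k X L (StabCat.factor s i) p → ShStab.IsHilbPoly k X L (StabCat.factor s j) q →
      StabCat.hatSlope n q < StabCat.hatSlope n p := by
  set R := stabData k hL hE hp'
  obtain ⟨s, hs⟩ := RankData.exists_isMuHN (slopeOK_stab k hL hE hp') ⊥ (pureOver_bot k hL hp')
  refine ⟨ofCohSeries s, ⟨congrArg Subtype.val hs.head, congrArg Subtype.val hs.last,
    fun i => (muSS_iff k hL hE hp' (s.step i).le (s.step i)).1 (hs.ss i), fun i j hij p q hp hq => ?_⟩, ?_⟩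
  · have h := hs.anti i j hij
    have hi : 0 < alpha n p := by
      rw [← Q_factor k hL hE hp' (s i.castSucc) (s i.succ) (s.step i).le hp]
      exact ((hs.ss i).2 _ (s.step i) le_rfl).1
    have hj : 0 < alpha n q := by
      rw [← Q_factor k hL hE hp' (s j.castSucc) (s j.succ) (s.step j).le hq]
      exact ((hs.ss j).2 _ (s.step j) le_rfl).1
    rw [hatSlope, hatSlope, div_lt_div_iff₀ hj hi, ← Q_factor k hL hE hp' (s i.castSucc) (s i.succ) (s.step i).le hp,
      ← Q_factor k hL hE hp' (s j.castSucc) (s j.succ) (s.step j).le hq]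
    exact h
  · rintro t ⟨h1, h2, h3, h4⟩
    have hc := cohSub_series_coh t h1 fun i => (h3 i).2.1
    let t' := toCohSeries hE t hc
    have ht : R.IsMuHN ⊥ t' := by
      refine ⟨Subtype.ext h1, Subtype.ext h2, fun i => (muSS_iff k hL hE hp' (t'.step i).le (t'.step i)).2 (h3 i),
        fun i j hij => ?_⟩
      obtain ⟨pi', si⟩ := h3 i
      obtain ⟨pj', sj⟩ := h3 j
      have hp₁ := isHilbPoly_hp k hL _ si.1
      have hp₂ := isHilbPoly_hp k hL _ sj.1
      have h := h4 i j hij _ _ hp₁ hp₂
      rw [hatSlope, hatSlope, div_lt_div_iff₀ (alpha_pos_self k hL sj.1 sj.2.1 pj' hp₂)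
        (alpha_pos_self k hL si.1 si.2.1 pi' hp₁)] at h
      simp only [RankData.a1, RankData.a0,
        show R.Q (t' i.castSucc) (t' i.succ) = hp k hL _ si.1 from
          Q_factor k hL hE hp' (t' i.castSucc) (t' i.succ) (t'.step i).le hp₁,
        show R.Q (t' j.castSucc) (t' j.succ) = hp k hL _ sj.1 from
          Q_factor k hL hE hp' (t' j.castSucc) (t' j.succ) (t'.step j).le hp₂]
      exact h
    rw [← RankData.IsMuHN.unique ⊥ t' s ht hs]
    rfl

end Groth.Agent.EulerLib
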