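import Groth.Agent.AbCubeLib.InterDegPullback
import Groth.Agent.EulerLib.FGABridge

/-!
# Intersection numbers depend only on the degrees on curves
-/

set_option autoImplicit false
set_option linter.style.haveILetI false

universe u

open CategoryTheory CategoryTheory.Limits AlgebraicGeometry TopologicalSpace
open Groth.Agent.Coherent Groth.Agent.PicLib Groth.Agent.AmpleLib Groth.Agent.AssSch12 Groth.Agent.AbCubeLib

namespace Groth.Agent.EulerLib

local notation "St" => DerSch.stalkFunctor _

variable {X : Scheme.{u}} (k : Type u) [Field k] [X.Over (Spec (CommRingCat.of k))]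

/-- Two classes have the same Euler characteristic on every integral curve. -/
def SameDeg (a b : InvCl X) : Prop :=
  ∀ y : X, topologicalKrullDim (closure {y} : Set X) = 1 → chiCl k (clM y) a = chiCl k (clM y) b

variable [IsProper (X ↘ Spec (CommRingCat.of k))]

/-- Replacing the first class by one with the same degrees does not change intersection numbers. -/
theorem interDeg_cons_congr {a b : InvCl X} (h : SameDeg k a b) :
    ∀ (r : ℕ) (F : X.Modules), Coh.IsCoh F → topologicalKrullDim (CohB1.support F) ≤ ((r + 1 : ℕ) : WithBot ℕ∞) →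
      ∀ c : Fin r → InvCl X, interDeg (Fin.cons a c) (chiCl k F) = interDeg (Fin.cons b c) (chiCl k F) := by
  haveI := isNoetherian_of_proper (X := X) k
  intro r
  induction r with
  | zero =>
    intro F hF hr c
    let K : X.Modules → Prop := fun M =>
      interDeg (Fin.cons a c) (chiCl k M) = interDeg (Fin.cons b c) (chiCl k M)
    have hK : DevClass K :=
      { iso := fun e hM => by show _ = _; rw [← chiCl_congr k e]; exact hM
        zero := fun M hM => by
          have he : CohB1.support M = ∅ := Set.subset_empty_iff.1 (support_of_isZero hM ∅)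
          have hz := finDeg_chiCl k (isCoh_of_isZero hM) (r := 1) (by rw [he]; exact dim_empty_lt 1)
          show _ = _
          rw [interDeg_eq_zero _ hz, interDeg_eq_zero _ hz]
        ses := fun S hS h₁ h₂ h₃ => by
          have e := chiCl_additive k S hS h₁ h₂ h₃
          show (_ = _ → _ = _ → _ = _) ∧ (_ = _ → _ = _ → _ = _) ∧ (_ = _ → _ = _ → _ = _)
          rw [e, interDeg_add_fun, interDeg_add_fun]
          refine ⟨fun u v => ?_, fun u v => ?_, fun u v => ?_⟩ <;> omega }
    refine mem_of_support hK.toExt (CohB1.support F) (fun Z hZ hZi hZX y hy Z₀ hZ₀ hsm => ?_)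
      ⟨_, isClosed_support F (locallyFinGen_of_isFT F hF.2)⟩ subset_rfl F hF subset_rfl
    refine oneK_of_length_one hK hsm (isCoh_clM y) ?_ ((support_clM y).le.trans (hy.le.trans hZ₀))
      (length_stalk_clM y)
    have hd : topologicalKrullDim (closure {y} : Set X) ≤ ((1 : ℕ) : WithBot ℕ∞) := (dim_mono (hy.le.trans hZX)).trans hr
    rcases lt_or_eq_of_le hd with hlt | heq
    · have hz := finDeg_chiCl k (isCoh_clM y) (r := 1) ((dim_mono (support_clM y).le).trans_lt hlt)
      show _ = _
      rw [interDeg_eq_zero _ hz, interDeg_eq_zero _ hz]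
    · show _ = _
      rw [interDeg_cons, interDeg_cons, interDeg_zero, interDeg_zero]
      show chiCl k (clM y) (a * 1) - _ = chiCl k (clM y) (b * 1) - _
      rw [mul_one, mul_one, h y (by rw [heq]; rfl)]
  | succ r ih =>
    intro F hF hr c
    let K : X.Modules → Prop := fun M =>
      interDeg (Fin.cons a c) (chiCl k M) = interDeg (Fin.cons b c) (chiCl k M)
    have hK : DevClass K :=
      { iso := fun e hM => by show _ = _; rw [← chiCl_congr k e]; exact hM
        zero := fun M hM => by
          have he : CohB1.support M = ∅ := Set.subset_empty_iff.1 (support_of_isZero hM ∅)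
          have hz := finDeg_chiCl k (isCoh_of_isZero hM) (r := r + 2) (by rw [he]; exact dim_empty_lt (r + 2))
          show _ = _
          rw [interDeg_eq_zero _ hz, interDeg_eq_zero _ hz]
        ses := fun S hS h₁ h₂ h₃ => by
          have e := chiCl_additive k S hS h₁ h₂ h₃
          show (_ = _ → _ = _ → _ = _) ∧ (_ = _ → _ = _ → _ = _) ∧ (_ = _ → _ = _ → _ = _)
          rw [e, interDeg_add_fun, interDeg_add_fun]
          refine ⟨fun u v => ?_, fun u v => ?_, fun u v => ?_⟩ <;> omega }
    refine mem_of_support hK.toExt (CohB1.support F) (fun Z hZ hZi hZX y hy Z₀ hZ₀ hsm => ?_)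
      ⟨_, isClosed_support F (locallyFinGen_of_isFT F hF.2)⟩ subset_rfl F hF subset_rfl
    refine oneK_of_length_one hK hsm (isCoh_clM y) ?_ ((support_clM y).le.trans (hy.le.trans hZ₀))
      (length_stalk_clM y)
    have hdimZ : topologicalKrullDim Z ≤ ((r + 1 + 1 : ℕ) : WithBot ℕ∞) := (dim_mono hZX).trans hr
    -- put the first class of `c` in front
    obtain ⟨N, hN, hcN⟩ := InvCl.exists_rep (c 0)
    have hswap : ∀ a' : InvCl X, interDeg (Fin.cons a' c) (chiCl k (clM y)) =
        interDeg (Fin.cons (c 0) (Fin.cons a' (Fin.tail c))) (chiCl k (clM y)) := fun a' => by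
      rw [← interDeg_comp_perm _ (Equiv.swap (0 : Fin (r + 1 + 1)) (Fin.succ 0))]
      refine congrArg (fun w => interDeg w _) (funext fun i => ?_)
      induction i using Fin.cases with
      | zero =>
        rw [Function.comp_apply, Equiv.swap_apply_left, Fin.cons_succ]
        rfl
      | succ i =>
        induction i using Fin.cases with
        | zero =>
          rw [Function.comp_apply, Equiv.swap_apply_right, Fin.cons_zero, Fin.cons_succ]
          rfl
        | succ i =>
          rw [Function.comp_apply, Equiv.swap_apply_of_ne_of_ne (Fin.succ_ne_zero _)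
            (fun e => Fin.succ_ne_zero _ (Fin.succ_injective _ e)), Fin.cons_succ, Fin.cons_succ, Fin.cons_succ]
          rfl
    let c' : Fin r → InvCl X := Fin.tail c
    let ψ : X.Modules → ℤ := fun M =>
      interDeg (Fin.cons a c') (chiCl k M) - interDeg (Fin.cons b c') (chiCl k M)
    have hG : Coh.IsCoh (clM y) := isCoh_clM y
    have hGZ : CohB1.support (clM y) ⊆ Z := hy ▸ support_clM_subset y
    have hGN := isCoh_twist hN hG
    have hGNZ : CohB1.support (CohB1.tensorMod (clM y) N) ⊆ Z := (support_twist hN _).le.trans hGZ
    obtain ⟨W, hyW, g, hg⟩ := exists_isGen hN y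
    have hψ := eq_of_stalk_iso (ψ := ψ) (y := y) (Z := Z)
      (fun S hS h₁ h₂ h₃ => by
        show _ - _ = (_ - _) + (_ - _)
        rw [chiCl_additive k S hS h₁ h₂ h₃, interDeg_add_fun, interDeg_add_fun]
        ring)
      (fun M hM hMZ hyM => sub_eq_zero.2 (ih M hM (by
        have hlt := dim_lt_of_notMem (isClosed_support M (locallyFinGen_of_isFT M hM.2)) hMZ hZ hy hyM hdimZ
        revert hlt
        generalize topologicalKrullDim (CohB1.support M) = t
        intro hlt
        match t with
        | ⊥ => exact bot_le
        | (t : ℕ∞) =>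
          rw [Nat.cast_succ] at hlt
          exact WithBot.coe_le_coe.2 (ENat.lt_natCast_add_one_iff.1 (WithBot.coe_lt_coe.1 hlt))) c'))
      hGN hG hGNZ hGZ (twistStalkIso hyW hg (clM y)).symm (k := 1) (killed_clM y)
    show interDeg (Fin.cons a c) (chiCl k (clM y)) = interDeg (Fin.cons b c) (chiCl k (clM y))
    rw [hswap a, hswap b, interDeg_cons (c 0) (Fin.cons a (Fin.tail c)), interDeg_cons (c 0) (Fin.cons b (Fin.tail c)),
      show (fun x => chiCl k (clM y) (c 0 * x) - chiCl k (clM y) x) =
          chiCl k (CohB1.tensorMod (clM y) N) - chiCl k (clM y) from funext fun x => by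
        rw [← hcN, chiCl_mul k _ hN]; rfl,
      interDeg_sub, interDeg_sub]
    simp only [ψ, c'] at hψ
    omega

/-- **Intersection numbers depend only on the degrees on curves.** -/
theorem interDeg_congr {r : ℕ} {a b : Fin r → InvCl X} (h : ∀ i, SameDeg k (a i) (b i)) {F : X.Modules}
    (hF : Coh.IsCoh F) (hr : topologicalKrullDim (CohB1.support F) ≤ r) :
    interDeg a (chiCl k F) = interDeg b (chiCl k F) := by
  classical
  rcases r with _ | n
  · exact congrArg (fun w => interDeg w (chiCl k F)) (funext fun i => i.elim0)
  suffices key : ∀ s : Finset (Fin (n + 1)),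
      interDeg a (chiCl k F) = interDeg (fun i => if i ∈ s then b i else a i) (chiCl k F) by
    have := key Finset.univ
    simpa using this
  intro s
  induction s using Finset.induction with
  | empty => simp
  | insert j s hj ih =>
    rw [ih]
    let f : Fin (n + 1) → InvCl X := fun i => if i ∈ s then b i else a i
    let σ := Equiv.swap (0 : Fin (n + 1)) j
    let t : Fin n → InvCl X := fun i => f (σ i.succ)
    have hne : ∀ i : Fin n, σ i.succ ≠ j := fun i e => by
      have e0 : σ i.succ = σ 0 := e.trans (Equiv.swap_apply_left 0 j).symm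
      exact Fin.succ_ne_zero i (σ.injective e0)
    have e1 : f ∘ σ = Fin.cons (a j) t := funext fun i => by
      induction i using Fin.cases with
      | zero => simp [f, σ, hj]
      | succ i => rw [Fin.cons_succ]; rfl
    have e2 : (fun i => if i ∈ insert j s then b i else a i) ∘ σ = Fin.cons (b j) t := funext fun i => by
      induction i using Fin.cases with
      | zero => simp [σ]
      | succ i =>
        rw [Fin.cons_succ, Function.comp_apply]
        simp [t, f, hne i]
    show interDeg f (chiCl k F) = _
    rw [← interDeg_comp_perm f σ, ← interDeg_comp_perm (fun i => if i ∈ insert j s then b i else a i) σ, e1, e2]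
    exact interDeg_cons_congr k (h j) n F hF hr t

end Groth.Agent.EulerLib
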