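import Groth.Agent.EulerLib.NumEquivDeg
import Groth.Agent.Coherent.Existence.SysSupport
import Groth.Agent.DimLib.Morphism
import Groth.Agent.DimLib.Points

/-!
# Numerical equivalence and pullback along morphisms of proper schemes
-/

set_option autoImplicit false
set_option linter.style.haveILetI false
set_option backward.isDefEq.respectTransparency.types false

universe u

open CategoryTheory CategoryTheory.Limits AlgebraicGeometry TopologicalSpace Opposite
open Groth.Agent.Coherent Groth.Agent.PicLib Groth.Agent.AmpleLib Groth.Agent.AssSch12 Groth.Agent.AbCubeLib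
  Groth.Agent.DimLib

namespace Groth.Agent.EulerLib

variable (k : Type u) [Field k] {X Y : Scheme.{u}} [X.Over (Spec (CommRingCat.of k))]
  [IsProper (X ↘ Spec (CommRingCat.of k))] [Y.Over (Spec (CommRingCat.of k))]
  [IsProper (Y ↘ Spec (CommRingCat.of k))]

omit [IsProper (X ↘ Spec (CommRingCat.of k))] [IsProper (Y ↘ Spec (CommRingCat.of k))] in
theorem curveDeg_congr {M M' : Y.Modules} (e : M ≅ M') :
    Pic13.curveDeg k (Y ↘ Spec (CommRingCat.of k)) M = Pic13.curveDeg k (Y ↘ Spec (CommRingCat.of k)) M' := by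
  show FGA.eulerCharLE k Y M 1 - _ = FGA.eulerCharLE k Y M' 1 - _
  refine congrArg (· - _) (Finset.sum_congr rfl fun q _ => ?_)
  rw [((HHBaseEquiv k M q).trans ((isoA _ e ⊤ q).trans (HHBaseEquiv k M' q).symm)).finrank_eq]

omit [X.Over (Spec (CommRingCat.of k))] [IsProper (X ↘ Spec (CommRingCat.of k))]
  [Y.Over (Spec (CommRingCat.of k))] [IsProper (Y ↘ Spec (CommRingCat.of k))] k in
/-- An invertible module pulls back trivially along a morphism with range inside a trivialising open. -/
theorem nonempty_pullback_iso_of_range_subset (f : Y ⟶ X) {L : X.Modules} {U : X.Opens}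
    (e : L.restrict U.ι ≅ Coh.structureModule U) (h : Set.range f ⊆ U) :
    Nonempty ((Scheme.Modules.pullback f).obj L ≅ Coh.structureModule Y) := by
  have h' : Set.range f ⊆ Set.range U.ι := by rw [Scheme.Opens.range_ι]; exact h
  let l := IsOpenImmersion.lift U.ι f h'
  exact ⟨(Scheme.Modules.pullbackCongr (IsOpenImmersion.lift_fac U.ι f h')).symm.app L ≪≫
    ((Scheme.Modules.pullbackComp l U.ι).app L).symm ≪≫
    (Scheme.Modules.pullback l).mapIso (((Scheme.Modules.restrictFunctorIsoPullback U.ι).app L).symm ≪≫ e) ≪≫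
    PicLoc.pullbackStructureIso l⟩

/-- The image of a scheme of dimension at most one has dimension at most one. -/
theorem dim_range_le (f : Y ⟶ X) (hf : f ≫ (X ↘ Spec (CommRingCat.of k)) = Y ↘ Spec (CommRingCat.of k))
    {r : ℕ} (hY : topologicalKrullDim Y ≤ r) (hc : IsClosed (Set.range f)) :
    topologicalKrullDim (Set.range f) ≤ r := by
  let p := X ↘ Spec (CommRingCat.of k)
  haveI : LocallyOfFiniteType (f ≫ p) := by rw [hf]; infer_instance
  rw [topologicalKrullDim_closed_eq_iSup p hc]
  refine iSup_le ?_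
  rintro ⟨_, y, rfl⟩
  have h1 : ptDim p (f y) ≤ ptDim (f ≫ p) y := ptDim_apply_le p f y
  have h2 := (topologicalKrullDim_closed_eq_iSup (f ≫ p) isClosed_univ).ge.trans
    ((Homeomorph.Set.univ Y).isHomeomorph.topologicalKrullDim_eq.le.trans hY)
  have h3 : (ptDim (f ≫ p) y : WithBot ℕ∞) ≤ r :=
    (le_iSup (fun x : (Set.univ : Set Y) => (ptDim (f ≫ p) x.1 : WithBot ℕ∞)) ⟨y, trivial⟩).trans h2
  exact le_trans (by exact_mod_cast h1) h3

/-- Degrees along a morphism from a curve only depend on the degrees on curves. -/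
theorem curveDeg_pullback_congr [IsIntegral Y] (f : Y ⟶ X)
    (hf : f ≫ (X ↘ Spec (CommRingCat.of k)) = Y ↘ Spec (CommRingCat.of k)) (hY : topologicalKrullDim Y ≤ 1)
    {L N : X.Modules} (hL : PicF.IsInvertible L) (hN : PicF.IsInvertible N)
    (h : SameDeg k (InvCl.mk L hL) (InvCl.mk N hN)) :
    Pic13.curveDeg k (Y ↘ Spec (CommRingCat.of k)) ((Scheme.Modules.pullback f).obj L) =
      Pic13.curveDeg k (Y ↘ Spec (CommRingCat.of k)) ((Scheme.Modules.pullback f).obj N) := by
  haveI := isNoetherian_of_proper (X := X) k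
  haveI := isNoetherian_of_proper (X := Y) k
  by_cases hne : ∀ w, f w = f (genericPoint Y)
  · obtain ⟨U₁, h₁, ⟨e₁⟩⟩ := hL (f (genericPoint Y))
    obtain ⟨U₂, h₂, ⟨e₂⟩⟩ := hN (f (genericPoint Y))
    obtain ⟨a₁⟩ := nonempty_pullback_iso_of_range_subset f e₁ (by rintro _ ⟨w, rfl⟩; rw [hne w]; exact h₁)
    obtain ⟨a₂⟩ := nonempty_pullback_iso_of_range_subset f e₂ (by rintro _ ⟨w, rfl⟩; rw [hne w]; exact h₂)
    rw [curveDeg_congr k a₁, curveDeg_congr k a₂]
  · haveI := isFinite_of_ne_point k f hf hY hne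
    rw [curveDeg_pullback_eq k f hf hY hL, curveDeg_pullback_eq k f hf hY hN]
    have hO : Coh.IsCoh (Coh.structureModule Y) := isCoh_structureModule _
    refine interDeg_congr k (fun _ => h) (isCoh_push_finite f hO) ?_
    refine (dim_mono ((Existence.support_push_subset_image f f.isClosedMap _
      (isClosed_support _ (locallyFinGen_of_isFT _ hO.2))).trans (Set.image_subset_range _ _))).trans ?_
    exact dim_range_le k f hf (r := 1) hY f.isClosedMap.isClosed_range

omit [X.Over (Spec (CommRingCat.of k))] [IsProper (X ↘ Spec (CommRingCat.of k))]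
  [Y.Over (Spec (CommRingCat.of k))] [IsProper (Y ↘ Spec (CommRingCat.of k))] k in
theorem germ_one_push_ne_zero (h : Y ⟶ X) {x : X} (hx : x ∈ Set.range h) :
    ((Coh.push h).obj (Coh.structureModule Y)).presheaf.germ (⊤ : X.Opens) x trivial
      (show Γ((Coh.push h).obj (Coh.structureModule Y), ⊤) from (1 : Γ(Y, h ⁻¹ᵁ ⊤))) ≠ 0 := by
  intro h0
  obtain ⟨y', hy'⟩ := hx
  let M := (Coh.push h).obj (Coh.structureModule Y)
  obtain ⟨W, hW, i₁, i₂, e₁⟩ := TopCat.Presheaf.germ_eq _ x (U := (⊤ : X.Opens)) (V := (⊤ : X.Opens))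
    trivial trivial _ _ (h0.trans (map_zero (M.presheaf.germ (⊤ : X.Opens) x trivial).hom).symm)
  rw [map_zero] at e₁
  have e₂ : Y.presheaf.map ((Opens.map h.base).map i₁).op (1 : Γ(Y, h ⁻¹ᵁ ⊤)) = 0 := e₁
  rw [map_one] at e₂
  have := congrArg (Y.presheaf.germ (h ⁻¹ᵁ W) y' (show h y' ∈ W from hy'.symm ▸ hW)) e₂
  rw [map_one, map_zero] at this
  exact one_ne_zero this

/-- The degree on an integral curve pulled back along a finite surjection scales by a positive factor. -/
theorem exists_curveDeg_pullback_eq_mul [IsIntegral X] (h : Y ⟶ X) [IsFinite h]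
    (hh : h ≫ (X ↘ Spec (CommRingCat.of k)) = Y ↘ Spec (CommRingCat.of k)) (hX : topologicalKrullDim X ≤ 1)
    (hY : topologicalKrullDim Y ≤ 1) (hs : genericPoint X ∈ Set.range h) :
    ∃ e : ℕ, 0 < e ∧ ∀ M : X.Modules, PicF.IsInvertible M →
      Pic13.curveDeg k (Y ↘ Spec (CommRingCat.of k)) ((Scheme.Modules.pullback h).obj M) =
        e * Pic13.curveDeg k (X ↘ Spec (CommRingCat.of k)) M := by
  haveI := isNoetherian_of_proper (X := X) k
  haveI := isNoetherian_of_proper (X := Y) k
  have hO : Coh.IsCoh (Coh.structureModule Y) := isCoh_structureModule _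
  have hE := isCoh_push_finite h hO
  refine ⟨genRank ((Coh.push h).obj (Coh.structureModule Y)), ?_, fun M hM => ?_⟩
  · letI : Field (X.presheaf.stalk (genericPoint X)) := inferInstanceAs (Field X.functionField)
    haveI := finite_stalk hE (genericPoint X)
    haveI : Nontrivial (((Coh.push h).obj (Coh.structureModule Y)).presheaf.stalk (genericPoint X)) :=
      nontrivial_of_ne _ _ (germ_one_push_ne_zero h hs)
    exact Module.finrank_pos
  · rw [curveDeg_pullback_eq k h hh hY hM, interDeg_eq_genRank k (r := 1) hX _ _ hE]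
    refine congrArg _ ?_
    have hOX : Coh.IsCoh (Coh.structureModule X) := isCoh_structureModule _
    have h1 := interDeg_eq_genRank k (r := 1) hX (fun _ : Fin 1 => InvCl.mk M hM) _ hOX
    rw [genRank_structureModule, Nat.cast_one, one_mul] at h1
    refine h1.symm.trans (Eq.trans ?_ (curveDeg_congr k ((Scheme.Modules.pullbackId X).app M)))
    rw [curveDeg_pullback_eq k (𝟙 X) (Category.id_comp _) hX hM]
    exact congrArg (interDeg _) (chiCl_congr k ((Scheme.Modules.pushforwardId X).app _).symm)

/-- Numerical equivalence can be tested after a surjection. -/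
theorem sameDeg_of_pullback_surjective {X' : Scheme.{u}} [X'.Over (Spec (CommRingCat.of k))]
    [IsProper (X' ↘ Spec (CommRingCat.of k))] (g : X' ⟶ X)
    (hg : g ≫ (X ↘ Spec (CommRingCat.of k)) = X' ↘ Spec (CommRingCat.of k)) [Surjective g]
    {L N : X.Modules} (hL : PicF.IsInvertible L) (hN : PicF.IsInvertible N)
    (hnum : ∀ (C : Scheme.{u}) (i : C ⟶ X') [IsClosedImmersion i], IsIntegral C → topologicalKrullDim C = 1 →
      Pic13.curveDeg k (i ≫ (X' ↘ Spec (CommRingCat.of k))) ((Scheme.Modules.pullback i).obj ((Scheme.Modules.pullback g).obj L)) =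
        Pic13.curveDeg k (i ≫ (X' ↘ Spec (CommRingCat.of k))) ((Scheme.Modules.pullback i).obj ((Scheme.Modules.pullback g).obj N)))
    [IsIntegral Y] (i : Y ⟶ X) [IsClosedImmersion i]
    (hi : i ≫ (X ↘ Spec (CommRingCat.of k)) = Y ↘ Spec (CommRingCat.of k)) (hY : topologicalKrullDim Y = 1) :
    Pic13.curveDeg k (Y ↘ Spec (CommRingCat.of k)) ((Scheme.Modules.pullback i).obj L) =
      Pic13.curveDeg k (Y ↘ Spec (CommRingCat.of k)) ((Scheme.Modules.pullback i).obj N) := by
  haveI := isNoetherian_of_proper (X := X') k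
  haveI := isNoetherian_of_proper (X := Y) k
  let p := X ↘ Spec (CommRingCat.of k)
  haveI : LocallyOfFiniteType (g ≫ p) := by rw [hg]; infer_instance
  let ξ := i (genericPoint Y)
  -- a closed point of the fibre over `ξ`
  haveI : QuasiCompact g :=
    haveI : QuasiCompact (g ≫ p) := by rw [hg]; infer_instance
    QuasiCompact.of_comp g p
  haveI : CompactSpace ↥(g.fiber ξ) := QuasiCompact.compactSpace_of_compactSpace (g.fiberToSpecResidueField ξ)
  obtain ⟨z', hz'⟩ := g.surjective ξ
  obtain ⟨w₀, -⟩ : ∃ w, g.fiberι ξ w = z' := by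
    rw [← Set.mem_range, g.range_fiberι]; exact hz'
  obtain ⟨w, -, hw⟩ := (isClosed_univ (X := ↥(g.fiber ξ))).exists_closed_singleton ⟨w₀, trivial⟩
  let z := g.fiberι ξ w
  have hz : g z = ξ := by
    have : z ∈ Set.range (g.fiberι ξ) := ⟨w, rfl⟩
    rwa [g.range_fiberι] at this
  haveI : LocallyOfFiniteType g := locallyOfFiniteType_of_comp g p
  haveI : LocallyOfFiniteType (g.fiberToSpecResidueField ξ) :=
    inferInstanceAs (LocallyOfFiniteType (pullback.snd g (X.fromSpecResidueField ξ)))
  have hpz : ptDim (g ≫ p) z = ptDim p ξ := by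
    show ptDim (g ≫ p) (g.fiberι ξ w) = _
    rw [ptDim_fiberι p g ξ w,
      (ptDim_eq_zero_iff (k := X.residueField ξ) (f := g.fiberToSpecResidueField ξ) w).2 hw, add_zero]
  have hξ : IsGenericPoint ξ (Set.range i) := by
    show closure {i (genericPoint Y)} = Set.range i
    rw [← Set.image_univ, ← genericPoint_closure (α := Y), ← i.isClosedEmbedding.closure_image_eq,
      Set.image_singleton]
  have hdξ : ((ptDim p ξ : ℕ) : WithBot ℕ∞) = 1 := by
    rw [← topologicalKrullDim_eq_ptDim_of_isGenericPoint p hξ, ← hY]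
    exact i.isClosedEmbedding.isEmbedding.toHomeomorph.isHomeomorph.topologicalKrullDim_eq.symm
  -- the curve upstairs
  let C := (clI z).subscheme
  let j : C ⟶ X' := (clI z).subschemeι
  letI : C.Over (Spec (CommRingCat.of k)) := ⟨j ≫ (X' ↘ Spec (CommRingCat.of k))⟩
  haveI : IsProper (C ↘ Spec (CommRingCat.of k)) := inferInstanceAs (IsProper (j ≫ _))
  haveI : IsIntegral C := inferInstanceAs (IsIntegral (clI z).subscheme)
  have hCdim : topologicalKrullDim C = 1 := by
    rw [j.isClosedEmbedding.isEmbedding.toHomeomorph.isHomeomorph.topologicalKrullDim_eq]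
    refine (congrArg (fun S : Set X' => topologicalKrullDim S) (range_clι z)).trans ?_
    rw [topologicalKrullDim_eq_ptDim_of_isGenericPoint (g ≫ p) (show IsGenericPoint z (closure {z}) from rfl), hpz, hdξ]
  -- it maps to the curve downstairs
  have hrange : ∀ c : C, g (j c) ∈ Set.range i := fun c => by
    rw [← hξ.def, ← hz]
    exact specializes_iff_mem_closure.1 ((specializes_iff_mem_closure.2 ((range_clι z).le ⟨c, rfl⟩)).map g.continuous)
  haveI : Surjective (pullback.fst (j ≫ g) i) := by
    refine ⟨Set.range_eq_univ.1 ?_⟩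
    rw [Scheme.Pullback.range_fst]
    exact Set.eq_univ_of_forall fun c => by simpa using hrange c
  haveI := isIso_of_isClosedImmersion_of_surjective (pullback.fst (j ≫ g) i)
  let h : C ⟶ Y := inv (pullback.fst (j ≫ g) i) ≫ pullback.snd (j ≫ g) i
  have hfac : h ≫ i = j ≫ g := by
    rw [Category.assoc, ← pullback.condition, IsIso.inv_hom_id_assoc]
  have hh : h ≫ (Y ↘ Spec (CommRingCat.of k)) = C ↘ Spec (CommRingCat.of k) := by
    rw [← hi, reassoc_of% hfac, hg]
    rfl
  obtain ⟨c₀, hc₀⟩ : z ∈ Set.range j := (range_clι z).ge (subset_closure rfl)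
  have hs : h c₀ = genericPoint Y := i.isClosedEmbedding.injective (by
    rw [← Scheme.Hom.comp_apply, hfac, Scheme.Hom.comp_apply, hc₀, hz])
  haveI : IsFinite h := by
    refine isFinite_of_ne_point k h hh hCdim.le fun hall => ?_
    have hgen : h (genericPoint C) = genericPoint Y := (hall c₀).symm.trans hs
    haveI : IsProper (h ≫ (Y ↘ Spec (CommRingCat.of k))) := by rw [hh]; infer_instance
    haveI : IsProper h := IsProper.of_comp h (Y ↘ Spec (CommRingCat.of k))
    have hcl : IsClosed ({genericPoint Y} : Set Y) := by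
      have e : Set.range h = {genericPoint Y} := Set.eq_singleton_iff_unique_mem.2
        ⟨⟨_, hgen⟩, by rintro _ ⟨c, rfl⟩; exact (hall c).trans hgen⟩
      rw [← e]
      exact h.isClosedMap.isClosed_range
    have h0 := (Homeomorph.Set.univ Y).isHomeomorph.topologicalKrullDim_eq.symm.trans
      ((congrArg (fun S : Set Y => topologicalKrullDim S) ((genericPoint_closure (α := Y)).symm.trans hcl.closure_eq)).trans
        (topologicalKrullDim_eq_ptDim_of_isGenericPoint (Y ↘ Spec (CommRingCat.of k))
          (show IsGenericPoint (genericPoint Y) ({genericPoint Y} : Set Y) from hcl.closure_eq)))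
    rw [(ptDim_eq_zero_iff (f := Y ↘ Spec (CommRingCat.of k)) _).2 hcl, hY] at h0
    exact one_ne_zero (by exact_mod_cast h0 : (1 : ℕ) = 0)
  obtain ⟨e, he, hmul⟩ := exists_curveDeg_pullback_eq_mul k h hh hY.le hCdim.le ⟨c₀, hs⟩
  have key : ∀ M : X.Modules, PicF.IsInvertible M →
      Pic13.curveDeg k (C ↘ Spec (CommRingCat.of k)) ((Scheme.Modules.pullback j).obj ((Scheme.Modules.pullback g).obj M)) =
        e * Pic13.curveDeg k (Y ↘ Spec (CommRingCat.of k)) ((Scheme.Modules.pullback i).obj M) := fun M hM => by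
    rw [← hmul _ (PicLoc.isInvertible_pullback i hM)]
    exact curveDeg_congr k ((Scheme.Modules.pullbackComp j g).app M ≪≫
      (Scheme.Modules.pullbackCongr hfac.symm).app M ≪≫ ((Scheme.Modules.pullbackComp h i).app M).symm)
  have hC := hnum C j inferInstance hCdim
  rw [show j ≫ (X' ↘ Spec (CommRingCat.of k)) = C ↘ Spec (CommRingCat.of k) from rfl, key L hL, key N hN] at hC
  exact mul_left_cancel₀ (by exact_mod_cast he.ne') hC

end Groth.Agent.EulerLib
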