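import Groth.Agent.ParHilbW15.Basic
import Groth.Agent.ParGP23.Fibre
import Groth.Agent.VB5.Twist
import Groth.Agent.BlowUpCoh.GGVanish
import Groth.Agent.KZeroLib.SigmaCoh
import Groth.Agent.EulerPn5.TangentHyp
import Groth.Agent.AbVarLib.GeomIntegralSmooth
import Mathlib.MeasureTheory.Integral.IntervalIntegral.Basic

/-!
# Parabolic bundles on a curve: coherence of pieces, degrees as integrals, monotonicity
-/

set_option autoImplicit false
set_option linter.style.haveILetI false
set_option linter.unusedSectionVars false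
set_option backward.isDefEq.respectTransparency.types false
set_option maxHeartbeats 1000000

universe u

open CategoryTheory CategoryTheory.Limits AlgebraicGeometry Opposite TopologicalSpace
open Groth.Agent.Coherent Groth.Agent.PicLib Groth.Agent.AmpleLib Groth.Agent.EulerLib Groth.Agent.CurveRR24

namespace Groth.Agent.EulerLib.ParCurve

variable {X : Scheme.{u}}

/-- A germ at a closed point of the finite support extends to a global section. -/
theorem exists_global_germ (Q : X.Modules) {S : Set X} (hS : S.Finite) (hSc : ∀ y ∈ S, IsClosed ({y} : Set X))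
    (hQ : CohB1.support Q ⊆ S) {p : X} (hp : p ∈ S) (q : Q.presheaf.stalk p) :
    ∃ t : Γ(Q, ⊤), Q.presheaf.germ ⊤ p trivial t = q := by
  classical
  obtain ⟨W₀, hp₀, r, rfl⟩ := Q.presheaf.exists_germ_eq q
  have hcl : IsClosed (S \ {p}) := by
    rw [← Set.biUnion_of_singleton (S \ {p})]
    exact (hS.subset Set.diff_subset).isClosed_biUnion fun y hy => hSc y hy.1
  let W₁ : X.Opens := W₀ ⊓ ⟨(S \ {p})ᶜ, hcl.isOpen_compl⟩
  let V : X.Opens := ⟨({p} : Set X)ᶜ, (hSc p hp).isOpen_compl⟩
  have hp₁ : p ∈ W₁ := ⟨hp₀, fun h => h.2 rfl⟩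
  have hd : ∀ {O : X.Opens}, O ≤ W₁ ⊓ V → ∀ a b : Γ(Q, O), a = b := fun {O} hO a b => by
    have : Subsingleton Γ(Q, O) := Coherent.subsingleton_sections_of_disjoint Q O (Set.disjoint_left.2 fun x hx hxs =>
      (hO hx).1.2 ⟨hQ hxs, (hO hx).2⟩)
    exact Subsingleton.elim a b
  obtain ⟨t, ht, -⟩ := TopCat.Sheaf.existsUnique_gluing' (⟨Q.presheaf, Q.isSheaf⟩ : TopCat.Sheaf Ab X)
    (fun b : Bool => if b then W₁ else V) ⊤ (fun b => homOfLE le_top)
    (fun x _ => Opens.mem_iSup.2 (if h : x = p then ⟨true, h ▸ hp₁⟩ else ⟨false, h⟩))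
    (fun b => match b with
      | true => resM Q (inf_le_left : W₁ ≤ W₀) r
      | false => 0)
    (by
      rintro (_ | _) (_ | _)
      · rfl
      · exact hd (by rw [inf_comm]; exact le_rfl) _ _
      · exact hd le_rfl _ _
      · rfl)
  have ht' : resM Q (le_top : W₁ ≤ ⊤) t = resM Q (inf_le_left : W₁ ≤ W₀) r := ht true
  refine ⟨t, ?_⟩
  show Q.presheaf.germ ⊤ p trivial t = Q.presheaf.germ W₀ p hp₀ r
  rw [← BlowUpCoh.germ_resM' (M := Q) (le_top : W₁ ≤ ⊤) hp₁ t, ht', BlowUpCoh.germ_resM']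

/-- A submodule of a coherent module whose support is finitely many closed points has coherent cokernel. -/
theorem isCoh_cokernel_of_small [IsLocallyNoetherian X] {M T : X.Modules} (ι : M ⟶ T) [Mono ι] (hT : Coh.IsCoh T)
    {S : Set X} (hS : S.Finite) (hSc : ∀ y ∈ S, IsClosed ({y} : Set X)) (hTS : CohB1.support T ⊆ S) :
    Coh.IsCoh (cokernel ι) := by
  classical
  have hMS : CohB1.support M ⊆ S := (support_subset_of_mono ι).trans hTS
  have hfg : ∀ y : X, ∃ s : Finset (M.presheaf.stalk y), Submodule.span (X.presheaf.stalk y)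
      (s : Set (M.presheaf.stalk y)) = ⊤ := fun y => by
    haveI : Module.Finite (X.presheaf.stalk y) ((DerSch.stalkFunctor X y).obj T : Type u) := AssSch12.finite_stalk hT y
    haveI : _root_.IsNoetherian (X.presheaf.stalk y) ((DerSch.stalkFunctor X y).obj T : Type u) :=
      isNoetherian_of_isNoetherianRing_of_finite _ _
    haveI : Mono ((DerSch.stalkFunctor X y).map ι) := inferInstance
    haveI : Module.Finite (X.presheaf.stalk y) (M.presheaf.stalk y) :=
      Module.Finite.of_injective ((DerSch.stalkFunctor X y).map ι).hom ((ModuleCat.mono_iff_injective _).1 ‹_›)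
    exact Module.Finite.fg_top
  choose gen hgen using hfg
  haveI := hS.to_subtype
  let J := Σ y : S, gen y.1
  haveI : Finite J := inferInstance
  let e := Finite.equivFin J
  let N := Nat.card J
  choose σ hσ using fun j : J => exists_global_germ M hS hSc hMS j.1.2 j.2.1
  let φ : (∐ fun _ : Fin N => Coh.structureModule X) ⟶ M := Sigma.desc fun n => Coherent.unitDesc M (σ (e.symm n))
  haveI : Epi φ := Coherent.CohBC.epi_of_surjective_stalks _ fun y => by
    by_cases hy : y ∈ S
    · intro m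
      suffices h : m ∈ LinearMap.range ((DerSch.stalkFunctor X y).map φ).hom from h
      have h1 : Submodule.span (X.presheaf.stalk y) (gen y : Set (M.presheaf.stalk y)) ≤
          LinearMap.range ((DerSch.stalkFunctor X y).map φ).hom := by
        refine Submodule.span_le.2 fun a ha => ?_
        let j : J := ⟨⟨y, hy⟩, ⟨a, ha⟩⟩
        let o : (Coh.structureModule X).presheaf.stalk y :=
          (Coh.structureModule X).presheaf.germ ⊤ y trivial (1 : Γ(X, ⊤))
        refine ⟨((DerSch.stalkFunctor X y).map (Sigma.ι (fun _ : Fin N => Coh.structureModule X) (e j))) o, ?_⟩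
        show ((DerSch.stalkFunctor X y).map φ) _ = a
        rw [← ConcreteCategory.comp_apply, ← Functor.map_comp, show Sigma.ι _ (e j) ≫ φ = _ from colimit.ι_desc _ _]
        refine (AssSch12.stalkFunctor_map_germ _ _ _).trans ?_
        have h2 : (Coherent.unitDesc M (σ (e.symm (e j)))).app ⊤ (1 : Γ(X, ⊤)) = σ j := by
          rw [e.symm_apply_apply]
          exact (Coherent.unitVal_unitDesc M (σ j) ⊤).trans (resM_self M _ _)
        exact (congrArg _ h2).trans (hσ j)
      exact h1 ((hgen y).ge Submodule.mem_top)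
    · haveI : Subsingleton (M.presheaf.stalk y) := not_not.1 fun h => hy (hMS h)
      exact fun m => ⟨0, Subsingleton.elim _ _⟩
  have hc : Coh.IsCoh (cokernel (φ ≫ ι)) :=
    Coherent.isCoh_cokernel _ (KZeroLib.isCoh_sigma_finite ⟨inferInstance⟩ _ fun _ => isCoh_structureModule X).1 hT
  exact Groth.Agent.Coherent.isCoh_of_iso (cokernelEpiComp φ ι) hc

variable (k : Type u) [Field k] [X.Over (Spec (CommRingCat.of k))] [IsProper (X ↘ Spec (CommRingCat.of k))]
  [IsIntegral X] [IsLocallyNoetherian X] (hdim : topologicalKrullDim X = 1)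

open Groth.Agent.VB5 (grk gdeg)

theorem grk_le_of_mono {A B : X.Modules} (f : A ⟶ B) [Mono f] (hB : Coh.IsCoh B) : grk A ≤ grk B := by
  have := VB5.grk_additive (EulerLib.shortExact_cokernel f) hB
  change grk B = grk A + grk (cokernel f) at this
  omega

include k hdim in
/-- Submodules above a coherent submodule of full rank are coherent. -/
theorem isCoh_of_le {E : X.Modules} (hE : Coh.IsCoh E) {B P : Subobject E} (hB : Coh.IsCoh (B : X.Modules))
    (hr : grk (B : X.Modules) = grk E) (hle : B ≤ P) : Coh.IsCoh (P : X.Modules) := by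
  let T := cokernel B.arrow
  have hT : Coh.IsCoh T := Coherent.isCoh_cokernel B.arrow hB.1 hE
  have h0 : grk T = 0 := by
    have := VB5.grk_additive (EulerLib.shortExact_cokernel B.arrow) hE
    change grk E = grk (B : X.Modules) + grk T at this
    omega
  obtain ⟨hfin, hpts, -⟩ := CurveRR24.closed_small k hdim.le
    (Coherent.isClosed_support _ (Coherent.locallyFinGen_of_isFT _ hT.2))
    (ParGP23.genericPoint_notMem_support hT h0)
  let q : T ⟶ cokernel P.arrow := cokernel.desc B.arrow (cokernel.π P.arrow) (by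
    rw [← Subobject.ofLE_arrow hle, Category.assoc, cokernel.condition, Limits.comp_zero])
  haveI : Epi q := epi_of_epi_fac (cokernel.π_desc B.arrow _ _)
  have hS := EulerLib.shortExact_kernel q
  have hQ : Coh.IsCoh (cokernel P.arrow) := Groth.Agent.Coherent.isCoh_of_iso
    ((cokernelIsCokernel (kernel.ι q)).coconePointUniqueUpToIso hS.gIsCokernel)
    (isCoh_cokernel_of_small (kernel.ι q) hT hfin hpts subset_rfl)
  exact Groth.Agent.Coherent.isCoh_of_iso
    ((kernelIsKernel (cokernel.π P.arrow)).conePointUniqueUpToIso (EulerLib.shortExact_cokernel P.arrow).fIsKernel)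
    (Coherent.isCoh_kernel _ hE hQ.1)

/-- The twist by an ideal is natural. -/
theorem twistMap_natural (I : X.IdealSheafData) {E V : X.Modules} (g : E ⟶ V) :
    KoszTw.tensorMap g (𝟙 (ClSub.idealMod I)) ≫ ParSh.twistMap I V = ParSh.twistMap I E ≫ g := by
  refine AmpleLib.hom_ext fun U a b => ?_
  have e : ∀ (W : X.Modules) (a : Γ(W, U)), (ParSh.twistMap I W).app U (AmpleLib.tmul a b) =
      (show Γ(X, U) from (ClSub.idealModι I).app U b) • a := fun W a => by
    show (SecTwist.unitorR W).hom.app U ((KoszTw.tensorMap (𝟙 W) (ClSub.idealModι I)).app U _) = _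
    exact (congrArg ((SecTwist.unitorR W).hom.app U) (KoszTw.tensorMap_tmul _ _ _ _ _)).trans
      (SecTwist.unitorR_tmul W U a ((ClSub.idealModι I).app U b))
  show (ParSh.twistMap I V).app U ((KoszTw.tensorMap g (𝟙 _)).app U (AmpleLib.tmul a b)) =
    g.app U ((ParSh.twistMap I E).app U (AmpleLib.tmul a b))
  rw [e E a]
  refine (congrArg ((ParSh.twistMap I V).app U) (KoszTw.tensorMap_tmul _ _ _ _ _)).trans ?_
  refine (e V (g.app U a)).trans ?_
  exact (Scheme.Modules.Hom.app_smul g _ a).symm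

theorem mono_twistMap (I : X.IdealSheafData) {E : X.Modules} (hE : FlatMod.IsFinLocFree E) :
    Mono (ParSh.twistMap I E) := by
  haveI := AmpleLib.mono_idealModι (I := I)
  haveI := EulerPn5.mono_tensorMap_flat (ClSub.idealModι I) hE
  have h : KoszTw.tensorMap (𝟙 E) (ClSub.idealModι I) ≫ (AmpleLib.tensorComm E (Coh.structureModule X)).hom =
      (AmpleLib.tensorComm E (ClSub.idealMod I)).hom ≫ KoszTw.tensorMap (ClSub.idealModι I) (𝟙 E) := by
    rw [ParGP23.koszMap_eq, ParGP23.koszMap_eq]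
    refine AmpleLib.hom_ext fun U a b => ?_
    show (AmpleLib.tensorSwap _ _).app U ((AmpleLib.tensorMap _ _).app U (AmpleLib.tmul a b)) =
      (AmpleLib.tensorMap _ _).app U ((AmpleLib.tensorSwap _ _).app U (AmpleLib.tmul a b))
    exact (congrArg _ (AmpleLib.tensorMap_tmul _ _ a b)).trans
      ((AmpleLib.Bilin.desc_tmul _ U _ _).trans
        ((congrArg _ (AmpleLib.Bilin.desc_tmul _ U a b)).trans (AmpleLib.tensorMap_tmul _ _ b a)).symm)
  have : Mono (KoszTw.tensorMap (𝟙 E) (ClSub.idealModι I) ≫ (AmpleLib.tensorComm E (Coh.structureModule X)).hom) := by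
    rw [h]; infer_instance
  haveI := mono_of_mono (KoszTw.tensorMap (𝟙 E) (ClSub.idealModι I)) (AmpleLib.tensorComm E (Coh.structureModule X)).hom
  exact mono_comp _ _

include hdim in
theorem isCoh_twistSub (hn' : ∀ x : X, IsIntegrallyClosed (X.presheaf.stalk x)) {I : X.IdealSheafData} (hD : FGA.IsEffCartier I) {r : ℕ} {E : X.Modules}
    (hE : FlatMod.IsFinLocFreeOfRank r E) :
    Coh.IsCoh ((ParSh.twistSub I E : Subobject E) : X.Modules) ∧ grk ((ParSh.twistSub I E : Subobject E) : X.Modules) = r ∧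
      gdeg k ((ParSh.twistSub I E : Subobject E) : X.Modules) = gdeg k E + r * gdeg k (ClSub.idealMod I) := by
  have hI := ParGP23.invertible_ideal k hdim.le I hD
  haveI := mono_twistMap I (VarietyLib.isFinLocFree_of_rank hE)
  have hn := Groth.Agent.VB5.grk_twist hE hI
  let e : ((ParSh.twistSub I E : Subobject E) : X.Modules) ≅ CohB1.tensorMod E (ClSub.idealMod I) :=
    Subobject.isoOfEq _ _ (imageSubobject_mono (ParSh.twistMap I E)) ≪≫ Subobject.underlyingIso _
  exact ⟨Groth.Agent.Coherent.isCoh_of_iso e.symm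
    (VarietyLib.isCoh_tensor' (SplitP1.isCoh_of_rank hE) (isCoh_idealMod' I)),
    (VB5.grk_congr e).trans hn, (VB5.gdeg_congr k e).trans (VB5.gdeg_twist k hdim hn' hI r hE)⟩

section Combinatorics

theorem sum_telescope : ∀ {n : ℕ} (g : Fin (n + 1) → ℝ) (i : Fin (n + 1)),
    (∑ j : Fin n, if i ≤ j.castSucc then g j.castSucc - g j.succ else 0) = g i - g (Fin.last n)
  | 0, g, i => by
    obtain rfl : i = Fin.last 0 := Fin.ext (by simp)
    simp
  | n + 1, g, i => by
    rw [Fin.sum_univ_succ]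
    induction i using Fin.cases with
    | zero =>
      have h := sum_telescope (fun j => g j.succ) 0
      simp only [Fin.zero_le, if_true, Fin.succ_last, Fin.castSucc_zero, ← Fin.succ_castSucc] at h ⊢
      rw [h]
      ring
    | succ i =>
      have h := sum_telescope (fun j => g j.succ) i
      simp only [Fin.succ_last] at h
      rw [if_neg (by simp [Fin.le_def]), zero_add, ← h]
      exact Finset.sum_congr rfl fun j _ => by simp [← Fin.succ_castSucc]

variable {E : X.Modules} (𝓔 : ParSh.Str E)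

/-- The index at `a`: every earlier weight is smaller, every later one is at least `a`. -/
def IdxAt (a : ℝ) (i : Fin (𝓔.l + 2)) : Prop :=
  ∀ j : Fin (𝓔.l + 1), i ≤ j.castSucc ↔ a ≤ 𝓔.wt j

theorem exists_idx (a : ℝ) : ∃ i, IdxAt 𝓔 a i := by
  classical
  by_cases h : ∃ j, a ≤ 𝓔.wt j
  · obtain ⟨j, hj, hmin⟩ := (Finset.univ.filter fun j => a ≤ 𝓔.wt j).exists_minimal
      ⟨h.choose, by simp [h.choose_spec]⟩
    simp only [Finset.mem_filter, Finset.mem_univ, true_and] at hj hmin
    refine ⟨j.castSucc, fun j' => ⟨fun h' => hj.trans (𝓔.wt_strictMono.monotone (Fin.castSucc_le_castSucc_iff.1 h')),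
      fun h' => Fin.castSucc_le_castSucc_iff.2 ?_⟩⟩
    rcases le_total j j' with h'' | h''
    · exact h''
    · exact hmin h' h''
  · push Not at h
    exact ⟨Fin.last _, fun j => ⟨fun h' => absurd h' (not_le.2 j.castSucc_lt_last), fun h' => absurd h' (not_le.2 (h j))⟩⟩

theorem at_eq_pieceX {a : ℝ} {i : Fin (𝓔.l + 2)} (h : IdxAt 𝓔 a i) : 𝓔.at a = 𝓔.pieceX i := by
  induction i using Fin.lastCases with
  | last =>
    rw [ParSh.Str.pieceX_last]
    exact 𝓔.at_eq_bot fun j => not_le.1 fun h' => absurd ((h j).2 h') (not_le.2 j.castSucc_lt_last)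
  | cast i =>
    rw [ParSh.Str.pieceX_castSucc]
    exact 𝓔.at_eq_piece i ((h i).1 le_rfl) fun j hj => not_le.1 fun h' =>
      absurd ((h j).2 h') (not_le.2 (Fin.castSucc_lt_castSucc_iff.2 hj))

open MeasureTheory intervalIntegral in
/-- The weight term as an integral over the filtration. -/
theorem parWt_eq (χ : X.Modules → ℤ) :
    ∑ j : Fin (𝓔.l + 1), 𝓔.wt j * ((χ (𝓔.piece j : X.Modules) : ℝ) - χ (𝓔.pieceX j.succ : X.Modules)) =
      ∫ a in (0:ℝ)..1, ((χ (𝓔.at a : X.Modules) : ℝ) - χ (𝓔.bot : X.Modules)) ∧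
    IntervalIntegrable (fun a => (χ (𝓔.at a : X.Modules) : ℝ) - χ (𝓔.bot : X.Modules)) volume 0 1 := by
  let g : Fin (𝓔.l + 2) → ℝ := fun i => (χ (𝓔.pieceX i : X.Modules) : ℝ)
  let c : Fin (𝓔.l + 1) → ℝ := fun j => g j.castSucc - g j.succ
  let f : Fin (𝓔.l + 1) → ℝ → ℝ := fun j => Set.indicator {a | a ≤ 𝓔.wt j} fun _ => c j
  have hf : (fun a => (χ (𝓔.at a : X.Modules) : ℝ) - χ (𝓔.bot : X.Modules)) = fun a => ∑ j, f j a := funext fun a => by
    obtain ⟨i, hi⟩ := exists_idx 𝓔 a
    rw [at_eq_pieceX 𝓔 hi, ← 𝓔.pieceX_last]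
    refine (sum_telescope g i).symm.trans (Finset.sum_congr rfl fun j _ => ?_)
    simp only [f, c, Set.indicator_apply, Set.mem_setOf_eq]
    by_cases h : i ≤ j.castSucc
    · rw [if_pos h, if_pos ((hi j).1 h)]
    · rw [if_neg h, if_neg fun h' => h ((hi j).2 h')]
  have hint : ∀ j, IntervalIntegrable (f j) volume 0 1 := fun j => by
    rw [intervalIntegrable_iff_integrableOn_Ioc_of_le zero_le_one]
    exact (integrableOn_const (by simp)).indicator measurableSet_Iic
  rw [hf]
  refine ⟨?_, by simpa only [Finset.sum_fn] using IntervalIntegrable.sum Finset.univ fun j _ => hint j⟩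
  rw [intervalIntegral.integral_finset_sum fun j _ => hint j]
  refine Finset.sum_congr rfl fun j _ => ?_
  rw [show f j = Set.indicator {a | a ≤ 𝓔.wt j} fun _ => c j from rfl,
    intervalIntegral.integral_indicator ⟨ParHilbW15.wt_nonneg' 𝓔 j, ((𝓔.wt_strictMono.monotone (Fin.le_last j)).trans 𝓔.wt_lt_one.le)⟩,
    intervalIntegral.integral_const, smul_eq_mul, sub_zero]
  simp only [c, g, ParSh.Str.pieceX_castSucc]

end Combinatorics


section Derived

variable {E : X.Modules} (𝓔 : ParSh.Str E)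

theorem induced_at {W : X.Modules} (ι : W ⟶ E) (a : ℝ) :
    (𝓔.induced ι).at a = (Subobject.pullback ι).obj (𝓔.at a) := by
  obtain ⟨i, hi⟩ := exists_idx 𝓔 a
  rw [at_eq_pieceX 𝓔 hi, ← ParHilbW15.induced_pieceX]
  exact at_eq_pieceX (𝓔.induced ι) hi

theorem coinduced_at {V : X.Modules} (q : E ⟶ V) [Epi q] (a : ℝ) :
    (𝓔.coinduced q).at a = imageSubobject ((𝓔.at a).arrow ≫ q) := by
  obtain ⟨i, hi⟩ := exists_idx 𝓔 a
  rw [at_eq_pieceX 𝓔 hi]
  refine (at_eq_pieceX (𝓔.coinduced q) hi).trans ?_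
  induction i using Fin.lastCases with
  | last => rw [ParSh.Str.pieceX_last]; exact (𝓔.coinduced q).pieceX_last
  | cast j => rw [ParSh.Str.pieceX_castSucc]; exact (𝓔.coinduced q).pieceX_castSucc j

end Derived

open Groth.Agent.VB5 (grk gdeg)

/-- The parabolic degree when the bottom has the degree of a twist. -/
theorem parDeg_eq {r : ℕ} {E : X.Modules} (hE : FlatMod.IsFinLocFreeOfRank r E) (𝓔 : ParSh.Str E) {d : ℤ}
    (hbot : grk (𝓔.bot : X.Modules) = r ∧ gdeg k (𝓔.bot : X.Modules) = gdeg k E + r * d) :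
    𝓔.parDeg k X r = -((r : ℝ) * d) - (r : ℝ) * (Curv2.euler k X (Coh.structureModule X) : ℝ) +
      ∫ a in (0:ℝ)..1, (Curv2.euler k X (𝓔.at a : X.Modules) : ℝ) := by
  obtain ⟨h1, h2⟩ := parWt_eq 𝓔 (Curv2.euler k X)
  have hb : (Curv2.euler k X (𝓔.bot : X.Modules) : ℝ) = (Curv2.euler k X E : ℝ) + (r : ℝ) * d := by
    have hb' := hbot.2
    rw [gdeg, gdeg, hbot.1, VB5.grk_eq hE] at hb'
    exact_mod_cast (show Curv2.euler k X (𝓔.bot : X.Modules) = Curv2.euler k X E + r * d by linarith)
  have h3 : ∫ a in (0:ℝ)..1, ((Curv2.euler k X (𝓔.at a : X.Modules) : ℝ) - Curv2.euler k X (𝓔.bot : X.Modules)) =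
      (∫ a in (0:ℝ)..1, (Curv2.euler k X (𝓔.at a : X.Modules) : ℝ)) - Curv2.euler k X (𝓔.bot : X.Modules) := by
    have hi : IntervalIntegrable (fun a => (Curv2.euler k X (𝓔.at a : X.Modules) : ℝ)) MeasureTheory.volume 0 1 := by
      simpa using h2.add (intervalIntegrable_const (c := (Curv2.euler k X (𝓔.bot : X.Modules) : ℝ)))
    rw [intervalIntegral.integral_sub hi intervalIntegrable_const, intervalIntegral.integral_const]
    simp
  show (Curv2.deg k X E r : ℝ) + 𝓔.parWt k X = _
  rw [show 𝓔.parWt k X = _ from h1, h3, hb]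
  simp only [Curv2.deg]
  push_cast
  ring

/-- Comparison of parabolic degrees of bundles of equal rank. -/
theorem parDeg_le (hdim : topologicalKrullDim X = 1) {r : ℕ} {A B : X.Modules} (hA : FlatMod.IsFinLocFreeOfRank r A)
    (hB : FlatMod.IsFinLocFreeOfRank r B) (𝓐 : ParSh.Str A) (𝓑 : ParSh.Str B) {d : ℤ}
    (hAb : Coh.IsCoh (𝓐.bot : X.Modules) ∧ grk (𝓐.bot : X.Modules) = r ∧ gdeg k (𝓐.bot : X.Modules) = gdeg k A + r * d)
    (hBb : Coh.IsCoh (𝓑.bot : X.Modules) ∧ grk (𝓑.bot : X.Modules) = r ∧ gdeg k (𝓑.bot : X.Modules) = gdeg k B + r * d)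
    (hle : ∀ a, 0 ≤ a → a ≤ 1 → ∃ f : (𝓐.at a : X.Modules) ⟶ (𝓑.at a : X.Modules), Mono f) :
    𝓐.parDeg k X r ≤ 𝓑.parDeg k X r := by
  rw [parDeg_eq k hA 𝓐 hAb.2, parDeg_eq k hB 𝓑 hBb.2]
  have hi : ∀ {E : X.Modules} (𝓔 : ParSh.Str E),
      IntervalIntegrable (fun a => (Curv2.euler k X (𝓔.at a : X.Modules) : ℝ)) MeasureTheory.volume 0 1 := fun 𝓔 => by
    simpa using (parWt_eq 𝓔 (Curv2.euler k X)).2.add
      (intervalIntegrable_const (c := (Curv2.euler k X (𝓔.bot : X.Modules) : ℝ)))
  suffices h : ∀ a ∈ Set.Icc (0:ℝ) 1, (Curv2.euler k X (𝓐.at a : X.Modules) : ℝ) ≤ Curv2.euler k X (𝓑.at a : X.Modules) by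
    have := intervalIntegral.integral_mono_on zero_le_one (hi 𝓐) (hi 𝓑) h
    linarith
  intro a ha
  obtain ⟨f, hf⟩ := hle a ha.1 ha.2
  have key : ∀ {E : X.Modules} (𝓔 : ParSh.Str E), FlatMod.IsFinLocFreeOfRank r E → Coh.IsCoh (𝓔.bot : X.Modules) →
      grk (𝓔.bot : X.Modules) = r → Coh.IsCoh (𝓔.at a : X.Modules) ∧ grk (𝓔.at a : X.Modules) = r := by
    intro E 𝓔 hE hb hr
    have hEc := SplitP1.isCoh_of_rank hE
    have hc := isCoh_of_le k hdim hEc hb (hr.trans (VB5.grk_eq hE).symm) (𝓔.bot_le_at a)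
    refine ⟨hc, le_antisymm ((grk_le_of_mono (𝓔.at a).arrow hEc).trans_eq (VB5.grk_eq hE)) ?_⟩
    exact hr.ge.trans (grk_le_of_mono (Subobject.ofLE _ _ (𝓔.bot_le_at a)) hc)
  obtain ⟨hAc, hAr⟩ := key 𝓐 hA hAb.1 hAb.2.1
  obtain ⟨hBc, hBr⟩ := key 𝓑 hB hBb.1 hBb.2.1
  have h := (VB5.full_rank k hdim f hAc hBc (hAr.trans hBr.symm)).1
  rw [gdeg, gdeg, hAr, hBr] at h
  exact_mod_cast (show Curv2.euler k X (𝓐.at a : X.Modules) ≤ Curv2.euler k X (𝓑.at a : X.Modules) by linarith)

theorem image_epi_comp {A B C : X.Modules} (h : A ⟶ B) [Epi h] (f : B ⟶ C) :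
    imageSubobject (h ≫ f) = imageSubobject f := by
  refine le_antisymm (imageSubobject_comp_le h f) ?_
  have hz : f ≫ cokernel.π (imageSubobject (h ≫ f)).arrow = 0 := by
    rw [← cancel_epi h, Limits.comp_zero, ← Category.assoc]
    exact (congrArg (· ≫ cokernel.π (imageSubobject (h ≫ f)).arrow) (imageSubobject_arrow_comp (h ≫ f)).symm).trans
      ((Category.assoc _ _ _).trans ((congrArg (factorThruImageSubobject (h ≫ f) ≫ ·) (cokernel.condition _)).trans
        Limits.comp_zero))
  exact imageSubobject_le f (Abelian.monoLift _ f hz) (Abelian.monoLift_comp _ _ _)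

/-- The bottom of the induced structure on a quotient is the twist. -/
theorem coinduced_bot {E V : X.Modules} (q : E ⟶ V) [Epi q] (I : X.IdealSheafData) (𝓔 : ParSh.Str E)
    (h : 𝓔.Along I) : (𝓔.coinduced q).bot = ParSh.twistSub I V := by
  show imageSubobject (𝓔.bot.arrow ≫ q) = _
  rw [show 𝓔.bot = ParSh.twistSub I E from h]
  obtain ⟨_, _, he⟩ := ParGP23.right_exact (EulerLib.shortExact_kernel q) (ClSub.idealMod I)
  haveI : Epi (KoszTw.tensorMap q (𝟙 (ClSub.idealMod I))) := he
  show imageSubobject ((imageSubobject (ParSh.twistMap I E)).arrow ≫ q) = imageSubobject (ParSh.twistMap I V)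
  rw [← image_epi_comp (factorThruImageSubobject (ParSh.twistMap I E)), ← Category.assoc, imageSubobject_arrow_comp,
    ← twistMap_natural, image_epi_comp]

/-- The bottom of the induced structure on a saturated submodule is the twist. -/
theorem induced_bot {F V : X.Modules} (ι : V ⟶ F) [Mono ι] (I : X.IdealSheafData) (𝓕 : ParSh.Str F)
    (h : 𝓕.Along I) (hW : FlatMod.IsFinLocFree (cokernel ι)) : (𝓕.induced ι).bot = ParSh.twistSub I V := by
  show (Subobject.pullback ι).obj 𝓕.bot = _
  rw [show 𝓕.bot = ParSh.twistSub I F from h]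
  haveI := mono_twistMap I hW
  obtain ⟨hz, hex, -⟩ := ParGP23.right_exact (EulerLib.shortExact_cokernel ι) (ClSub.idealMod I)
  let T := ParSh.twistSub I F
  have sq := Subobject.isPullback ι T
  apply le_antisymm
  · have hzero : ((Subobject.pullback ι).obj T).arrow ≫ cokernel.π (ParSh.twistSub I V).arrow = 0 := by
      obtain ⟨A, e, he, x, hx⟩ := surjective_up_to_refinements_of_epi (factorThruImageSubobject (ParSh.twistMap I F))
        (Subobject.pullbackπ ι T)
      have hx' : x ≫ ParSh.twistMap I F = (e ≫ ((Subobject.pullback ι).obj T).arrow) ≫ ι :=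
        ((congrArg (x ≫ ·) (imageSubobject_arrow_comp (ParSh.twistMap I F))).symm.trans (Category.assoc _ _ _).symm).trans
          ((congrArg (fun z => z ≫ T.arrow) hx.symm).trans
            ((Category.assoc _ _ _).trans ((congrArg (e ≫ ·) sq.w).trans (Category.assoc _ _ _).symm)))
      have h0 : x ≫ KoszTw.tensorMap (cokernel.π ι) (𝟙 (ClSub.idealMod I)) = 0 := by
        rw [← cancel_mono (ParSh.twistMap I (cokernel ι)), Category.assoc, twistMap_natural, reassoc_of% hx']
        simp
      obtain ⟨A', e', he', y, hy⟩ := hex.exact_up_to_refinements x h0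
      have hkey : e' ≫ e ≫ ((Subobject.pullback ι).obj T).arrow = y ≫ ParSh.twistMap I V := by
        rw [← cancel_mono ι]
        simp only [Category.assoc]
        rw [← twistMap_natural, ← Category.assoc y,
          ← show e' ≫ x = y ≫ KoszTw.tensorMap ι (𝟙 (ClSub.idealMod I)) from hy, Category.assoc, hx', Category.assoc]
      rw [← cancel_epi e, ← cancel_epi e', Limits.comp_zero, Limits.comp_zero, ← Category.assoc e, ← Category.assoc e',
        hkey, Category.assoc]
      refine (congrArg (y ≫ ·) ?_).trans (Limits.comp_zero (f := y))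
      refine (congrArg (· ≫ _) (imageSubobject_arrow_comp (ParSh.twistMap I V)).symm).trans ?_
      exact (Category.assoc _ _ _).trans ((congrArg (factorThruImageSubobject (ParSh.twistMap I V) ≫ ·)
        (cokernel.condition _)).trans Limits.comp_zero)
    exact Subobject.le_of_comm (Abelian.monoLift _ _ hzero) (Abelian.monoLift_comp _ _ _)
  · refine imageSubobject_le (ParSh.twistMap I V)
      (sq.lift (KoszTw.tensorMap ι (𝟙 (ClSub.idealMod I)) ≫ factorThruImageSubobject (ParSh.twistMap I F))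
        (ParSh.twistMap I V) ?_) (sq.lift_snd _ _ _)
    rw [Category.assoc]
    exact (congrArg (KoszTw.tensorMap ι (𝟙 (ClSub.idealMod I)) ≫ ·) (imageSubobject_arrow_comp _)).trans
      (twistMap_natural I ι)

end Groth.Agent.EulerLib.ParCurve
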