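import Groth.Agent.EulerLib.PartsStab
import Groth.Agent.VarietyLib.CurveDegreeApps
import Groth.Agent.Coherent.RestrictTensorIso
import Groth.Agent.Coherent.CohBC.LocalModules
import Groth.Agent.CycLib28.PB.Ops.TensorFree
import Groth.Agent.KModel28.Basic
import Groth.Agent.PicLib.FiniteSetTriv
import Groth.Agent.AbCubeLib.FiniteDegree

/-!
# Euler characteristics of clopen parts of tensor products on a curve
-/

set_option autoImplicit false
set_option linter.style.haveILetI false
set_option linter.unusedSectionVars false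
set_option backward.isDefEq.respectTransparency.types false

universe u

open CategoryTheory CategoryTheory.Limits AlgebraicGeometry Opposite TopologicalSpace Polynomial StabCat
open Groth.Agent.Coherent Groth.Agent.PicLib Groth.Agent.AmpleLib

namespace Groth.Agent.EulerLib

variable {X : Scheme.{u}}

theorem isZero_tensorMod_left {M : X.Modules} (h : IsZero M) (N : X.Modules) :
    IsZero (CohB1.tensorMod M N) := by
  rw [IsZero.iff_id_eq_zero]
  refine AmpleLib.hom_ext fun W a b => ?_
  show AmpleLib.tmul a b = 0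
  rw [show a = 0 from congrArg (fun φ : M ⟶ M => φ.app W a) (h.eq_of_src (𝟙 M) 0), AmpleLib.tmul_zero_left]

theorem not_isZero_part {U : X.Opens} {M : X.Modules} {y : X} (hy : y ∈ U)
    (h : ¬ Subsingleton (M.presheaf.stalk y)) : ¬ IsZero (part U M) := by
  intro h0
  refine h (subsingleton_of_forall_eq 0 fun t => ?_)
  obtain ⟨V, hV, s, rfl⟩ := TopCat.Presheaf.exists_germ_eq M.presheaf t
  have e : resM M (U.ι.image_preimage_le V) s = 0 :=
    congrArg (fun φ : part U M ⟶ part U M => φ.app V (resM M (U.ι.image_preimage_le V) s)) (h0.eq_of_src (𝟙 _) 0)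
  have hyV : y ∈ U.ι ''ᵁ (U.ι ⁻¹ᵁ V) := (img_eq U V).ge ⟨hy, hV⟩
  rw [← TopCat.Presheaf.germ_res_apply M.presheaf (homOfLE (U.ι.image_preimage_le V)) y hyV s]
  exact (congrArg _ e).trans (map_zero _)

theorem isIso_partMap_partπ {U W : X.Opens} (h : U ≤ W) (M : X.Modules) : IsIso (partMap U (partπ W M)) := by
  rw [Scheme.Modules.Hom.isIso_iff_isIso_app]
  intro V
  rw [ConcreteCategory.isIso_iff_bijective]
  let O := U.ι ''ᵁ (U.ι ⁻¹ᵁ V)
  let O' := W.ι ''ᵁ (W.ι ⁻¹ᵁ O)
  have h1 : O' ≤ O := W.ι.image_preimage_le O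
  have h2 : O ≤ O' := by
    simp only [O', O, img_eq]
    exact le_inf (inf_le_left.trans h) le_rfl
  show Function.Bijective (resM M h1)
  exact ⟨fun a b hab => by simpa only [resM_resM, resM_self] using congrArg (resM M h2) hab,
    fun c => ⟨resM M h2 c, by rw [resM_resM, resM_self]⟩⟩

variable (k : Type u) [Field k] [X.Over (Spec (CommRingCat.of k))] [IsProper (X ↘ Spec (CommRingCat.of k))]

/-- A clopen part carries Euler characteristics of its scheme; on it, tensor products follow Riemann-Roch. -/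
theorem euler_parts_tensor (hdim : topologicalKrullDim ↥X ≤ 1) (U : X.Opens) (hU : IsClopen (U : Set X))
    (hUc : _root_.IsConnected (U : Set X)) {E F : X.Modules} (hE : FlatMod.IsFinLocFree E)
    (hF : FlatMod.IsFinLocFree F) :
    ∃ rE rF : ℕ, ∀ (L : X.Modules), PicF.IsInvertible L →
      let χ : ℤ := Curv2.euler k X (part U (Coh.structureModule X))
      let e : X.Modules → ℤ := fun M => Curv2.euler k X (part U M)
      (e (CohB1.tensorMod E F) = rF * e E + rE * e F - rE * rF * χ) ∧
      (e (CohB1.tensorMod E L) - e E = rE * (e L - χ)) ∧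
      (e (CohB1.tensorMod F L) - e F = rF * (e L - χ)) ∧
      (e (CohB1.tensorMod (CohB1.tensorMod E F) L) - e (CohB1.tensorMod E F) = rE * rF * (e L - χ)) := by
  haveI := isNoetherian_of_proper (X := X) k
  letI : U.toScheme.Over (Spec (CommRingCat.of k)) := ⟨U.ι ≫ (X ↘ Spec (CommRingCat.of k))⟩
  haveI : IsClosedImmersion U.ι := IsClosedImmersion.of_isPreimmersion U.ι
    (by rw [Scheme.Opens.range_ι]; exact hU.1)
  haveI : IsProper (U.toScheme ↘ Spec (CommRingCat.of k)) :=
    inferInstanceAs (IsProper (U.ι ≫ (X ↘ Spec (CommRingCat.of k))))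
  haveI : ConnectedSpace ↥U.toScheme := Subtype.connectedSpace hUc
  haveI := isNoetherian_of_proper (X := U.toScheme) k
  have hdU : topologicalKrullDim ↥U.toScheme ≤ 1 := (topologicalKrullDim_subspace_le X _).trans hdim
  have res : ∀ {M : X.Modules}, FlatMod.IsFinLocFree M → FlatMod.IsFinLocFree (M.restrict U.ι) := fun hM =>
    CohBC.isFinLocFree_restrict _ U fun y _ => hM y
  obtain ⟨rE, hrE⟩ := KModel28.exists_rank (res hE)
  obtain ⟨rF, hrF⟩ := KModel28.exists_rank (res hF)
  refine ⟨rE, rF, fun L hL => ?_⟩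
  have hrL : FlatMod.IsFinLocFreeOfRank 1 (L.restrict U.ι) := by
    have h1 : FlatMod.IsFinLocFreeOfRank 1 (L.restrict U.ι) :=
      isFinLocFreeOfRank_one (AmpleLib.glocus_isInvertible_of_iso
        ((Scheme.Modules.restrictFunctorIsoPullback U.ι).app L).symm (PicLoc.isInvertible_pullback U.ι hL))
    exact h1
  have hpush : ∀ {M : U.toScheme.Modules} {r : ℕ}, FlatMod.IsFinLocFreeOfRank r M →
      Curv2.euler k U.toScheme M = Curv2.euler k X ((Coh.push U.ι).obj M) := fun {M r} hM => by
    haveI := LocFreeLib.isQCoh_of_isFinLocFreeOfRank hM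
    haveI := isSeparated_of_proper (X := X) k
    exact AbCubeLib.euler_push k U.ι rfl M
  have hrEF : FlatMod.IsFinLocFreeOfRank (rE * rF) (CohB1.tensorMod (E.restrict U.ι) (F.restrict U.ι)) :=
    CycLib28.PB.Ops.isFinLocFreeOfRank_tensor hrE hrF
  have i1 : ∀ A B : X.Modules, part U (CohB1.tensorMod A B) ≅
      (Coh.push U.ι).obj (CohB1.tensorMod (A.restrict U.ι) (B.restrict U.ι)) :=
    fun A B => (Coh.push U.ι).mapIso (restrictTensorIso U.ι A B).symm
  have hO : Curv2.euler k U.toScheme (Coh.structureModule U.toScheme) =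
      Curv2.euler k X (part U (Coh.structureModule X)) := by
    rw [hpush (isFinLocFreeOfRank_one isInvertible_structureModule)]
    exact euler_congr k X ((Coh.push U.ι).mapIso (Scheme.Modules.restrictUnitIso U.ι).symm)
  intro χ e
  have eE : Curv2.euler k U.toScheme (E.restrict U.ι) = e E := hpush hrE
  have eF : Curv2.euler k U.toScheme (F.restrict U.ι) = e F := hpush hrF
  have eL : Curv2.euler k U.toScheme (L.restrict U.ι) = e L := hpush hrL
  have eEL : Curv2.euler k U.toScheme (CohB1.tensorMod (E.restrict U.ι) (L.restrict U.ι)) = e (CohB1.tensorMod E L) :=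
    (hpush (CycLib28.PB.Ops.isFinLocFreeOfRank_tensor hrE hrL)).trans (euler_congr k X (i1 E L)).symm
  have eFL : Curv2.euler k U.toScheme (CohB1.tensorMod (F.restrict U.ι) (L.restrict U.ι)) = e (CohB1.tensorMod F L) :=
    (hpush (CycLib28.PB.Ops.isFinLocFreeOfRank_tensor hrF hrL)).trans (euler_congr k X (i1 F L)).symm
  have eEF : Curv2.euler k U.toScheme (CohB1.tensorMod (E.restrict U.ι) (F.restrict U.ι)) = e (CohB1.tensorMod E F) :=
    (hpush hrEF).trans (euler_congr k X (i1 E F)).symm
  have hrEF' : FlatMod.IsFinLocFreeOfRank (rE * rF) ((CohB1.tensorMod E F).restrict U.ι) :=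
    fun y => by
      obtain ⟨V, hV, ⟨h⟩⟩ := hrEF y
      exact ⟨V, hV, ⟨(Scheme.Modules.restrictFunctor V.ι).mapIso (restrictTensorIso U.ι E F).symm ≪≫ h⟩⟩
  have eEFL : Curv2.euler k U.toScheme (CohB1.tensorMod ((CohB1.tensorMod E F).restrict U.ι) (L.restrict U.ι)) =
      e (CohB1.tensorMod (CohB1.tensorMod E F) L) :=
    (hpush (CycLib28.PB.Ops.isFinLocFreeOfRank_tensor hrEF' hrL)).trans (euler_congr k X (i1 _ L)).symm
  have eEF' : Curv2.euler k U.toScheme ((CohB1.tensorMod E F).restrict U.ι) = e (CohB1.tensorMod E F) := hpush hrEF'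
  have d1 := VarietyLib.deg_tensor_rank k hdU hrE hrF
  have d2 := VarietyLib.deg_tensor_rank k hdU hrE hrL
  have d3 := VarietyLib.deg_tensor_rank k hdU hrF hrL
  have d4 := VarietyLib.deg_tensor_rank k hdU hrEF' hrL
  simp only [Curv2.deg, eE, eF, eL, eEL, eFL, eEF, eEFL, eEF', hO, Nat.cast_mul, Nat.cast_one] at d1 d2 d3 d4
  refine ⟨?_, ?_, ?_, ?_⟩
  · linear_combination d1
  · linear_combination d2
  · linear_combination d3
  · linear_combination d4

/-- Euler characteristics after twisting a part. -/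
theorem euler_part_tensor {U W : X.Opens} (hd : Disjoint (U : Set X) W) (hc : U ⊔ W = ⊤) (E L : X.Modules) :
    Curv2.euler k X (CohB1.tensorMod (part U E) L) = Curv2.euler k X (part U (CohB1.tensorMod E L)) := by
  let M' := CohB1.tensorMod (part U E) L
  have hW : IsZero (part W M') := by
    have h1 : IsZero (part W (part U E)) := isZero_part_part hd.symm E
    have h2 : IsZero ((part U E).restrict W.ι) := by
      rw [IsZero.iff_id_eq_zero]
      exact (Scheme.Modules.pushforward W.ι).map_injective (h1.eq_of_src _ _)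
    exact IsZero.of_iso ((Scheme.Modules.pushforward W.ι).map_isZero (isZero_tensorMod_left h2 (L.restrict W.ι)))
      ((Scheme.Modules.pushforward W.ι).mapIso (restrictTensorIso W.ι (part U E) L).symm)
  have e1 : M' ≅ part U M' := partIso hd hc M' ≪≫ (isoBiprodZero hW).symm
  let e2 : (part U E).restrict U.ι ≅ E.restrict U.ι :=
    (asIso (Scheme.Modules.restrictAdjunction U.ι).counit).app (E.restrict U.ι)
  exact euler_congr k X (e1 ≪≫ (Scheme.Modules.pushforward U.ι).mapIso ((restrictTensorIso U.ι (part U E) L).symm ≪≫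
    AmpleLib.tensorIso e2 (Iso.refl _) ≪≫ restrictTensorIso U.ι E L))

/-- A property of Hilbert polynomials closed under sums holds for a module if it holds on every component. -/
theorem parts_induction [NoetherianSpace X] {L : X.Modules} (hL : CohB1.IsAmple L) (Φ : ℚ[X] → Prop) (h0 : Φ 0)
    (hadd : ∀ P Q, Φ P → Φ Q → Φ (P + Q)) {M : X.Modules} (hM : Coh.IsCoh M)
    (h : ∀ y : X, ∀ Q : ℚ[X], ShStab.IsHilbPoly k X L (part (compOpen y) M) Q → Φ Q) {P : ℚ[X]}
    (hP : ShStab.IsHilbPoly k X L M P) : Φ P := by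
  haveI := isNoetherian_of_proper (X := X) k
  suffices H : ∀ (n : ℕ) (M' : X.Modules), Coh.IsCoh M' →
      ∀ T : Finset (Set X), T.card ≤ n → (∀ y : X, ¬ IsZero (part (compOpen y) M') → connectedComponent y ∈ T) →
      (∀ y : X, ∀ Q : ℚ[X], ShStab.IsHilbPoly k X L (part (compOpen y) M') Q → Φ Q) →
      ∀ R : ℚ[X], ShStab.IsHilbPoly k X L M' R → Φ R by
    refine H _ M hM (Set.Finite.toFinset (s := Set.range fun y : X => connectedComponent y) ?_) le_rfl
      (fun y _ => (Set.Finite.mem_toFinset _).2 ⟨y, rfl⟩) h P hP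
    obtain ⟨t, ht⟩ := isCompact_univ.elim_finite_subcover (fun y : X => connectedComponent y)
      (fun y => (isClopen_connectedComponent_of_noetherian y).2) (fun y _ => Set.mem_iUnion.2 ⟨y, mem_connectedComponent⟩)
    refine (t.finite_toSet.image fun y : X => connectedComponent y).subset ?_
    rintro _ ⟨z, rfl⟩
    obtain ⟨y, hy, hz⟩ := Set.mem_iUnion₂.1 (ht (Set.mem_univ z))
    exact ⟨y, hy, connectedComponent_eq hz⟩
  intro n
  induction n with
  | zero =>
    intro M' _ T hT hmem _ R hR
    rw [hilb_zero k hL (isZero_of_parts M' fun y => not_not.1 fun hy =>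
      (Finset.card_pos.2 ⟨_, hmem y hy⟩).ne' (Nat.le_zero.1 hT)) hR]
    exact h0
  | succ n ih =>
    intro M' hM' T hT hmem hQ R hR
    by_cases hall : ∀ y, IsZero (part (compOpen y) M')
    · rw [hilb_zero k hL (isZero_of_parts M' hall) hR]
      exact h0
    obtain ⟨y, hy⟩ := not_forall.1 hall
    obtain ⟨W, hd, hc⟩ := compl_parts y
    have hU : Coh.IsCoh (part (compOpen y) M') := isCoh_part hd hc hM'
    have hW : Coh.IsCoh (part W M') := isCoh_part hd.symm (by rw [sup_comm, hc]) hM'
    rw [hilb_parts hd hc k hL hM' hR (isHilbPoly_hp k hL _ hU) (isHilbPoly_hp k hL _ hW)]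
    refine hadd _ _ (hQ y _ (isHilbPoly_hp k hL _ hU)) (ih (part W M') hW (T.erase (connectedComponent y))
      (by rw [Finset.card_erase_of_mem (hmem y hy)]; omega)
      (fun z hz => Finset.mem_erase.2 ⟨fun he => hz (isZero_part_part (by
        show Disjoint (connectedComponent z) (W : Set X)
        rw [he]; exact hd) M'), hmem z fun hzz => hz (isZero_part_of_le M' hzz)⟩)
      (fun z Q hz => ?_) _ (isHilbPoly_hp k hL _ hW))
    by_cases he : connectedComponent z = connectedComponent y
    · rw [hilb_zero k hL (isZero_part_part (show Disjoint (connectedComponent z) (W : Set X) by rw [he]; exact hd) M') hz]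
      exact h0
    · have hle : compOpen z ≤ W := fun w hw => by
        rcases (show w ∈ compOpen y ⊔ W from hc ▸ trivial) with hh | hh
        · exact absurd ((connectedComponent_eq hw).trans (connectedComponent_eq hh).symm) he
        · exact hh
      haveI := isIso_partMap_partπ hle M'
      exact hQ z Q (isHilbPoly_iso k (asIso (partMap (compOpen z) (partπ W M'))).symm hz)

end Groth.Agent.EulerLib
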