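import Groth.Agent.EulerLib.PartsEuler
import Groth.Agent.TFPush7.Stab
import Groth.Agent.CurveRR24.DegGroup
import Groth.Agent.CurveRR24.AlgClosed
import Groth.Agent.AbVarLib.GeomIntegralSmooth
import Groth.Agent.H0Growth23.Rank
import Groth.Agent.VarietyLib.SmoothStalk
import Groth.Agent.PicLib.PicGroup
import Groth.Agent.Coherent.FinMor

/-!
# Invertible modules on clopen components of a smooth curve
-/

set_option autoImplicit false
set_option linter.style.haveILetI false
set_option linter.unusedSectionVars false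
set_option backward.isDefEq.respectTransparency.types false
set_option maxHeartbeats 1000000

universe u

open CategoryTheory CategoryTheory.Limits AlgebraicGeometry Opposite TopologicalSpace Polynomial StabCat
open Groth.Agent.Coherent Groth.Agent.PicLib Groth.Agent.AmpleLib

namespace Groth.Agent.EulerLib

section Integral

variable {Z : Scheme.{u}} [IsIntegral Z]

/-- A submodule of an invertible module on an integral scheme is supported everywhere unless zero. -/
theorem genericPoint_mem_support_of_sub {N F : Z.Modules} (hN : PicF.IsInvertible N) (ι : F ⟶ N) [Mono ι]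
    (hF : ¬ IsZero F) : genericPoint ↥Z ∈ CohB1.support F := by
  by_contra hs
  refine hF (CurveRR24.isZero_of_sections fun V s => ?_)
  refine TopCat.Presheaf.section_ext (⟨F.presheaf, F.isSheaf⟩ : TopCat.Sheaf Ab Z) V s 0 fun z hz => ?_
  obtain ⟨W, hzW, g, hg⟩ := exists_isGen hN z
  let O := V ⊓ W
  have hη : genericPoint ↥Z ∈ O :=
    ((genericPoint_spec ↥Z).mem_open_set_iff O.2).2 ⟨z, trivial, hz, hzW⟩
  haveI : Subsingleton (F.presheaf.stalk (genericPoint ↥Z)) := not_not.1 hs
  obtain ⟨O', hηO', i, j, hij⟩ := F.presheaf.germ_eq (C := Ab) (genericPoint ↥Z) hη hη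
    (resM F inf_le_left s) (0 : Γ(F, O)) (Subsingleton.elim _ _)
  let c := hg.coef (inf_le_right : O ≤ W) (ι.app O (resM F inf_le_left s))
  have hc : res (leOfHom i) c = 0 := by
    rw [← hg.coef_res]
    refine hg.coef_eq _ ?_
    rw [zero_smul, ← app_resM]
    refine (Eq.trans ?_ (map_zero (ι.app O').hom)).symm
    exact congrArg (fun t => ι.app O' t) (hij.trans (map_zero (F.presheaf.map j.op).hom))
  have hc0 : c = 0 := by
    refine germ_injective_of_isIntegral Z (genericPoint ↥Z) hη ?_
    rw [map_zero, ← TopCat.Presheaf.germ_res_apply Z.presheaf i _ hηO' c]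
    exact (congrArg _ hc).trans (map_zero _)
  have h0 : resM F (inf_le_left : O ≤ V) s = 0 := by
    refine app_injective_of_mono ι O ?_
    rw [map_zero, ← hg.coef_spec (inf_le_right : O ≤ W) (ι.app O (resM F inf_le_left s))]
    show c • _ = 0
    rw [hc0, zero_smul]
  rw [← TopCat.Presheaf.germ_res_apply F.presheaf (homOfLE (inf_le_left : O ≤ V)) z ⟨hz, hzW⟩ s]
  exact (congrArg _ h0).trans ((map_zero _).trans (map_zero _).symm)

variable (k : Type u) [Field k] [Z.Over (Spec (CommRingCat.of k))] [IsProper (Z ↘ Spec (CommRingCat.of k))]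

/-- Submodules of an invertible module on an integral curve have full multiplicity. -/
theorem alpha_sub_line (hdim : topologicalKrullDim ↥Z = 1) {L : Z.Modules} (hL : CohB1.IsAmple L)
    {N F : Z.Modules} (hN : PicF.IsInvertible N) (ι : F ⟶ N) [Mono ι] (hF : Coh.IsCoh F) (hF0 : ¬ IsZero F)
    {P Q : ℚ[X]} (hP : ShStab.IsHilbPoly k Z L F P) (hQ : ShStab.IsHilbPoly k Z L N Q) :
    0 < alpha 1 P ∧ ∃ R : ℚ[X], Q = P + R ∧ alpha 1 R = 0 ∧ PolyLE 0 R := by
  haveI := isNoetherian_of_proper (X := Z) k
  have hNc : Coh.IsCoh N := CurveRR24.isCoh_of_isInvertible k hN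
  have hη := genericPoint_mem_support_of_sub hN ι hF0
  obtain ⟨R, hR, hsum⟩ := hilb_mono k hL ι hF hNc hP hQ
  have hQc : Coh.IsCoh (cokernel ι) := Coherent.isCoh_cokernel _ hF.1 hNc
  have huniv : topologicalKrullDim (CohB1.support F) = ((1 : ℕ) : WithBot ℕ∞) := by
    have hcl : IsClosed (CohB1.support F) := isClosed_support F (locallyFinGen_of_isFT F hF.2)
    have e : CohB1.support F = Set.univ := Set.univ_subset_iff.1 (by
      rw [← genericPoint_closure ↥Z]
      exact hcl.closure_subset_iff.2 (Set.singleton_subset_iff.2 hη))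
    rw [e, IsHomeomorph.topologicalKrullDim_eq _ (Homeomorph.Set.univ ↥Z).isHomeomorph, hdim]
    rfl
  refine ⟨alpha_pos k hL hF hP huniv, R, hsum, alpha_eq_zero_of_dim_lt k hL.1 hQc hR ?_, polyLE_zero k hL hQc hR⟩
  refine H0Growth23.dim_lt_of_notMem_generic k (n := 1) (by rw [hdim]; rfl) hQc ?_
  -- the stalk of an invertible module at the generic point has length one
  intro hmem
  have hd : topologicalKrullDim (closure ({genericPoint ↥Z} : Set ↥Z)) = ((1 : ℕ) : WithBot ℕ∞) := by
    rw [genericPoint_closure, IsHomeomorph.topologicalKrullDim_eq _ (Homeomorph.Set.univ ↥Z).isHomeomorph, hdim]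
    rfl
  have hdle : topologicalKrullDim (Set.univ : Set ↥Z) ≤ ((1 : ℕ) : WithBot ℕ∞) := by
    rw [IsHomeomorph.topologicalKrullDim_eq _ (Homeomorph.Set.univ ↥Z).isHomeomorph, hdim]
    rfl
  have hadd := VarietyLib.mult_add (shortExact_cokernel ι) hNc isClosed_univ (Set.subset_univ _) hdle hd
  have hpos : ∀ {M : Z.Modules}, Coh.IsCoh M → genericPoint ↥Z ∈ CohB1.support M →
      0 < VarietyLib.mult M (genericPoint ↥Z) := fun {M} hM hmem => by
    refine Nat.pos_of_ne_zero fun h0 => hmem ?_
    have hne := VarietyLib.length_ne_top_of_dim hM isClosed_univ (Set.subset_univ _) hdle hd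
    have hl := (ENat.toNat_eq_zero.1 h0).resolve_right hne
    exact Module.length_eq_zero_iff.1 hl
  have h1 : VarietyLib.mult N (genericPoint ↥Z) = 1 := by
    rw [VarietyLib.mult_of_rank (isFinLocFreeOfRank_one hN)]
    rw [one_mul, VarietyLib.mult]
    letI : Field (Z.presheaf.stalk (genericPoint ↥Z)) := inferInstanceAs (Field Z.functionField)
    haveI := AssSch12.finite_stalk (Coherent.isCoh_structureModule Z) (genericPoint ↥Z)
    rw [Module.length_eq_finrank]
    exact AbCubeLib.genRank_structureModule (X := Z)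
  have ha := hpos hF hη
  have hb := hpos hQc hmem
  change VarietyLib.mult N (genericPoint ↥Z) = VarietyLib.mult F (genericPoint ↥Z) +
    VarietyLib.mult (cokernel ι) (genericPoint ↥Z) at hadd
  omega

end Integral

section Smooth

variable {X : Scheme.{u}} (k : Type u) [Field k] [X.Over (Spec (CommRingCat.of k))]
  [IsProper (X ↘ Spec (CommRingCat.of k))] [Smooth (X ↘ Spec (CommRingCat.of k))]
  (hdim : topologicalKrullDim ↥X ≤ 1) (hpure : ∀ y : X, ¬ IsOpen ({y} : Set X))
  (U : X.Opens) (hU : IsClopen (U : Set X)) (hUc : _root_.IsConnected (U : Set X))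

include k hdim hpure hU hUc in
/-- A component of a smooth curve is an integral curve. -/
theorem comp_curve : AlgebraicGeometry.IsIntegral U.toScheme ∧ topologicalKrullDim ↥U.toScheme = 1 := by
  haveI := isNoetherian_of_proper (X := X) k
  haveI : ConnectedSpace ↥U.toScheme := Subtype.connectedSpace hUc
  haveI : IsClosedImmersion U.ι := IsClosedImmersion.of_isPreimmersion U.ι
    (by rw [Scheme.Opens.range_ι]; exact hU.1)
  haveI hint : AlgebraicGeometry.IsIntegral U.toScheme :=
    AbVarLib.isIntegral_of_smooth_connected (U.ι ≫ (X ↘ Spec (CommRingCat.of k)))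
  have hle : topologicalKrullDim ↥U.toScheme ≤ 1 := (topologicalKrullDim_subspace_le X _).trans hdim
  refine ⟨hint, le_antisymm hle ?_⟩
  by_contra hlt
  haveI : CompactSpace ↥U.toScheme := isCompact_iff_compactSpace.1 (NoetherianSpace.isCompact _)
  obtain ⟨P, -, hP⟩ := (isClosed_univ : IsClosed (Set.univ : Set ↥U.toScheme)).exists_closed_singleton
    Set.univ_nonempty
  have hle0 : topologicalKrullDim ↥U.toScheme ≤ ((0 : ℕ) : WithBot ℕ∞) := by
    by_contra h0
    refine hlt ?_
    rcases hd : topologicalKrullDim ↥U.toScheme with _ | _ | n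
    · exact absurd (hd ▸ bot_le) h0
    · exact le_top
    · rcases n with _ | n
      · exact absurd (hd ▸ le_rfl) h0
      · exact le_trans (by simp) (WithBot.coe_le_coe.2
          (show ((1:ℕ):ℕ∞) ≤ ((n+1 : ℕ) : ℕ∞) from Nat.cast_le.2 (Nat.le_add_left 1 n)))
  by_cases hη : genericPoint ↥U.toScheme = P
  · refine hpure (U.ι P) ?_
    have huniv : ({P} : Set ↥U.toScheme) = Set.univ := by
      rw [← genericPoint_closure ↥U.toScheme, hη, hP.closure_eq]
    have : ({U.ι P} : Set X) = (U : Set X) := by
      rw [← Scheme.Opens.range_ι U, ← Set.image_univ, ← huniv, Set.image_singleton]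
    rw [this]
    exact U.2
  · have h := dim_lt_of_notMem hP (Set.subset_univ _) isClosed_univ (genericPoint_spec ↥U.toScheme) hη
      ((topologicalKrullDim_subspace_le _ _).trans hle0)
    exact absurd h (not_lt.2 (by
      rw [Nat.cast_zero]
      haveI : Nonempty (IrreducibleCloseds ↥({P} : Set ↥U.toScheme)) :=
        ⟨⟨closure {⟨P, rfl⟩}, isIrreducible_singleton.closure, isClosed_closure⟩⟩
      exact Order.krullDim_nonneg))

include k hdim hpure hU hUc in
/-- The part of an invertible module on a component is semistable. -/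
theorem semistable_part_line {L : X.Modules} (hL : CohB1.IsAmple L) {N : X.Modules} (hN : PicF.IsInvertible N) :
    ShStab.IsSemistable k X L (part U N) 1 := by
  haveI := isNoetherian_of_proper (X := X) k
  obtain ⟨hint, hd1⟩ := comp_curve k hdim hpure U hU hUc
  haveI := hint
  letI : U.toScheme.Over (Spec (CommRingCat.of k)) := ⟨U.ι ≫ (X ↘ Spec (CommRingCat.of k))⟩
  haveI : IsClosedImmersion U.ι := IsClosedImmersion.of_isPreimmersion U.ι
    (by rw [Scheme.Opens.range_ι]; exact hU.1)
  haveI : IsProper (U.toScheme ↘ Spec (CommRingCat.of k)) :=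
    inferInstanceAs (IsProper (U.ι ≫ (X ↘ Spec (CommRingCat.of k))))
  haveI := isNoetherian_of_proper (X := U.toScheme) k
  let W : X.Opens := ⟨(U : Set X)ᶜ, hU.1.isOpen_compl⟩
  have hd : Disjoint (U : Set X) W := disjoint_compl_right
  have hc : U ⊔ W = ⊤ := Opens.ext (Set.union_compl_self _)
  have hNc : Coh.IsCoh N := CurveRR24.isCoh_of_isInvertible k hN
  have hMc : Coh.IsCoh (part U N) := isCoh_part hd hc hNc
  have hN' : PicF.IsInvertible (N.restrict U.ι) := AmpleLib.glocus_isInvertible_of_iso
    ((Scheme.Modules.restrictFunctorIsoPullback U.ι).app N).symm (PicLoc.isInvertible_pullback U.ι hN)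
  have hLU := isAmple_pullback_of_isAffineHom U.ι hL
  obtain ⟨Q₀, hQX, hQU⟩ := TFPush7.exists_hp_push U.ι k rfl hL (CurveRR24.isCoh_of_isInvertible k hN')
  -- submodules come from the component
  have key : ∀ (F : X.Modules) (ι : F ⟶ part U N), Mono ι → Coh.IsCoh F → ¬ IsZero F →
      ∀ P : ℚ[X], ShStab.IsHilbPoly k X L F P →
        0 < alpha 1 P ∧ ∃ R : ℚ[X], Q₀ = P + R ∧ alpha 1 R = 0 ∧ PolyLE 0 R := by
    intro F ι hι hF hF0 P hP
    haveI := hι
    have hWz : IsZero (part W F) := by
      haveI := mono_partMap W ι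
      exact IsZero.of_mono (partMap W ι) (isZero_part_part hd.symm N)
    let e : F ≅ part U F := partIso hd hc F ≪≫ (isoBiprodZero hWz).symm
    let ι' : F.restrict U.ι ⟶ N.restrict U.ι := (Scheme.Modules.restrictFunctor U.ι).map ι ≫
      (Scheme.Modules.restrictAdjunction U.ι).counit.app (N.restrict U.ι)
    haveI : Mono ((Scheme.Modules.restrictFunctor U.ι).map ι) :=
      MeroLib.mono_of_app_injective _ fun V => app_injective_of_mono ι (U.ι ''ᵁ V)
    haveI : Mono ι' := mono_comp _ _
    have hF' : Coh.IsCoh (F.restrict U.ι) := isCoh_restrict U hF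
    have hP' : ShStab.IsHilbPoly k U.toScheme ((Scheme.Modules.pullback U.ι).obj L) (F.restrict U.ι) P :=
      (TFPush7.isHilbPoly_push_iff U.ι k rfl hL.1 hF'.1 P).1 (isHilbPoly_iso k e hP)
    exact alpha_sub_line k hd1 hLU hN' ι' hF'
      (fun hz => hF0 (IsZero.of_iso ((Coh.push U.ι).map_isZero hz) e)) hP' hQU
  have hM0 : ¬ IsZero (part U N) := by
    obtain ⟨x, hx⟩ := hUc.nonempty
    refine not_isZero_part hx fun hsub => ?_
    obtain ⟨V, hxV, g, hg⟩ := exists_isGen hN x
    haveI := hsub
    obtain ⟨O, hxO, i, j, hij⟩ := N.presheaf.germ_eq (C := Ab) x hxV hxV g (0 : Γ(N, V)) (Subsingleton.elim _ _)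
    have h0 : resM N (leOfHom i) g = 0 := hij.trans (map_zero (N.presheaf.map j.op).hom)
    have h1 := (hg O (leOfHom i)).1 (a₁ := (1 : Γ(X, O))) (a₂ := (0 : Γ(X, O))) (by simp only [h0, smul_zero])
    haveI : Nonempty O := ⟨⟨x, hxO⟩⟩
    exact one_ne_zero h1
  have hp : ShStab.IsPure X (part U N) 1 := by
    intro F ι hι hF hF0
    obtain ⟨hpos, -⟩ := key F ι hι hF hF0 _ (isHilbPoly_hp k hL F hF)
    rcases (TFPush7.dim_subset_le hdim (CohB1.support F)).lt_or_eq with h2 | h2
    · rw [alpha_eq_zero_of_dim_lt k hL.1 hF (isHilbPoly_hp k hL F hF) h2] at hpos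
      exact absurd hpos (lt_irrefl _)
    · exact h2
  refine ⟨hMc, hM0, hp, fun F ι hι hF hF0 _ P Q hP hQ => ?_⟩
  obtain ⟨hpos, R, hsum, hR0, hR⟩ := key F ι hι hF hF0 P hP
  obtain rfl : Q = Q₀ := isHilbPoly_unique k hQ hQX
  show PolyLE (alpha 1 Q • P) (alpha 1 P • Q)
  rw [hsum, alpha_add, hR0, add_zero, polyLE_smul hpos]
  have := (polyLE_add_right (R := P)).2 hR
  rwa [zero_add, add_comm R] at this

include hU in
theorem euler_part_ptIdeal [IsAlgClosed k] {P : X} (hP : IsClosed ({P} : Set X)) :
    (P ∈ U → Curv2.euler k X (part U (ClSub.idealMod (CurveRR24.ptIdeal P hP))) =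
      Curv2.euler k X (part U (Coh.structureModule X)) - 1) ∧
    (P ∉ U → Curv2.euler k X (part U (ClSub.idealMod (CurveRR24.ptIdeal P hP))) =
      Curv2.euler k X (part U (Coh.structureModule X))) := by
  haveI := isNoetherian_of_proper (X := X) k
  let I := ClSub.idealMod (CurveRR24.ptIdeal P hP)
  have hoff : ∀ V : X.Opens, P ∉ V →
      Curv2.euler k X (part V I) = Curv2.euler k X (part V (Coh.structureModule X)) := by
    intro V hPV
    haveI := AmpleLib.mono_idealModι (CurveRR24.ptIdeal P hP)
    haveI : IsIso (partMap V (ClSub.idealModι (CurveRR24.ptIdeal P hP))) := by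
      rw [Scheme.Modules.Hom.isIso_iff_isIso_app]
      intro T
      rw [ConcreteCategory.isIso_iff_bijective]
      refine ⟨app_injective_of_mono (ClSub.idealModι (CurveRR24.ptIdeal P hP)) _, fun x => ?_⟩
      obtain ⟨g, hg⟩ := exists_idealModι_eq_one (CurveRR24.ptIdeal P hP)
      let O : X.Opens := V.ι ''ᵁ (V.ι ⁻¹ᵁ T)
      have hO : O ≤ ⟨((CurveRR24.ptIdeal P hP).support : Set X)ᶜ, (CurveRR24.ptIdeal P hP).support.2.isOpen_compl⟩ :=
        fun z hz hzs => by
          have hzP : z = P := by
            have : z ∈ ((CurveRR24.ptIdeal P hP).support : Set X) := hzs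
            rwa [CurveRR24.support_ptIdeal hP] at this
          exact hPV (hzP ▸ ((img_eq V T).le hz).1)
      refine ⟨(show Γ(X, O) from x) • resM _ hO g, ?_⟩
      show (ClSub.idealModι (CurveRR24.ptIdeal P hP)).app O _ = _
      rw [Scheme.Modules.Hom.app_smul]
      have h1 : (ClSub.idealModι (CurveRR24.ptIdeal P hP)).app O (resM _ hO g) = (1 : Γ(X, O)) := by
        rw [app_resM]
        exact (congrArg (resM (Coh.structureModule X) hO) hg).trans (map_one (res hO))
      rw [h1]
      exact mul_one (show Γ(X, O) from x)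
    exact euler_congr k X (asIso (partMap V (ClSub.idealModι (CurveRR24.ptIdeal P hP))))
  refine ⟨fun hPU => ?_, hoff U⟩
  let W : X.Opens := ⟨(U : Set X)ᶜ, hU.1.isOpen_compl⟩
  have hd : Disjoint (U : Set X) W := disjoint_compl_right
  have hc : U ⊔ W = ⊤ := Opens.ext (Set.union_compl_self _)
  have hsum : ∀ A B : X.Modules, Coh.IsCoh A → Coh.IsCoh B →
      Curv2.euler k X (A ⊞ B) = Curv2.euler k X A + Curv2.euler k X B := fun A B hA hB =>
    euler_additive k X (ShortComplex.mk (biprod.inl : A ⟶ A ⊞ B) biprod.snd biprod.inl_snd)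
      (ShortComplex.Splitting.ofHasBinaryBiproduct A B).shortExact hA
      (isCoh_X₂ (ShortComplex.Splitting.ofHasBinaryBiproduct A B).shortExact hA hB) hB
  have hsplit : ∀ M : X.Modules, Coh.IsCoh M → Curv2.euler k X M =
      Curv2.euler k X (part U M) + Curv2.euler k X (part W M) := fun M hM => by
    rw [euler_congr k X (partIso hd hc M)]
    exact hsum _ _ (isCoh_part hd hc hM) (isCoh_part hd.symm (by rw [sup_comm, hc]) hM)
  have hI : Coh.IsCoh I := CurveRR24.isCoh_idealMod' _
  have h0 := CurveRR24.deg_ptIdeal k hP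
  rw [CurveRR24.finrank_resField k hP] at h0
  unfold Curv2.deg at h0
  rw [Nat.cast_one, one_mul] at h0
  rw [hsplit _ hI, hsplit _ (isCoh_structureModule X), hoff W (fun h => h hPU)] at h0
  linarith

include k hdim hpure hU hUc in
theorem isInvertible_ptIdeal_comp [IsAlgClosed k] {P : X} (hP : IsClosed ({P} : Set X)) (hPU : P ∈ U) :
    PicF.IsInvertible (ClSub.idealMod (CurveRR24.ptIdeal P hP)) := by
  obtain ⟨hint, hd1⟩ := comp_curve k hdim hpure U hU hUc
  haveI := hint
  haveI : IsClosedImmersion U.ι := IsClosedImmersion.of_isPreimmersion U.ι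
    (by rw [Scheme.Opens.range_ι]; exact hU.1)
  let P' : U.toScheme := ⟨P, hPU⟩
  have hP' : IsClosed ({P'} : Set ↥U.toScheme) := by
    have := hP.preimage U.ι.continuous
    convert this using 1
    ext z
    exact ⟨fun hz => by rw [hz]; rfl, fun hz => Subtype.ext hz⟩
  refine CurveRR24.isInvertible_ptIdeal_of_regular k hP
    (VarietyLib.isRegularLocalRing_stalk_of_smooth k X (X ↘ Spec (CommRingCat.of k)) P) ?_
  rw [← CurveRR24.stalk_dim_eq_one hd1 hP']
  exact ringKrullDim_eq_of_ringEquiv (asIso (U.ι.stalkMap P')).commRingCatIsoToRingEquiv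

include k hdim hpure in
/-- There is an invertible module with vanishing Euler characteristic on every component. -/
theorem exists_line_euler_zero [IsAlgClosed k] [NoetherianSpace X] :
    ∃ N : X.Modules, PicF.IsInvertible N ∧ ∀ y : X, Curv2.euler k X (part (compOpen y) N) = 0 := by
  haveI := isNoetherian_of_proper (X := X) k
  -- degree of a tensor product on a component
  have hmul : ∀ (y : X) {A B : X.Modules}, PicF.IsInvertible A → PicF.IsInvertible B →
      Curv2.euler k X (part (compOpen y) (CohB1.tensorMod A B)) = Curv2.euler k X (part (compOpen y) A) +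
        Curv2.euler k X (part (compOpen y) B) - Curv2.euler k X (part (compOpen y) (Coh.structureModule X)) := by
    intro y A B hA hB
    let V := compOpen y
    have hV := isClopen_connectedComponent_of_noetherian y
    letI : V.toScheme.Over (Spec (CommRingCat.of k)) := ⟨V.ι ≫ (X ↘ Spec (CommRingCat.of k))⟩
    haveI : IsClosedImmersion V.ι := IsClosedImmersion.of_isPreimmersion V.ι
      (by rw [Scheme.Opens.range_ι]; exact hV.1)
    haveI : IsProper (V.toScheme ↘ Spec (CommRingCat.of k)) :=
      inferInstanceAs (IsProper (V.ι ≫ (X ↘ Spec (CommRingCat.of k))))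
    have hdV : topologicalKrullDim ↥V.toScheme ≤ 1 := (topologicalKrullDim_subspace_le X _).trans hdim
    have res : ∀ {M : X.Modules}, PicF.IsInvertible M → PicF.IsInvertible (M.restrict V.ι) := fun {M} hM =>
      AmpleLib.glocus_isInvertible_of_iso ((Scheme.Modules.restrictFunctorIsoPullback V.ι).app M).symm
        (PicLoc.isInvertible_pullback V.ι hM)
    haveI := isSeparated_of_proper (X := X) k
    have hpush : ∀ {M : V.toScheme.Modules}, PicF.IsInvertible M →
        Curv2.euler k V.toScheme M = Curv2.euler k X ((Coh.push V.ι).obj M) := fun {M} hM => by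
      haveI := (CurveRR24.isCoh_of_isInvertible k hM).1
      exact AbCubeLib.euler_push k V.ι rfl M
    have h := CurveRR24.deg_tensor k hdV (res hA) (res hB)
    have hO : Curv2.euler k V.toScheme (Coh.structureModule V.toScheme) =
        Curv2.euler k X (part V (Coh.structureModule X)) :=
      (hpush isInvertible_structureModule).trans
        (euler_congr k X ((Coh.push V.ι).mapIso (Scheme.Modules.restrictUnitIso V.ι).symm))
    have hAB : Curv2.euler k V.toScheme (CohB1.tensorMod (A.restrict V.ι) (B.restrict V.ι)) =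
        Curv2.euler k X (part V (CohB1.tensorMod A B)) :=
      (hpush (isInvertible_tensorMod (res hA) (res hB))).trans
        (euler_congr k X ((Coh.push V.ι).mapIso (restrictTensorIso V.ι A B)))
    simp only [Curv2.deg, Nat.cast_one, one_mul, hO, hAB, hpush (res hA), hpush (res hB)] at h
    linarith
  -- shifting the degree on one component
  have hstep : ∀ (y : X) (n : ℤ), ∃ (M : X.Modules), PicF.IsInvertible M ∧
      Curv2.euler k X (part (compOpen y) M) = Curv2.euler k X (part (compOpen y) (Coh.structureModule X)) + n ∧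
      ∀ z : X, connectedComponent z ≠ connectedComponent y →
        Curv2.euler k X (part (compOpen z) M) = Curv2.euler k X (part (compOpen z) (Coh.structureModule X)) := by
    intro y
    have hy := isClopen_connectedComponent_of_noetherian y
    obtain ⟨P, hPU, hP⟩ := hy.1.exists_closed_singleton ⟨y, mem_connectedComponent⟩
    have hI := isInvertible_ptIdeal_comp k hdim hpure (compOpen y) hy isConnected_connectedComponent hP hPU
    obtain ⟨b, hb⟩ := PicM.exists_mul_eq_one (PicM.of hI)
    obtain ⟨J, hJ, rfl⟩ := PicM.exists_eq_of b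
    rw [PicM.of_mul, PicM.of_eq_one_iff] at hb
    obtain ⟨eJ⟩ := hb
    have hIy := (euler_part_ptIdeal k (compOpen y) hy hP).1 hPU
    have hIz : ∀ z : X, connectedComponent z ≠ connectedComponent y → _ := fun z hz =>
      (euler_part_ptIdeal k (compOpen z) (isClopen_connectedComponent_of_noetherian z) hP).2
        (fun h => hz ((connectedComponent_eq h).trans (connectedComponent_eq hPU).symm))
    have hJe : ∀ z : X, Curv2.euler k X (part (compOpen z) J) =
        2 * Curv2.euler k X (part (compOpen z) (Coh.structureModule X)) -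
          Curv2.euler k X (part (compOpen z) (ClSub.idealMod (CurveRR24.ptIdeal P hP))) := fun z => by
      have h1 := hmul z hI hJ
      have h2 := euler_congr k X ((Scheme.Modules.pushforward (compOpen z).ι).mapIso
        ((Scheme.Modules.restrictFunctor (compOpen z).ι).mapIso eJ))
      rw [h2] at h1
      linarith
    intro n
    induction n with
    | zero => exact ⟨Coh.structureModule X, isInvertible_structureModule, by simp, fun _ _ => rfl⟩
    | succ m ih =>
      obtain ⟨M, hM, e1, e2⟩ := ih
      refine ⟨CohB1.tensorMod M J, isInvertible_tensorMod hM hJ, ?_, fun z hz => ?_⟩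
      · rw [hmul y hM hJ, e1, hJe, hIy]; ring
      · rw [hmul z hM hJ, e2 z hz, hJe, hIz z hz]; ring
    | pred m ih =>
      obtain ⟨M, hM, e1, e2⟩ := ih
      refine ⟨CohB1.tensorMod M (ClSub.idealMod (CurveRR24.ptIdeal P hP)), isInvertible_tensorMod hM hI, ?_,
        fun z hz => ?_⟩
      · rw [hmul y hM hI, e1, hIy]; ring
      · rw [hmul z hM hI, e2 z hz, hIz z hz]; ring
  have H : ∀ T : Finset X, ∃ N : X.Modules, PicF.IsInvertible N ∧ ∀ y ∈ T,
      Curv2.euler k X (part (compOpen y) N) = 0 := by
    intro T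
    classical
    induction T using Finset.induction with
    | empty => exact ⟨_, isInvertible_structureModule, fun y hy => absurd hy (Finset.notMem_empty y)⟩
    | @insert a T _ ih =>
      obtain ⟨N, hN, hNT⟩ := ih
      obtain ⟨M, hM, e1, e2⟩ := hstep a (-(Curv2.euler k X (part (compOpen a) N)))
      refine ⟨CohB1.tensorMod N M, isInvertible_tensorMod hN hM, fun y hy => ?_⟩
      by_cases hya : connectedComponent y = connectedComponent a
      · have : compOpen y = compOpen a := Opens.ext hya
        rw [this, hmul a hN hM, e1]; ring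
      · rw [hmul y hN hM, e2 y hya, hNT y ((Finset.mem_insert.1 hy).resolve_left (fun h => hya (h ▸ rfl)))]
        ring
  obtain ⟨t, ht⟩ := isCompact_univ.elim_finite_subcover (fun y : X => connectedComponent y)
    (fun y => (isClopen_connectedComponent_of_noetherian y).2) (fun y _ => Set.mem_iUnion.2 ⟨y, mem_connectedComponent⟩)
  obtain ⟨N, hN, hNt⟩ := H t
  refine ⟨N, hN, fun z => ?_⟩
  obtain ⟨y, hy, hz⟩ := Set.mem_iUnion₂.1 (ht (Set.mem_univ z))
  rw [show compOpen z = compOpen y from Opens.ext (connectedComponent_eq hz).symm]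
  exact hNt y hy

end Smooth

end Groth.Agent.EulerLib
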