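import Groth.Agent.EulerLib.ClopenParts
import Groth.Agent.AmpleLib.Tensor

/-!
# Semistability and clopen parts
-/

set_option autoImplicit false
set_option linter.style.haveILetI false
set_option linter.unusedSectionVars false
set_option backward.isDefEq.respectTransparency.types false

universe u

open CategoryTheory CategoryTheory.Limits AlgebraicGeometry Opposite TopologicalSpace Polynomial StabCat
open Groth.Agent.Coherent

namespace Groth.Agent.EulerLib

theorem alpha_one_of_natDegree_le {P : ℚ[X]} (h : P.natDegree ≤ 1) :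
    alpha 1 P = P.eval 1 - P.eval 0 ∧ P = C (P.eval 0) + C (alpha 1 P) * Polynomial.X := by
  have e : P = C (P.coeff 0) + C (P.coeff 1) * Polynomial.X := by
    conv_lhs => rw [eq_X_add_C_of_natDegree_le_one h]
    ring
  have a : alpha 1 P = P.coeff 1 := by simp [alpha]
  have h0 : P.eval 0 = P.coeff 0 := (coeff_zero_eq_eval_zero P).symm
  have h1 : P.eval 1 = P.coeff 0 + P.coeff 1 := by
    conv_lhs => rw [e]
    simp
  refine ⟨by rw [a, h1, h0]; ring, ?_⟩
  rw [h0, a]
  exact e

/-- Reduced equality in dimension one is a cross ratio. -/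
theorem redEq_one_iff {P Q : ℚ[X]} (hP : P.natDegree ≤ 1) (hQ : Q.natDegree ≤ 1) :
    RedEq 1 P Q ↔ P.eval 0 * (Q.eval 1 - Q.eval 0) = Q.eval 0 * (P.eval 1 - P.eval 0) := by
  obtain ⟨aP, eP⟩ := alpha_one_of_natDegree_le hP
  obtain ⟨aQ, eQ⟩ := alpha_one_of_natDegree_le hQ
  rw [← aP, ← aQ]
  constructor
  · intro h
    have := congrArg (Polynomial.eval (0 : ℚ)) h
    simp only [eval_smul, smul_eq_mul] at this
    linarith
  · intro h
    show alpha 1 Q • P = alpha 1 P • Q
    generalize alpha 1 P = a at eP h ⊢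
    generalize alpha 1 Q = b at eQ h ⊢
    generalize P.eval 0 = c at eP h
    generalize Q.eval 0 = d at eQ h
    rw [eP, eQ]
    ext n
    rcases n with _ | _ | n <;> simp [coeff_X, coeff_C] <;> linarith

variable {X : Scheme.{u}} (k : Type u) [Field k] [X.Over (Spec (CommRingCat.of k))]

theorem eval_zero_one {L E : X.Modules} {P : ℚ[X]} (hP : ShStab.IsHilbPoly k X L E P) :
    P.eval 0 = (Curv2.euler k X E : ℚ) ∧ P.eval 1 = (Curv2.euler k X (CohB1.tensorMod E L) : ℚ) := by
  have h0 := hP 0
  have h1 := hP 1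
  have e0 : ShStab.twist X L E 0 ≅ E := AmpleLib.tensorComm E (Coh.structureModule X) ≪≫ AmpleLib.unitTensorIso E
  have e1 : ShStab.twist X L E 1 ≅ CohB1.tensorMod E L :=
    AmpleLib.tensorIso (Iso.refl E) (AmpleLib.unitTensorIso L)
  rw [euler_congr k X e0] at h0
  rw [euler_congr k X e1] at h1
  exact ⟨by simpa using h0.symm, by simpa using h1.symm⟩

variable [IsProper (X ↘ Spec (CommRingCat.of k))] {L : X.Modules} (hL : CohB1.IsAmple L)

include hL in
/-- A part of a semistable module has the same reduced polynomial and is semistable. -/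
theorem semistable_part {E : X.Modules} (hE : ShStab.IsSemistable k X L E 1) {U W : X.Opens}
    (hd : Disjoint (U : Set X) W) (hc : U ⊔ W = ⊤) (h0 : ¬ IsZero (part U E)) :
    ShStab.IsSemistable k X L (part U E) 1 ∧
      ∀ {P Q : ℚ[X]}, ShStab.IsHilbPoly k X L E P → ShStab.IsHilbPoly k X L (part U E) Q → RedEq 1 Q P := by
  haveI := isNoetherian_of_proper (X := X) k
  obtain ⟨hEc, hE0, hpure, hss⟩ := hE
  have hU : Coh.IsCoh (part U E) := isCoh_part hd hc hEc
  haveI := epi_partπ hd hc E
  have hred : ∀ {P Q : ℚ[X]}, ShStab.IsHilbPoly k X L E P → ShStab.IsHilbPoly k X L (part U E) Q →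
      RedEq 1 Q P := by
    intro P Q hP hQ
    refine redLE_antisymm ?_ (redLE_quotient k hL ⟨hEc, hE0, hpure, hss⟩ (partπ U E) hU h0 hP hQ)
    by_cases hiso : IsIso (partIncl hd hc E)
    · rw [isHilbPoly_unique k hQ (isHilbPoly_iso k (asIso (partIncl hd hc E)).symm hP)]
      exact redLE_refl P
    · exact hss (part U E) (partIncl hd hc E) inferInstance hU h0 hiso Q P hQ hP
  refine ⟨⟨hU, h0, isPure_of_mono hpure (partIncl hd hc E), fun F ι hι hF hF0 hni P Q hP hQ => ?_⟩, hred⟩
  haveI := hι
  have hPE := isHilbPoly_hp k hL E hEc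
  have hni' : ¬ IsIso (ι ≫ partIncl hd hc E) := fun h => hni (by
    haveI : Epi (partIncl hd hc E) := epi_of_epi ι (partIncl hd hc E)
    haveI := isIso_of_mono_of_epi (partIncl hd hc E)
    exact IsIso.of_isIso_comp_right ι (partIncl hd hc E))
  have h1 := hss F (ι ≫ partIncl hd hc E) (mono_comp _ _) hF hF0 hni' P _ hP hPE
  exact redLE_trans (alpha_pos_of_sub k hL hpure (ι ≫ partIncl hd hc E) hF hF0 hP)
    (alpha_pos_self k hL hEc hE0 hpure hPE) (alpha_pos_of_sub k hL hpure (partIncl hd hc E) hU h0 hQ)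
    h1 (redLE_of_eq (redEq_symm (hred hPE hQ)))

theorem compl_parts [NoetherianSpace X] (y : X) :
    ∃ W : X.Opens, Disjoint (compOpen y : Set X) W ∧ compOpen y ⊔ W = ⊤ :=
  ⟨⟨(connectedComponent y)ᶜ, (isClopen_connectedComponent_of_noetherian y).1.isOpen_compl⟩,
    disjoint_compl_right, Opens.ext (Set.union_compl_self _)⟩

include hL in
/-- A module whose parts are semistable with the same reduced polynomial is semistable. -/
theorem semistable_of_parts [NoetherianSpace X] {E : X.Modules} (hEc : Coh.IsCoh E) (hE0 : ¬ IsZero E)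
    (hdim : topologicalKrullDim ↥X ≤ 1) {P : ℚ[X]} (hP : ShStab.IsHilbPoly k X L E P)
    (h : ∀ y : X, ¬ IsZero (part (compOpen y) E) → ShStab.IsSemistable k X L (part (compOpen y) E) 1 ∧
      ∀ Q : ℚ[X], ShStab.IsHilbPoly k X L (part (compOpen y) E) Q → RedEq 1 Q P) :
    ShStab.IsSemistable k X L E 1 := by
  haveI := isNoetherian_of_proper (X := X) k
  have hsub : ∀ (y : X) (F : X.Modules) (ι : F ⟶ E), Mono ι → ¬ IsZero (part (compOpen y) F) →
      ¬ IsZero (part (compOpen y) E) := fun y F ι hι h0 hz => by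
    haveI := hι
    haveI := mono_partMap (compOpen y) ι
    exact h0 (IsZero.of_mono (partMap (compOpen y) ι) hz)
  have hpure : ShStab.IsPure X E 1 := by
    intro F ι hι hF hF0
    haveI := hι
    refine le_antisymm ((topologicalKrullDim_subspace_le X _).trans hdim) ?_
    obtain ⟨y, hy⟩ : ∃ y, ¬ IsZero (part (compOpen y) F) := by
      by_contra hcon
      exact hF0 (isZero_of_parts F fun y => not_not.1 fun h' => hcon ⟨y, h'⟩)
    obtain ⟨W, hd, hc⟩ := compl_parts y
    haveI := mono_partMap (compOpen y) ι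
    haveI := epi_partπ hd hc F
    obtain ⟨⟨-, -, hp, -⟩, -⟩ := h y (hsub y F ι hι hy)
    rw [← hp _ (partMap (compOpen y) ι) inferInstance (isCoh_part hd hc hF) hy]
    exact dim_mono (support_subset_of_epi (partπ (compOpen y) F))
  refine ⟨hEc, hE0, hpure, fun F ι hι hF hF0 _ R S hR hS => ?_⟩
  rw [isHilbPoly_unique k hS hP]
  haveI hι' : Mono ι := hι
  clear hS
  show PolyLE (alpha 1 P • R) (alpha 1 R • P)
  -- induction on the number of nonzero parts
  suffices H : ∀ (n : ℕ) (F : X.Modules) (ι : F ⟶ E), Mono ι → Coh.IsCoh F → ∀ R : ℚ[X],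
      ShStab.IsHilbPoly k X L F R →
      ∀ T : Finset (Set X), T.card ≤ n → (∀ y : X, ¬ IsZero (part (compOpen y) F) → connectedComponent y ∈ T) →
      PolyLE (alpha 1 P • R) (alpha 1 R • P) by
    refine H _ F ι hι hF R hR
      (Set.Finite.toFinset (s := Set.range fun y : X => connectedComponent y) ?_) le_rfl
      (fun y _ => (Set.Finite.mem_toFinset _).2 ⟨y, rfl⟩)
    obtain ⟨t, ht⟩ := isCompact_univ.elim_finite_subcover (fun y : X => connectedComponent y)
      (fun y => (isClopen_connectedComponent_of_noetherian y).2) (fun y _ => Set.mem_iUnion.2 ⟨y, mem_connectedComponent⟩)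
    refine (t.finite_toSet.image fun y : X => connectedComponent y).subset ?_
    rintro _ ⟨z, rfl⟩
    obtain ⟨y, hy, hz⟩ := Set.mem_iUnion₂.1 (ht (Set.mem_univ z))
    exact ⟨y, hy, connectedComponent_eq hz⟩
  intro n
  induction n with
  | zero =>
    intro F ι _ _ R hR T hT hmem
    have hF0 : IsZero F := isZero_of_parts F fun y => not_not.1 fun hy =>
      (Finset.card_pos.2 ⟨_, hmem y hy⟩).ne' (Nat.le_zero.1 hT)
    rw [hilb_zero k hL hF0 hR]
    simpa [alpha] using polyLE_refl (0 : ℚ[X])
  | succ n ih =>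
    intro F ι hι hF R hR T hT hmem
    haveI := hι
    by_cases hall : ∀ y, IsZero (part (compOpen y) F)
    · rw [hilb_zero k hL (isZero_of_parts F hall) hR]
      simpa [alpha] using polyLE_refl (0 : ℚ[X])
    obtain ⟨y, hy⟩ := not_forall.1 hall
    obtain ⟨W, hd, hc⟩ := compl_parts y
    have hd' : Disjoint (W : Set X) (compOpen y) := hd.symm
    have hc' : W ⊔ compOpen y = ⊤ := by rw [sup_comm, hc]
    have hFU : Coh.IsCoh (part (compOpen y) F) := isCoh_part hd hc hF
    have hFW : Coh.IsCoh (part W F) := isCoh_part hd' hc' hF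
    have hEU : Coh.IsCoh (part (compOpen y) E) := isCoh_part hd hc hEc
    have hA := isHilbPoly_hp k hL _ hFU
    have hB := isHilbPoly_hp k hL _ hFW
    have hEA := isHilbPoly_hp k hL _ hEU
    have h0 := hsub y F ι hι hy
    obtain ⟨⟨-, -, hp, hssU⟩, hredU⟩ := h y h0
    haveI := mono_partMap (compOpen y) ι
    haveI := mono_partMap W ι
    have haA := alpha_pos_of_sub k hL hp (partMap (compOpen y) ι) hFU hy hA
    have haE := alpha_pos_self k hL hEU h0 hp hEA
    have haP := alpha_pos_self k hL hEc hE0 hpure hP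
    have h1 : RedLE 1 (EulerLib.hp k hL _ hFU) (EulerLib.hp k hL _ hEU) := by
      by_cases hiso : IsIso (partMap (compOpen y) ι)
      · rw [isHilbPoly_unique k hA (isHilbPoly_iso k (asIso (partMap (compOpen y) ι)).symm hEA)]
        exact redLE_refl _
      · exact hssU _ (partMap (compOpen y) ι) inferInstance hFU hy hiso _ _ hA hEA
    obtain ⟨N₁, hN₁⟩ := redLE_trans haA haE haP h1 (redLE_of_eq (hredU _ hEA))
    obtain ⟨N₂, hN₂⟩ := ih (part W F) (partMap W ι ≫ partIncl hd' hc' E) (mono_comp _ _) hFW _ hB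
      (T.erase (connectedComponent y))
      (by rw [Finset.card_erase_of_mem (hmem y hy)]; omega)
      (fun z hz => Finset.mem_erase.2 ⟨fun he => hz (isZero_part_part (by
        show Disjoint (connectedComponent z) (W : Set X)
        rw [he]; exact hd) F), hmem z fun hzz => hz (isZero_part_of_le F hzz)⟩)
    rw [hilb_parts hd hc k hL hF hR hA hB]
    refine ⟨max N₁ N₂, fun m hm => ?_⟩
    have u1 := hN₁ m (le_trans (le_max_left _ _) hm)
    have u2 := hN₂ m (le_trans (le_max_right _ _) hm)
    simp only [eval_smul, eval_add, smul_eq_mul, alpha_add] at u1 u2 ⊢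
    linarith

end Groth.Agent.EulerLib
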