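import Groth.Agent.EulerLib.PartsEuler
import Groth.Agent.Surf15.CurveBdd
import Groth.Agent.VB5.Basic
import Groth.Agent.AbVarLib.GeomIntegralSmooth
import Groth.Agent.Coherent.CohBC.LocalModules
import Groth.Agent.RelVAFib14.Main
import Groth.Agent.WeilFin.Bundle

/-!
# Uniform vanishing on smooth curves from lower bounds on slopes of quotient bundles
-/

set_option autoImplicit false
set_option linter.style.haveILetI false
set_option linter.unusedSectionVars false
set_option backward.isDefEq.respectTransparency.types false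
set_option maxHeartbeats 1000000

universe u

open CategoryTheory CategoryTheory.Limits AlgebraicGeometry Opposite TopologicalSpace StabCat
open Groth.Agent.Coherent Groth.Agent.PicLib Groth.Agent.AmpleLib Groth.Agent.CurveRR24 Groth.Agent.DimLib

namespace Groth.Agent.EulerLib

variable {X : Scheme.{u}}

theorem exists_free_of_restrict (Q : X.Modules) (U : X.Opens) (h : FlatMod.IsFinLocFree (Q.restrict U.ι))
    {x : X} (hx : x ∈ U) : ∃ (V : X.Opens) (n : ℕ), x ∈ V ∧ Nonempty (Q.restrict V.ι ≅ FlatMod.freeMod V.toScheme n) := by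
  obtain ⟨V, n, hV, ⟨e⟩⟩ := h ⟨x, hx⟩
  refine ⟨U.ι ''ᵁ V, n, ⟨⟨x, hx⟩, hV, rfl⟩, ⟨?_⟩⟩
  let j := (U.ι.isoImage V).inv
  have hj : (U.ι ''ᵁ V).ι = j ≫ V.ι ≫ U.ι := by simp [j]
  exact ((Scheme.Modules.restrictFunctorCongr hj) ≪≫ Scheme.Modules.restrictFunctorComp j (V.ι ≫ U.ι)).app Q ≪≫
    (Scheme.Modules.restrictFunctor j).mapIso ((Scheme.Modules.restrictFunctorComp V.ι U.ι).app Q ≪≫ e) ≪≫
      CohBC.freeModRestrictIso j n

variable (k : Type u) [Field k] [X.Over (Spec (CommRingCat.of k))] [IsProper (X ↘ Spec (CommRingCat.of k))]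

section Dualizing

variable (hdim : topologicalKrullDim ↥X ≤ 1) {ω : X.Modules} {t : Coh.HH X ω 1 →ₗ[k] k}
  (hrep : ∀ F : X.Modules, Coh.IsQCoh F → SerreDual.Rep t F)
include hrep

theorem hom_eq_zero_of_h1 {T : X.Modules} (hT : Coh.IsQCoh T) (h : Subsingleton (Coh.HH X T 1)) (φ : T ⟶ ω) :
    φ = 0 := by
  refine (hrep T hT).1 ?_
  exact LinearMap.ext fun x => by rw [Subsingleton.elim x 0, map_zero, map_zero]

variable [Smooth (X ↘ Spec (CommRingCat.of k))]
include hdim

/-- Coherent submodules of the dualizing module of a smooth curve are finite locally free. -/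
theorem isFinLocFree_of_mono_dualizing {Q : X.Modules} (hQ : Coh.IsCoh Q) (ι : Q ⟶ ω) [Mono ι] :
    FlatMod.IsFinLocFree Q := by
  haveI := isNoetherian_of_proper (X := X) k
  haveI : NoetherianSpace ↥X := inferInstance
  haveI := isSeparated_of_proper (X := X) k
  intro x
  let U := compOpen x
  have hU := isClopen_connectedComponent_of_noetherian x
  obtain ⟨W, hd, hc⟩ := compl_parts x
  letI : U.toScheme.Over (Spec (CommRingCat.of k)) := ⟨U.ι ≫ (X ↘ Spec (CommRingCat.of k))⟩
  haveI : IsClosedImmersion U.ι := IsClosedImmersion.of_isPreimmersion U.ι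
    (by rw [Scheme.Opens.range_ι]; exact hU.1)
  haveI : IsProper (U.toScheme ↘ Spec (CommRingCat.of k)) :=
    inferInstanceAs (IsProper (U.ι ≫ (X ↘ Spec (CommRingCat.of k))))
  haveI : Smooth (U.toScheme ↘ Spec (CommRingCat.of k)) :=
    inferInstanceAs (Smooth (U.ι ≫ (X ↘ Spec (CommRingCat.of k))))
  haveI := isNoetherian_of_proper (X := U.toScheme) k
  haveI : ConnectedSpace ↥U.toScheme := Subtype.connectedSpace isConnected_connectedComponent
  haveI : IsIntegral U.toScheme :=
    AbVarLib.isIntegral_of_smooth_connected (U.ι ≫ (X ↘ Spec (CommRingCat.of k)))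
  have hdU : topologicalKrullDim ↥U.toScheme ≤ 1 := (topologicalKrullDim_subspace_le X _).trans hdim
  have hQU : Coh.IsCoh (Q.restrict U.ι) := isCoh_restrict U hQ
  obtain ⟨P, π, hπ, hP, hT⟩ := VB5.exists_tf_quotient hdU (fun z => VB5.isIntegrallyClosed_stalk k z) hQU
  haveI := hπ
  have hTc := Coherent.isCoh_kernel π hQU (SplitP1.isCoh_of_rank hP).1
  have hη : genericPoint U.toScheme ∉ CohB1.support (kernel π) := by
    refine (Coherent.notMem_support_iff _ _).2 (ModuleCat.isZero_iff_subsingleton.2 ?_)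
    haveI := VB5.finite_generic hTc
    exact (Module.finrank_zero_iff (R := U.toScheme.functionField)
      (M := (kernel π).presheaf.stalk (genericPoint U.toScheme))).1 hT
  have h1 : Subsingleton (Coh.HH U.toScheme (kernel π) 1) :=
    CurveRR24.subsingleton_HH_of_small k hdU hTc.1
      (Coherent.isClosed_support _ (Coherent.locallyFinGen_of_isFT _ hTc.2)) hη subset_rfl Nat.one_pos
  haveI := hTc.1
  have h1' : Subsingleton (Coh.HH X ((Coh.push U.ι).obj (kernel π)) 1) :=
    (SerreDual.hpush U.ι k rfl (kernel π) 1).symm.toEquiv.subsingleton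
  let j : (Scheme.Modules.pushforward U.ι).obj (kernel π) ⟶ Q :=
    (Scheme.Modules.pushforward U.ι).map (kernel.ι π) ≫ partIncl hd hc Q
  haveI : Mono (partIncl hd hc Q) := inferInstance
  haveI : Mono ((Scheme.Modules.pushforward U.ι).map (kernel.ι π)) :=
    MeroLib.mono_of_app_injective _ fun V => app_injective_of_mono (kernel.ι π) (U.ι ⁻¹ᵁ V)
  haveI : Mono j := mono_comp _ _
  haveI : Mono (j ≫ ι) := mono_comp _ _
  have hz : IsZero ((Scheme.Modules.pushforward U.ι).obj (kernel π)) := by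
    refine (IsZero.iff_id_eq_zero _).2 ?_
    rw [← cancel_mono (j ≫ ι), hom_eq_zero_of_h1 k hrep (isQCoh_push U.ι (kernel π)) h1' (j ≫ ι), comp_zero, zero_comp]
  have hz' : IsZero (kernel π) := IsZero.of_iso ((Scheme.Modules.restrictFunctor U.ι).map_isZero hz)
    ((asIso (Scheme.Modules.restrictAdjunction U.ι).counit).app (kernel π)).symm
  haveI : Mono π := Preadditive.mono_of_isZero_kernel _ hz'
  haveI := isIso_of_mono_of_epi π
  refine exists_free_of_restrict Q U (fun z => ?_) mem_connectedComponent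
  obtain ⟨V, hV, ⟨e⟩⟩ := hP z
  exact ⟨V, _, hV, ⟨(Scheme.Modules.restrictFunctor V.ι).mapIso (asIso π) ≪≫ e⟩⟩

variable (hω : Coh.IsCoh ω) {L : X.Modules} (hL : CohB1.IsAmple L)
include hω hL

/-- A lower bound on the slopes of locally free quotients gives uniform vanishing. -/
theorem subsingleton_h1_of_quot_bound {E : X.Modules} (hE : Coh.IsCoh E) {c : ℤ}
    (hc : ∀ (Q : X.Modules) (p : E ⟶ Q), Epi p → FlatMod.IsFinLocFree Q → 0 < DecSh.mult k X L Q →
      c * DecSh.mult k X L Q ≤ Curv2.euler k X Q)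
    {m : ℕ} (hm : (Module.finrank k (Coh.HH X ω 0) : ℤ) - c < m) :
    Subsingleton (Coh.HH X (ShStab.twist X L E m) 1) := by
  haveI := isNoetherian_of_proper (X := X) k
  have hX : topologicalKrullDim X ≤ ((1 : ℕ) : WithBot ℕ∞) := by exact_mod_cast hdim
  by_contra hne
  have hEm := Surf15.isCoh_twistL k hL hE m
  haveI := finite_HH_of_isCoh k hEm 1
  haveI : Nontrivial (Coh.HH X (ShStab.twist X L E m) 1) := not_subsingleton_iff_nontrivial.1 hne
  haveI : Nontrivial (Module.Dual k (Coh.HH X (ShStab.twist X L E m) 1)) :=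
    Module.nontrivial_of_finrank_pos (R := k) (by rw [Subspace.dual_finrank_eq]; exact Module.finrank_pos)
  obtain ⟨ψ, hψ⟩ := exists_ne (0 : Module.Dual k (Coh.HH X (ShStab.twist X L E m) 1))
  obtain ⟨φ, rfl⟩ := (hrep _ hEm.1).2 ψ
  have hKc : Coh.IsCoh (kernel φ) :=
    isCoh_of_mono (kernel.ι φ) hEm (haveI := hEm.1; haveI := hω.1; isQCoh_kernel φ)
  let Q := Abelian.coimage φ
  have hQ : Coh.IsCoh Q := isCoh_cokernel (kernel.ι φ) hKc.1 hEm
  have hQf : FlatMod.IsFinLocFree Q := isFinLocFree_of_mono_dualizing k hdim hrep hQ (Abelian.factorThruCoimage φ)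
  haveI := finite_HH_of_isCoh k hω 0
  have hw : Curv2.euler k X Q ≤ (Module.finrank k (Coh.HH X ω 0) : ℤ) :=
    (Surf15.euler_le_h0 k hX hQ).trans (by
      exact_mod_cast (SerreDual.finrank_h0_le_of_mono (Abelian.factorThruCoimage φ)).2)
  have hpos : 0 < DecSh.mult k X L Q := by
    rcases ((Topology.IsInducing.subtypeVal.topologicalKrullDim_le).trans hX :
      topologicalKrullDim (CohB1.support Q) ≤ ((1 : ℕ) : WithBot ℕ∞)).lt_or_eq with hd | hd
    · refine absurd ?_ hψ
      have hQc : IsClosed (CohB1.support Q) := isClosed_support _ (locallyFinGen_of_isFT _ hQ.2)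
      haveI := isSeparated_of_proper (X := X) k
      haveI : Subsingleton (Coh.HH X Q 1) :=
        subsingleton_HH_of_support (X := X) ⟨_, hQc⟩ _ hQ.1 subset_rfl 1 hd
      rw [show φ = Abelian.coimage.π φ ≫ Abelian.factorThruCoimage φ from (Abelian.coimage.fac φ).symm,
        SerreDual.theta_comp]
      exact LinearMap.ext fun x => by
        rw [LinearMap.comp_apply, Subsingleton.elim (SerreDual.hmap k _ 1 x) 0, map_zero]; rfl
    · rw [Surf15.mult_eq_deg k hL, ← Surf15.interDeg_one_class]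
      exact interDeg_pos k 1 (fun _ => L) (fun _ => hL) _ hQ hd
  -- untwist the quotient
  have hmi := isInvertible_tensorPow hL.1 m
  obtain ⟨N, ⟨e⟩⟩ := VarietyLib.exists_isInverseOf hmi
  have hN : PicF.IsInvertible N :=
    PicM.isInvertible_of_tensor hmi (glocus_isInvertible_of_iso e.symm isInvertible_structureModule)
  haveI : Epi (tensorMap (Abelian.coimage.π φ) (𝟙 N)) := EulerLib.epi_tensorMap hN _
  let eE : E ≅ CohB1.tensorMod (ShStab.twist X L E m) N :=
    (AmpleLib.unitTensorIso E).symm ≪≫ AmpleLib.tensorComm _ _ ≪≫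
      (AmpleLib.tensorIso (Iso.refl E) e).symm ≪≫ (DCat.TensorAssoc.assocIso E _ N).symm
  let p : E ⟶ CohB1.tensorMod Q N := eE.hom ≫ tensorMap (Abelian.coimage.π φ) (𝟙 N)
  have hp : Epi p := epi_comp _ _
  let e' : ShStab.twist X L (CohB1.tensorMod Q N) m ≅ Q :=
    DCat.TensorAssoc.assocIso Q N _ ≪≫ AmpleLib.tensorIso (Iso.refl Q) (AmpleLib.tensorComm _ _ ≪≫ e) ≪≫
      AmpleLib.tensorComm _ _ ≪≫ unitTensorIso Q
  have hQN : Coh.IsCoh (CohB1.tensorMod Q N) := EulerLib.isCoh_twist hN hQ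
  have h2 := Surf15.euler_twist k hX hL hQN m
  have h3 := Surf15.mult_twist k hX hL hQN m
  rw [euler_congr k X e'] at h2
  rw [Surf15.mult_eq_deg k hL, Surf15.deg_congr k e', ← Surf15.mult_eq_deg k hL] at h3
  have h4 := hc _ p hp
    (WeilFin.isFinLocFree_tensorMod hQf (RelVAFib14.isFinLocFree_of_isInvertible hN)) (h3 ▸ hpos)
  rw [← h3] at h4
  nlinarith [mul_le_mul_of_nonneg_left (show (1 : ℤ) ≤ DecSh.mult k X L Q from hpos)
    (show (0 : ℤ) ≤ (m : ℤ) + c by linarith [Int.natCast_nonneg (Module.finrank k (Coh.HH X ω 0))])]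

end Dualizing

variable (hX : topologicalKrullDim X ≤ ((1 : ℕ) : WithBot ℕ∞)) {L : X.Modules} (hL : CohB1.IsAmple L)
include k hX hL

/-- Uniform vanishing gives uniform generation. -/
theorem exists_gg_of_h1 (N₀ : ℕ) :
    ∃ n₀ : ℕ, N₀ ≤ n₀ ∧ ∀ n : ℕ, n₀ ≤ n → ∀ F : X.Modules, Coh.IsCoh F →
      (∀ m : ℕ, N₀ ≤ m → Subsingleton (Coh.HH X (ShStab.twist X L F m) 1)) →
      Curv2.IsGloballyGenerated (ShStab.twist X L F n) := by
  haveI := isNoetherian_of_proper (X := X) k
  haveI := isSeparated_of_proper (X := X) k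
  obtain ⟨p, r, ι, a, hp, hι, hιq, ha0, hadd, hmk, ha⟩ := Surf15.exists_embedding_class k hX hL
  haveI := hι
  refine ⟨p * (N₀ + 2), le_trans (by omega) (Nat.le_mul_of_pos_left _ hp), fun n hn F hF hv => ?_⟩
  let j := n % p
  let d := n / p
  have hjd : j + p * d = n := Nat.mod_add_div n p
  have hd : N₀ + 2 ≤ d := (Nat.le_div_iff_mul_le hp).2 (by rwa [mul_comm])
  let G := ShStab.twist X L F j
  have hGc : Coh.IsCoh G := Surf15.isCoh_twistL k hL hF j
  have hj' := isInvertible_tensorPow hL.1 j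
  have hreg : Pic13.IsMRegular k ι G (d : ℤ) := by
    intro q hq
    have hG := PicTau27.isCoh_twistOn k ι hGc ((d : ℤ) - q)
    haveI := hG.1
    rcases hq.lt_or_eq with hq1 | rfl
    · exact subsingleton_HH_of_dim _ hX hq1
    have hdd : ((d : ℤ) - ((1 : ℕ) : ℤ)) = ((d - 1 : ℕ) : ℤ) := by omega
    rw [hdd]
    have hi := PicTau27.isInvertible_twist k ι ((d - 1 : ℕ) : ℤ)
    obtain ⟨eN⟩ := H0Growth23.nonempty_iso_of_mk_eq (show InvCl.mk _ (isInvertible_tensorMod hj' hi) =
        InvCl.mk _ (isInvertible_tensorPow hL.1 (j + p * (d - 1))) by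
      rw [← InvCl.mk_mul hj' hi, hmk, ha, InvCl.mk_tensorPow hL.1, InvCl.mk_tensorPow hL.1, ← pow_add])
    have hvv := hv (j + p * (d - 1)) (le_trans (by omega) (le_trans (Nat.le_mul_of_pos_left _ hp) (Nat.le_add_left _ _)))
    exact subsingleton_HH_congr
      (DCat.TensorAssoc.assocIso F _ _ ≪≫ AmpleLib.tensorIso (Iso.refl F) eN).symm 1 hvv
  have hi := PicTau27.isInvertible_twist k ι (d : ℤ)
  obtain ⟨eN⟩ := H0Growth23.nonempty_iso_of_mk_eq (show InvCl.mk _ (isInvertible_tensorMod hj' hi) =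
      InvCl.mk _ (isInvertible_tensorPow hL.1 n) by
    rw [← InvCl.mk_mul hj' hi, hmk, ha, InvCl.mk_tensorPow hL.1, InvCl.mk_tensorPow hL.1, ← pow_add, hjd])
  exact globallyGenerated_of_iso (DCat.TensorAssoc.assocIso F _ _ ≪≫ AmpleLib.tensorIso (Iso.refl F) eN)
    (PicTau27.globallyGenerated k ι hGc hreg)

end Groth.Agent.EulerLib
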