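import Groth.Agent.EulerLib.PolyOrder
import Mathlib.Order.ModularLattice
import Mathlib.Order.RelSeries

/-!
# Harder-Narasimhan theory of a lattice with a polynomial rank function
-/

set_option autoImplicit false

open Polynomial StabCat

namespace Groth.Agent.EulerLib

theorem redLT_combine {d : ℕ} {F G J : ℚ[X]} (hαJ : 0 < alpha d J) (hFJ : alpha d F ≤ alpha d J)
    (hαF : 0 ≤ alpha d F) (hαG : 0 < alpha d G) (h1 : RedLT d J F) (h2 : RedLT d J G) :
    RedLT d G (F + G - J) := by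
  obtain ⟨N1, h1⟩ := h1
  obtain ⟨N2, h2⟩ := h2
  have hα : alpha d (F + G - J) = alpha d F + alpha d G - alpha d J := by
    simp [alpha, mul_add, mul_sub]
  refine ⟨max N1 N2, fun m hm => ?_⟩
  have e1 := h1 m ((le_max_left _ _).trans hm)
  have e2 := h2 m ((le_max_right _ _).trans hm)
  simp only [eval_smul, smul_eq_mul] at e1 e2
  rw [hα]
  simp only [eval_smul, smul_eq_mul, eval_sub, eval_add]
  have p1 := mul_pos hαG (sub_pos.2 e1)
  have p2 := mul_nonneg (sub_nonneg.2 hFJ) (sub_pos.2 e2).le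
  refine lt_of_mul_lt_mul_left ?_ hαJ.le
  nlinarith

/-- A polynomial valuation on a lattice, strictly increasing and with integral multiplicities. -/
structure RankData (α : Type*) [Lattice α] [OrderBot α] where
  d : ℕ
  P : α → ℚ[X]
  modular : ∀ a b, P (a ⊔ b) + P (a ⊓ b) = P a + P b
  strict : ∀ a b, a < b → 0 < (P b - P a).leadingCoeff
  int : ∀ a, ∃ n : ℤ, alpha d (P a) = n
  mono : ∀ a b, a ≤ b → alpha d (P a) ≤ alpha d (P b)

namespace RankData

variable {α : Type*} [Lattice α] [BoundedOrder α] (R : RankData α)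

/-- The polynomial of an interval. -/
noncomputable abbrev Q (a b : α) : ℚ[X] := R.P b - R.P a

theorem Q_add (a b c : α) : R.Q a c = R.Q a b + R.Q b c := by
  simp only [Q]; ring

theorem Q_self (a : α) : R.Q a a = 0 := sub_self _

theorem Q_sup (a b : α) : R.Q a (a ⊔ b) = R.Q (a ⊓ b) b := by
  have := R.modular a b
  simp only [Q]
  linear_combination this

theorem alpha_Q (a b : α) : alpha R.d (R.Q a b) = alpha R.d (R.P b) - alpha R.d (R.P a) := by
  simp [alpha, mul_sub]

theorem alpha_Q_nonneg {a b : α} (h : a ≤ b) : 0 ≤ alpha R.d (R.Q a b) := by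
  rw [alpha_Q, sub_nonneg]
  exact R.mono a b h

theorem eval_nonneg {a b : α} (h : a ≤ b) : PolyLE 0 (R.Q a b) := by
  rcases h.eq_or_lt with rfl | h
  · rw [Q_self]; exact polyLE_refl 0
  · rw [polyLE_iff, sub_zero]; exact (R.strict a b h).le

theorem eq_of_Q_eq_zero {a b : α} (h : a ≤ b) (h0 : R.Q a b = 0) : a = b :=
  h.eq_or_lt.resolve_right fun hlt => by
    have := R.strict a b hlt
    rw [show R.P b - R.P a = 0 from h0, leadingCoeff_zero] at this
    exact lt_irrefl _ this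

theorem isModular (R : RankData α) : IsModularLattice α :=
  ⟨fun {x} y {z} hxz => by
    refine (R.eq_of_Q_eq_zero (sup_le (le_inf le_sup_left hxz) (le_inf (inf_le_left.trans le_sup_right) inf_le_right)) ?_).ge
    have h1 := R.modular (x ⊔ y) z
    have h2 := R.modular x (y ⊓ z)
    have h3 := R.modular x y
    have h4 := R.modular y z
    have e1 : x ⊔ y ⊔ z = y ⊔ z := le_antisymm (sup_le (sup_le (hxz.trans le_sup_right) le_sup_left) le_sup_right)
      (sup_le_sup_right le_sup_right _)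
    have e2 : x ⊓ (y ⊓ z) = x ⊓ y := le_antisymm (inf_le_inf_left x inf_le_left)
      (le_inf inf_le_left (le_inf inf_le_right (inf_le_left.trans hxz)))
    rw [e1] at h1
    rw [e2] at h2
    simp only [Q]
    linear_combination h1 - h2 + h3 - h4⟩

/-- `[a, ⊤]` is pure. -/
def PureOver (a : α) : Prop := ∀ b, a < b → 0 < alpha R.d (R.Q a b)

/-- The interval `[a, b]` is semistable. -/
def SS (a b : α) : Prop :=
  a < b ∧ ∀ c, a < c → c ≤ b → 0 < alpha R.d (R.Q a c) ∧ RedLE R.d (R.Q a c) (R.Q a b)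

/-- `b` is the maximal destabilising element over `a`. -/
def MaxD (a b : α) : Prop :=
  a < b ∧ ∀ c, a < c → RedLE R.d (R.Q a c) (R.Q a b) ∧ (RedEq R.d (R.Q a c) (R.Q a b) → c ≤ b)

section Exists

variable {R}
variable [WellFoundedGT α]

theorem exists_preMax {a : α} (hp : R.PureOver a) {g : α} (hg : a < g) :
    ∃ b, g ≤ b ∧ RedLE R.d (R.Q a g) (R.Q a b) ∧
      ∀ c, b < c → ¬ RedLE R.d (R.Q a b) (R.Q a c) := by
  obtain ⟨b, ⟨hgb, hle⟩, hmax⟩ := (wellFounded_gt (α := α)).has_min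
    {b | g ≤ b ∧ RedLE R.d (R.Q a g) (R.Q a b)} ⟨g, le_rfl, redLE_refl _⟩
  refine ⟨b, hgb, hle, fun c hbc hc => hmax c ⟨hgb.trans hbc.le, ?_⟩ hbc⟩
  exact redLE_trans (hp g hg) (hp b (hg.trans_le hgb)) (hp c (hg.trans_le (hgb.trans hbc.le))) hle hc

/-- Existence of the maximal destabilising element. -/
theorem exists_maxD {a : α} (hp : R.PureOver a) (ha : a < ⊤) : ∃ b, R.MaxD a b := by
  classical
  let M : Set α := {b | a < b ∧ ∀ c, b < c → ¬ RedLE R.d (R.Q a b) (R.Q a c)}
  have hM : ∀ g, a < g → ∃ b ∈ M, g ≤ b ∧ RedLE R.d (R.Q a g) (R.Q a b) := fun g hg => by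
    obtain ⟨b, h1, h2, h3⟩ := exists_preMax hp hg
    exact ⟨b, ⟨hg.trans_le h1, h3⟩, h1, h2⟩
  choose n hn using fun b => R.int b
  let val : α → ℕ := fun b => (n b - n a).toNat
  have hval : ∀ b, a < b → ((val b : ℕ) : ℚ) = alpha R.d (R.Q a b) := fun b hb => by
    have h0 := R.alpha_Q_nonneg hb.le
    rw [alpha_Q, hn, hn] at h0 ⊢
    have h1 : (0 : ℤ) ≤ n b - n a := by exact_mod_cast h0
    exact_mod_cast Int.toNat_of_nonneg h1
  have hex : ∃ m, ∃ b ∈ M, val b = m := by
    obtain ⟨b, hb, -⟩ := hM ⊤ ha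
    exact ⟨_, b, hb, rfl⟩
  obtain ⟨F, hF, hFv⟩ := Nat.find_spec hex
  have hmin : ∀ b ∈ M, alpha R.d (R.Q a F) ≤ alpha R.d (R.Q a b) := fun b hb => by
    rw [← hval F hF.1, ← hval b hb.1]
    exact_mod_cast hFv ▸ Nat.find_min' hex ⟨b, hb, rfl⟩
  have hαF := hp F hF.1
  -- the key estimate for an element not below `F`
  have key : ∀ g, a < g → ¬ g ≤ F → RedLE R.d (R.Q a F) (R.Q a g) →
      a < F ⊓ g ∧ RedLT R.d (R.Q a g) (R.Q a (F ⊓ g)) := by
    intro g hg hgF hle
    have hlt : F < F ⊔ g := lt_of_le_of_ne le_sup_left fun e => hgF (e.symm ▸ le_sup_right)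
    have hαJ := hp _ (hF.1.trans hlt)
    have h1 : RedLT R.d (R.Q a (F ⊔ g)) (R.Q a F) := not_redLE_iff.1 (hF.2 _ hlt)
    have h2 := redLT_trans_le hαJ hαF (hp g hg) h1 hle
    have hFJ : alpha R.d (R.Q a F) ≤ alpha R.d (R.Q a (F ⊔ g)) := by
      rw [alpha_Q, alpha_Q]
      linarith [R.mono F (F ⊔ g) le_sup_left]
    have h3 := redLT_combine hαJ hFJ hαF.le (hp g hg) h1 h2
    have e : R.Q a F + R.Q a g - R.Q a (F ⊔ g) = R.Q a (F ⊓ g) := by
      have := R.modular F g
      simp only [Q]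
      linear_combination -this
    rw [e] at h3
    refine ⟨lt_of_le_of_ne (le_inf hF.1.le hg.le) fun e => ?_, h3⟩
    rw [← e, Q_self] at h3
    obtain ⟨N, hN⟩ := h3
    have := hN N le_rfl
    simp [alpha] at this
  have stepA : ∀ g, a < g → g ≤ F → RedLE R.d (R.Q a g) (R.Q a F) := by
    by_contra h
    push Not at h
    obtain ⟨g₀, hg₀, hg₀F, hbad⟩ := h
    obtain ⟨g, ⟨hgg, hgF, hle⟩, hmax⟩ := (wellFounded_gt (α := α)).has_min
      {b | g₀ ≤ b ∧ b ≤ F ∧ RedLE R.d (R.Q a g₀) (R.Q a b)} ⟨g₀, le_rfl, hg₀F, redLE_refl _⟩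
    have hg : a < g := hg₀.trans_le hgg
    have hFg : RedLT R.d (R.Q a F) (R.Q a g) :=
      redLT_trans_le hαF (hp _ hg₀) (hp _ hg) (not_redLE_iff.1 hbad) hle
    obtain ⟨g', hg', hgg', hle'⟩ := hM g hg
    have hFg' := redLT_trans_le hαF (hp _ hg) (hp _ hg'.1) hFg hle'
    by_cases hc : g' ≤ F
    · have heq : alpha R.d (R.Q a g') = alpha R.d (R.Q a F) := le_antisymm
        (by rw [alpha_Q, alpha_Q]; linarith [R.mono g' F hc]) (hmin g' hg')
      have h' : PolyLT (R.Q a F) (R.Q a g') := by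
        rw [RedLT, heq, polyLT_smul hαF] at hFg'
        exact hFg'
      refine (polyLT_iff_le_ne.1 h').2 (polyLE_antisymm (polyLT_iff_le_ne.1 h').1 ?_)
      rw [polyLE_iff, show R.Q a F - R.Q a g' = R.Q g' F from by simp only [Q]; ring]
      have := R.eval_nonneg hc
      rwa [polyLE_iff, sub_zero] at this
    · obtain ⟨hk, hkl⟩ := key g' hg'.1 hc (redLT_iff_le_ne.1 hFg').1
      have hlt : RedLT R.d (R.Q a g) (R.Q a (F ⊓ g')) :=
        redLE_trans_lt (hp _ hg) (hp _ hg'.1) (hp _ hk) hle' hkl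
      have hgk : g < F ⊓ g' := lt_of_le_of_ne (le_inf hgF hgg') fun e => by
        rw [← e] at hlt
        exact (redLT_iff_le_ne.1 hlt).2 rfl
      exact hmax (F ⊓ g') ⟨hgg.trans hgk.le, inf_le_left,
        redLE_trans (hp _ hg₀) (hp _ hg) (hp _ hk) hle (redLT_iff_le_ne.1 hlt).1⟩ hgk
  refine ⟨F, hF.1, fun g hg => ?_⟩
  have hB : RedLE R.d (R.Q a g) (R.Q a F) := by
    by_contra hbad
    have hFg := not_redLE_iff.1 hbad
    by_cases hc : g ≤ F
    · exact hbad (stepA g hg hc)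
    · obtain ⟨hk, hkl⟩ := key g hg hc (redLT_iff_le_ne.1 hFg).1
      exact not_redLE_iff.2 (redLT_trans_le hαF (hp _ hg) (hp _ hk) hFg (redLT_iff_le_ne.1 hkl).1)
        (stepA _ hk inf_le_left)
  refine ⟨hB, fun heq => ?_⟩
  by_contra hc
  obtain ⟨hk, hkl⟩ := key g hg hc (redLE_of_eq (redEq_symm heq))
  exact not_redLE_iff.2 (redLE_trans_lt hαF (hp _ hg) (hp _ hk) (redLE_of_eq (redEq_symm heq)) hkl)
    (stepA _ hk inf_le_left)

end Exists

variable {R}

theorem MaxD.unique {a b b' : α} (h : R.MaxD a b) (h' : R.MaxD a b') : b = b' :=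
  le_antisymm ((h'.2 b h.1).2 (redLE_antisymm (h'.2 b h.1).1 (h.2 b' h'.1).1))
    ((h.2 b' h'.1).2 (redLE_antisymm (h.2 b' h'.1).1 (h'.2 b h.1).1))

theorem MaxD.ss {a b : α} (h : R.MaxD a b) (hp : R.PureOver a) : R.SS a b :=
  ⟨h.1, fun c hc _ => ⟨hp c hc, (h.2 c hc).1⟩⟩

theorem MaxD.pureOver {a b : α} (h : R.MaxD a b) (hp : R.PureOver a) : R.PureOver b := by
  intro c hc
  by_contra hle
  have h0 : alpha R.d (R.Q b c) = 0 := le_antisymm (not_lt.1 hle) (R.alpha_Q_nonneg hc.le)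
  have he : alpha R.d (R.Q a c) = alpha R.d (R.Q a b) := by
    rw [R.Q_add a b c, alpha_add, h0, add_zero]
  have hb := hp b h.1
  have h1 := (h.2 c (h.1.trans hc)).1
  rw [RedLE, he, polyLE_smul hb, polyLE_iff, show R.Q a b - R.Q a c = -(R.P c - R.P b) from by simp only [Q]; ring,
    leadingCoeff_neg] at h1
  linarith [R.strict b c hc]

theorem MaxD.redLT {a b c : α} (h : R.MaxD a b) (hp : R.PureOver a) (hc : b < c) :
    RedLT R.d (R.Q b c) (R.Q a b) := by
  have hlt : RedLT R.d (R.Q a c) (R.Q a b) :=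
    redLT_iff_le_ne.2 ⟨(h.2 c (h.1.trans hc)).1, fun e => hc.not_ge ((h.2 c (h.1.trans hc)).2 e)⟩
  have hbc := h.pureOver hp c hc
  rw [R.Q_add a b c] at hlt
  obtain ⟨N, hN⟩ := hlt
  refine ⟨N, fun m hm => ?_⟩
  have := hN m hm
  simp only [eval_smul, smul_eq_mul, alpha_add, eval_add] at this ⊢
  nlinarith

/-- A Harder-Narasimhan series above `a`. -/
structure IsHN (R : RankData α) (a : α) (s : LTSeries α) : Prop where
  head : s.head = a
  last : s.last = ⊤
  ss : ∀ i : Fin s.length, R.SS (s i.castSucc) (s i.succ)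
  anti : ∀ i j : Fin s.length, i.val + 1 = j.val →
    RedLT R.d (R.Q (s j.castSucc) (s j.succ)) (R.Q (s i.castSucc) (s i.succ))

theorem IsHN.pos {a : α} {s : LTSeries α} (h : R.IsHN a s) (i : Fin s.length) :
    0 < alpha R.d (R.Q (s i.castSucc) (s i.succ)) :=
  ((h.ss i).2 _ (s.step i) le_rfl).1

theorem IsHN.anti' {a : α} {s : LTSeries α} (h : R.IsHN a s) {i j : Fin s.length} (hij : i < j) :
    RedLT R.d (R.Q (s j.castSucc) (s j.succ)) (R.Q (s i.castSucc) (s i.succ)) := by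
  obtain ⟨t, ht⟩ : ∃ t, j.val = i.val + 1 + t := ⟨j.val - (i.val + 1), by
    have : i.val < j.val := hij
    omega⟩
  induction t generalizing j with
  | zero => exact h.anti i j (by omega)
  | succ t ih =>
    have hjs := j.2
    let j' : Fin s.length := ⟨i.val + 1 + t, by omega⟩
    exact redLT_trans_le (h.pos j) (h.pos j') (h.pos i) (h.anti j' j (by simp only [j']; omega))
      (redLT_iff_le_ne.1 (ih (j := j') (by simp only [Fin.lt_def, j']; omega) rfl)).1

/-- A quotient of a semistable interval. -/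
theorem SS.redLE_quot {a b c : α} (h : R.SS a b) (hac : a ≤ c) (hcb : c < b) :
    RedLE R.d (R.Q a b) (R.Q c b) := by
  rcases hac.eq_or_lt with rfl | hlt
  · exact redLE_refl _
  · have := (h.2 c hlt hcb.le).2
    rw [R.Q_add a c b] at this ⊢
    exact (redLE_seesaw _ _).1 this

/-- The reduced polynomial of the last factor is a lower bound for all quotients. -/
theorem IsHN.quot_ge {a : α} {s : LTSeries α} (h : R.IsHN a s) (i₀ : Fin s.length)
    (hi₀ : i₀.val + 1 = s.length) (c : α) (hc : a ≤ c) :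
    RedLE R.d (R.Q (s i₀.castSucc) (s i₀.succ)) (R.Q c ⊤) := by
  set M := R.Q (s i₀.castSucc) (s i₀.succ) with hM
  have step : ∀ i : Fin s.length, RedLE R.d M (R.Q (c ⊔ s i.castSucc) (c ⊔ s i.succ)) := by
    intro i
    have hle : s i.castSucc ≤ s i.succ := (s.step i).le
    let e := s i.succ ⊓ (c ⊔ s i.castSucc)
    have he : R.Q (c ⊔ s i.castSucc) (c ⊔ s i.succ) = R.Q e (s i.succ) := by
      rw [show c ⊔ s i.succ = (c ⊔ s i.castSucc) ⊔ s i.succ by rw [sup_assoc, sup_eq_right.2 hle],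
        Q_sup, inf_comm]
    rw [he]
    rcases (show e ≤ s i.succ from inf_le_left).eq_or_lt with hh | hh
    · rw [hh, Q_self]
      show PolyLE _ _
      simp only [alpha, coeff_zero, mul_zero, zero_smul, smul_zero]
      exact polyLE_refl _
    · have h1 : RedLE R.d M (R.Q (s i.castSucc) (s i.succ)) := by
        rcases (show i.val ≤ i₀.val by omega).eq_or_lt with hi | hi
        · rw [Fin.ext hi]
          exact redLE_refl _
        · exact (redLT_iff_le_ne.1 (h.anti' (show i < i₀ from hi))).1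
      have h2 := (h.ss i).redLE_quot (show s i.castSucc ≤ e from le_inf hle le_sup_right) hh
      rcases (R.alpha_Q_nonneg hh.le).eq_or_lt with h0 | hpos
      · obtain ⟨N, hN⟩ := R.eval_nonneg hh.le
        refine ⟨N, fun m hm => ?_⟩
        have := hN m hm
        rw [eval_zero] at this
        simp only [eval_smul, smul_eq_mul, ← h0, zero_mul]
        exact mul_nonneg (h.pos i₀).le this
      · exact redLE_trans (h.pos i₀) (h.pos i) hpos h1 h2
  have tel : ∀ m : Fin (s.length + 1), RedLE R.d M (R.Q c (c ⊔ s m)) := by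
    intro m
    induction m using Fin.induction with
    | zero =>
      rw [show s 0 = a from h.head, sup_eq_left.2 hc, Q_self]
      show PolyLE _ _
      simp only [alpha, coeff_zero, mul_zero, zero_smul, smul_zero]
      exact polyLE_refl _
    | succ m ih =>
      rw [R.Q_add c (c ⊔ s m.castSucc)]
      obtain ⟨N1, h1⟩ := ih
      obtain ⟨N2, h2⟩ := step m
      refine ⟨max N1 N2, fun x hx => ?_⟩
      have e1 := h1 x ((le_max_left _ _).trans hx)
      have e2 := h2 x ((le_max_right _ _).trans hx)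
      simp only [eval_smul, smul_eq_mul, alpha_add, eval_add] at e1 e2 ⊢
      linarith
  have := tel (Fin.last _)
  rwa [show s (Fin.last _) = ⊤ from h.last, sup_top_eq] at this

theorem IsHN.maxD [WellFoundedGT α] {a : α} {s : LTSeries α} (h : R.IsHN a s) (hp : R.PureOver a)
    (i₀ : Fin s.length) (hi₀ : i₀.val = 0) : R.MaxD a (s i₀.succ) := by
  have ha : s i₀.castSucc = a := by
    rw [show i₀.castSucc = (0 : Fin (s.length + 1)) from Fin.ext hi₀]
    exact h.head
  have hat : a < ⊤ := ha ▸ (s.step i₀).trans_le le_top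
  obtain ⟨F, hF⟩ := exists_maxD hp hat
  suffices hFs : F = s i₀.succ from hFs ▸ hF
  classical
  have hex : ∃ m, ∃ hm : m < s.length + 1, F ≤ s ⟨m, hm⟩ := ⟨s.length, Nat.lt_succ_self _,
    le_top.trans_eq (h.last.symm.trans rfl)⟩
  obtain ⟨hj, hFj⟩ := Nat.find_spec hex
  have hj0 : Nat.find hex ≠ 0 := fun e => by
    have : F ≤ a := by
      rw [← h.head]
      exact hFj.trans_eq (congrArg s (Fin.ext (show Nat.find hex = 0 from e)))
    exact hF.1.not_ge this
  obtain ⟨t, ht⟩ := Nat.exists_eq_succ_of_ne_zero hj0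
  let i : Fin s.length := ⟨t, by omega⟩
  have hFi : F ≤ s i.succ := by
    exact hFj.trans_eq (congrArg s (Fin.ext (show Nat.find hex = t + 1 from ht)))
  have hnot : ¬ F ≤ s i.castSucc := fun hh => Nat.find_min hex (show t < Nat.find hex by omega)
    ⟨by omega, hh⟩
  have hmono : ∀ m : Fin (s.length + 1), a ≤ s m := fun m => h.head ▸ s.strictMono.monotone (Fin.zero_le m)
  have hlt : s i.castSucc < s i.castSucc ⊔ F := lt_of_le_of_ne le_sup_left fun e => hnot (e.symm ▸ le_sup_right)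
  obtain ⟨hαI, hI⟩ := (h.ss i).2 _ hlt (sup_le (s.step i).le hFi)
  have hFq : RedLE R.d (R.Q a F) (R.Q (s i.castSucc) (s i.castSucc ⊔ F)) := by
    rw [Q_sup]
    exact (hF.ss hp).redLE_quot (le_inf (hmono _) hF.1.le) (lt_of_le_of_ne inf_le_right fun e => hnot (e ▸ inf_le_left))
  have hαF := hp F hF.1
  have hFi' : RedLE R.d (R.Q a F) (R.Q (s i.castSucc) (s i.succ)) := redLE_trans hαF hαI (h.pos i) hFq hI
  have hs1 : a < s i₀.succ := ha ▸ s.step i₀
  have h1F : RedLE R.d (R.Q (s i₀.castSucc) (s i₀.succ)) (R.Q a F) := by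
    rw [ha]
    exact (hF.2 _ hs1).1
  have hi : i = i₀ := by
    by_contra hne
    have hlt' : i₀ < i := Fin.lt_def.2 (by
      rcases Nat.eq_zero_or_pos t with h0 | h0
      · exact absurd (Fin.ext (by simp only [i]; omega)) hne
      · simp only [i]; omega)
    exact not_redLE_iff.2 (redLT_trans_le (h.pos i) (h.pos i₀) hαF (h.anti' hlt') h1F) hFi'
  rw [hi] at hFi hFi'
  refine le_antisymm hFi ((hF.2 _ hs1).2 ?_)
  rw [← ha]
  rw [← ha] at hFi'
  rw [← ha] at h1F
  exact redLE_antisymm h1F hFi'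

end RankData

end Groth.Agent.EulerLib
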