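import Groth.Agent.EulerLib.RankLattice

/-!
# Existence and uniqueness of Harder-Narasimhan series; semistable sublattice
-/

set_option autoImplicit false

open Polynomial StabCat

namespace Groth.Agent.EulerLib

/-- Prepend an element to a series. -/
noncomputable def consSeries {α : Type*} [Preorder α] (a : α) (s : LTSeries α) (h : a < s.head) :
    LTSeries α where
  length := s.length + 1
  toFun := Fin.cons a s.toFun
  step i := by
    induction i using Fin.cases with
    | zero => exact h
    | succ i =>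
      show (Fin.cons a s.toFun : Fin (s.length + 2) → α) i.succ.castSucc <
        (Fin.cons a s.toFun : Fin (s.length + 2) → α) i.succ.succ
      rw [← Fin.succ_castSucc, Fin.cons_succ, Fin.cons_succ]
      exact s.step i

namespace RankData

variable {α : Type*} [Lattice α] [BoundedOrder α] {R : RankData α} [WellFoundedGT α]

/-- Existence of Harder-Narasimhan series. -/
theorem exists_isHN : ∀ (a : α), R.PureOver a → ∃ s, R.IsHN a s := by
  intro a
  induction a using WellFoundedGT.induction with
  | ind a ih =>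
    intro hp
    rcases (le_top : a ≤ ⊤).eq_or_lt with h | h
    · exact ⟨RelSeries.singleton _ a, rfl, h, fun i => i.elim0, fun i => i.elim0⟩
    · obtain ⟨b, hb⟩ := exists_maxD hp h
      obtain ⟨s, hs⟩ := ih b hb.1 (hb.pureOver hp)
      refine ⟨consSeries a s (hb.1.trans_eq hs.head.symm), rfl, ?_, ?_, ?_⟩
      · show (Fin.cons a s.toFun : Fin (s.length + 2) → α) (Fin.last (s.length + 1)) = ⊤
        rw [← Fin.succ_last, Fin.cons_succ]
        exact hs.last
      · intro i
        show R.SS ((Fin.cons a s.toFun : Fin (s.length + 2) → α) (Fin.castSucc i))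
          ((Fin.cons a s.toFun : Fin (s.length + 2) → α) (Fin.succ i))
        induction i using Fin.cases with
        | zero =>
          rw [Fin.castSucc_zero, Fin.cons_zero, Fin.cons_succ, show s.toFun 0 = b from hs.head]
          exact hb.ss hp
        | succ i =>
          rw [← Fin.succ_castSucc, Fin.cons_succ, Fin.cons_succ]
          exact hs.ss i
      · intro i j hij
        show RedLT R.d (R.Q ((Fin.cons a s.toFun : Fin (s.length + 2) → α) (Fin.castSucc j))
            ((Fin.cons a s.toFun : Fin (s.length + 2) → α) (Fin.succ j)))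
          (R.Q ((Fin.cons a s.toFun : Fin (s.length + 2) → α) (Fin.castSucc i))
            ((Fin.cons a s.toFun : Fin (s.length + 2) → α) (Fin.succ i)))
        induction j using Fin.cases with
        | zero => exact absurd hij (by simp)
        | succ j =>
          rw [← Fin.succ_castSucc, Fin.cons_succ, Fin.cons_succ]
          induction i using Fin.cases with
          | zero =>
            have hj : j.castSucc = 0 := Fin.ext (by simpa using hij.symm)
            have hlt : b < s j.succ := hs.head ▸ (show s 0 < s j.succ from s.strictMono (Fin.succ_pos j))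
            rw [Fin.castSucc_zero, Fin.cons_zero, Fin.cons_succ, hj, show s.toFun 0 = b from hs.head]
            exact hb.redLT hp hlt
          | succ i =>
            rw [← Fin.succ_castSucc, Fin.cons_succ, Fin.cons_succ]
            exact hs.anti i j (by simpa using hij)

/-- Uniqueness of Harder-Narasimhan series. -/
theorem IsHN.unique : ∀ (a : α) (s t : LTSeries α), R.PureOver a → R.IsHN a s → R.IsHN a t → s = t := by
  intro a
  induction a using WellFoundedGT.induction with
  | ind a ih =>
    rintro ⟨n, f, hf⟩ ⟨m, g, hg⟩ hp hs ht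
    have hs0 : f 0 = a := hs.head
    have ht0 : g 0 = a := ht.head
    have hsl : f (Fin.last n) = ⊤ := hs.last
    have htl : g (Fin.last m) = ⊤ := ht.last
    match n, m, f, g, hf, hg, hs, ht, hs0, ht0, hsl, htl with
    | 0, 0, f, g, _, _, _, _, hs0, ht0, _, _ =>
      obtain rfl : f = g := funext fun i => by rw [show i = (0 : Fin (0 + 1)) from Fin.ext (by omega), hs0, ht0]
      rfl
    | 0, m + 1, f, g, _, hg, _, _, hs0, ht0, hsl, _ =>
      have h0 : a < g (Fin.succ 0) := ht0 ▸ hg 0
      rw [← hs0, show (0 : Fin 1) = Fin.last 0 from rfl, hsl] at h0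
      exact absurd h0 not_top_lt
    | n + 1, 0, f, g, hf, _, _, _, hs0, ht0, _, htl =>
      have h0 : a < f (Fin.succ 0) := hs0 ▸ hf 0
      rw [← ht0, show (0 : Fin 1) = Fin.last 0 from rfl, htl] at h0
      exact absurd h0 not_top_lt
    | n + 1, m + 1, f, g, hf, hg, hs, ht, hs0, ht0, hsl, htl =>
      have hM := hs.maxD hp ⟨0, n.succ_pos⟩ rfl
      have hb : f (Fin.succ 0) = g (Fin.succ 0) := hM.unique (ht.maxD hp ⟨0, m.succ_pos⟩ rfl)
      have hM' : R.MaxD a (f (Fin.succ 0)) := hM
      let s' : LTSeries α :=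
        { length := n, toFun := fun i => f i.succ, step := fun i => by
            show f i.castSucc.succ < f i.succ.succ
            rw [Fin.succ_castSucc]
            exact hf i.succ }
      let t' : LTSeries α :=
        { length := m, toFun := fun i => g i.succ, step := fun i => by
            show g i.castSucc.succ < g i.succ.succ
            rw [Fin.succ_castSucc]
            exact hg i.succ }
      have hs' : R.IsHN (f (Fin.succ 0)) s' := by
        refine ⟨rfl, hsl, fun i => ?_, fun i j hij => ?_⟩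
        · show R.SS (f i.castSucc.succ) (f i.succ.succ)
          rw [Fin.succ_castSucc]
          exact hs.ss i.succ
        · show RedLT R.d (R.Q (f j.castSucc.succ) (f j.succ.succ)) (R.Q (f i.castSucc.succ) (f i.succ.succ))
          rw [Fin.succ_castSucc, Fin.succ_castSucc]
          exact hs.anti i.succ j.succ (by simpa using hij)
      have ht' : R.IsHN (f (Fin.succ 0)) t' := by
        refine ⟨hb.symm, htl, fun i => ?_, fun i j hij => ?_⟩
        · show R.SS (g i.castSucc.succ) (g i.succ.succ)
          rw [Fin.succ_castSucc]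
          exact ht.ss i.succ
        · show RedLT R.d (R.Q (g j.castSucc.succ) (g j.succ.succ)) (R.Q (g i.castSucc.succ) (g i.succ.succ))
          rw [Fin.succ_castSucc, Fin.succ_castSucc]
          exact ht.anti i.succ j.succ (by simpa using hij)
      have e := ih _ hM'.1 s' t' (hM'.pureOver hp) hs' ht'
      obtain rfl : n = m := congrArg RelSeries.length e
      obtain rfl : f = g := by
        funext i
        induction i using Fin.cases with
        | zero => rw [hs0, ht0]
        | succ i =>
          have he : (fun i : Fin (n + 1) => f i.succ) = fun i => g i.succ := by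
            simpa [s', t', RelSeries.mk.injEq] using e
          exact congrFun he i
      rfl

/-- A saturated enlargement with the same multiplicity. -/
theorem exists_saturation {a c : α} (hac : a ≤ c) :
    ∃ b, c ≤ b ∧ alpha R.d (R.Q a b) = alpha R.d (R.Q a c) ∧ R.PureOver b := by
  obtain ⟨b, ⟨hcb, he⟩, hmax⟩ := (wellFounded_gt (α := α)).has_min
    {b | c ≤ b ∧ alpha R.d (R.Q a b) = alpha R.d (R.Q a c)} ⟨c, le_rfl, rfl⟩
  refine ⟨b, hcb, he, fun e hbe => lt_of_le_of_ne (R.alpha_Q_nonneg hbe.le) fun h0 => hmax e ⟨hcb.trans hbe.le, ?_⟩ hbe⟩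
  rw [R.Q_add a b e, alpha_add, ← h0, add_zero, he]

omit [WellFoundedGT α]

section Good

variable (R)

/-- Elements with the reduced polynomial of the top. -/
def Good (a : α) : Prop := a = ⊥ ∨ RedEq R.d (R.Q ⊥ a) (R.Q ⊥ ⊤)

variable {R}

theorem good_iff_eval {a : α} : R.Good a ↔ RedEq R.d (R.Q ⊥ a) (R.Q ⊥ ⊤) := by
  refine ⟨fun h => ?_, Or.inr⟩
  rcases h with rfl | h
  · simp [RedEq, alpha]
  · exact h

theorem ss_redLE (hss : R.SS ⊥ ⊤) (a : α) : RedLE R.d (R.Q ⊥ a) (R.Q ⊥ ⊤) := by
  rcases (bot_le : ⊥ ≤ a).eq_or_lt with rfl | h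
  · rw [Q_self]
    show PolyLE _ _
    simp only [alpha, coeff_zero, mul_zero, zero_smul, smul_zero]
    exact polyLE_refl _
  · exact (hss.2 a h le_top).2

theorem good_sup_inf (hss : R.SS ⊥ ⊤) {a b : α} (ha : R.Good a) (hb : R.Good b) :
    R.Good (a ⊔ b) ∧ R.Good (a ⊓ b) := by
  rw [good_iff_eval] at ha hb
  simp only [good_iff_eval]
  have hsum : R.Q ⊥ (a ⊔ b) + R.Q ⊥ (a ⊓ b) = R.Q ⊥ a + R.Q ⊥ b := by
    have := R.modular a b
    simp only [Q]
    linear_combination this
  have e1 := (ss_redLE hss (a ⊔ b))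
  have e2 := (ss_redLE hss (a ⊓ b))
  set T := R.Q ⊥ (⊤ : α)
  set U := R.Q ⊥ (a ⊔ b)
  set V := R.Q ⊥ (a ⊓ b)
  set A := R.Q ⊥ a
  set B := R.Q ⊥ b
  have hα : alpha R.d U + alpha R.d V = alpha R.d A + alpha R.d B := by rw [← alpha_add, hsum, alpha_add]
  have hadd : alpha R.d T • U + alpha R.d T • V = alpha R.d U • T + alpha R.d V • T := by
    rw [← smul_add, hsum, smul_add, show alpha R.d T • A = alpha R.d A • T from ha,
      show alpha R.d T • B = alpha R.d B • T from hb, ← add_smul, ← add_smul, hα]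
  refine ⟨polyLE_antisymm e1 ?_, polyLE_antisymm e2 ?_⟩
  · obtain ⟨N, hN⟩ := e2
    refine ⟨N, fun m hm => ?_⟩
    have h1 := congrArg (fun p : ℚ[X] => p.eval (m : ℚ)) hadd
    have h2 := hN m hm
    simp only [eval_add] at h1
    linarith
  · obtain ⟨N, hN⟩ := e1
    refine ⟨N, fun m hm => ?_⟩
    have h1 := congrArg (fun p : ℚ[X] => p.eval (m : ℚ)) hadd
    have h2 := hN m hm
    simp only [eval_add] at h1
    linarith

theorem good_diff {a b : α} (ha : R.Good a) (hb : R.Good b) :
    RedEq R.d (R.Q a b) (R.Q ⊥ ⊤) := by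
  rw [good_iff_eval] at ha hb
  show alpha R.d _ • R.Q a b = alpha R.d (R.Q a b) • _
  have e : R.Q a b = R.Q ⊥ b - R.Q ⊥ a := by simp only [Q]; ring
  rw [e, smul_sub, show alpha R.d (R.Q ⊥ (⊤ : α)) • R.Q ⊥ b = _ from hb,
    show alpha R.d (R.Q ⊥ (⊤ : α)) • R.Q ⊥ a = _ from ha, ← sub_smul]
  congr 1
  simp [alpha, mul_sub]

theorem good_of_diff {a b : α} (ha : R.Good a) (h : RedEq R.d (R.Q a b) (R.Q ⊥ ⊤)) : R.Good b := by
  rw [good_iff_eval] at ha ⊢
  show alpha R.d _ • R.Q ⊥ b = alpha R.d (R.Q ⊥ b) • _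
  rw [R.Q_add ⊥ a b, smul_add, show alpha R.d (R.Q ⊥ (⊤ : α)) • R.Q ⊥ a = _ from ha,
    show alpha R.d (R.Q ⊥ (⊤ : α)) • R.Q a b = _ from h, ← add_smul, ← alpha_add]

/-- In a semistable lattice, good elements cut out pure semistable intervals. -/
theorem good_pos (hss : R.SS ⊥ ⊤) {a b : α} (ha : R.Good a) (hab : a < b) :
    0 < alpha R.d (R.Q a b) := by
  refine lt_of_le_of_ne (R.alpha_Q_nonneg hab.le) fun h0 => ?_
  have h := ss_redLE hss b
  rw [good_iff_eval] at ha
  have hb : alpha R.d (R.Q ⊥ b) = alpha R.d (R.Q ⊥ a) := by rw [R.Q_add ⊥ a b, alpha_add, ← h0, add_zero]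
  have hT : 0 < alpha R.d (R.Q ⊥ (⊤ : α)) := (hss.2 ⊤ hss.1 le_rfl).1
  rw [RedLE, hb, ← show alpha R.d (R.Q ⊥ (⊤ : α)) • R.Q ⊥ a = _ from ha, polyLE_smul hT, polyLE_iff,
    show R.Q ⊥ a - R.Q ⊥ b = -(R.P b - R.P a) from by simp only [Q]; ring, leadingCoeff_neg] at h
  linarith [R.strict a b hab]

/-- The stable intervals between good elements. -/
def Stable (R : RankData α) (a b : α) : Prop :=
  a < b ∧ ∀ c, a < c → c < b → RedLT R.d (R.Q a c) (R.Q a b)

theorem good_stable (hss : R.SS ⊥ ⊤) {a b : α} (ha : R.Good a) (hb : R.Good b) (hab : a < b)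
    (hcov : ∀ c, R.Good c → a < c → ¬ c < b) : R.Stable a b := by
  refine ⟨hab, fun c hac hcb => ?_⟩
  have hαc := good_pos hss ha hac
  have hαb := good_pos hss ha hab
  have hαT : 0 < alpha R.d (R.Q ⊥ (⊤ : α)) := (hss.2 ⊤ hss.1 le_rfl).1
  have hle : RedLE R.d (R.Q a c) (R.Q ⊥ ⊤) := by
    have h := ss_redLE hss c
    rw [good_iff_eval] at ha
    rw [R.Q_add ⊥ a c] at h
    obtain ⟨N, hN⟩ := h
    refine ⟨N, fun m hm => ?_⟩
    have h1 := hN m hm
    have h2 := congrArg (fun p : ℚ[X] => p.eval (m : ℚ)) ha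
    simp only [eval_smul, smul_eq_mul, eval_add, alpha_add] at h1 h2 ⊢
    linarith
  refine redLT_iff_le_ne.2 ⟨redLE_trans hαc hαT hαb hle (redLE_of_eq (redEq_symm (good_diff ha hb))), fun e => ?_⟩
  refine hcov c (good_of_diff ha ?_) hac hcb
  rw [redEq_iff hαc hαT, (redEq_iff hαc hαb).1 e, ← redEq_iff hαb hαT]
  exact good_diff ha hb

end Good

end RankData

end Groth.Agent.EulerLib
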