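import Groth.Agent.EulerLib.StabSub
import Mathlib.Order.JordanHolder

/-!
# Filtrations of coherent sheaves as series of coherent submodules
-/

set_option autoImplicit false
set_option linter.style.haveILetI false
set_option linter.unusedSectionVars false

universe u

open CategoryTheory CategoryTheory.Limits AlgebraicGeometry StabCat
open Groth.Agent.Coherent

namespace Groth.Agent.EulerLib

variable {X : Scheme.{u}} [AlgebraicGeometry.IsNoetherian X]

theorem cohSub_series_coh {E : X.Modules} (s : LTSeries (Subobject E)) (h0 : s.head = ⊥)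
    (hf : ∀ i, Coh.IsCoh (factor s i)) : ∀ m, Coh.IsCoh ((s m : Subobject E) : X.Modules) := by
  intro m
  induction m using Fin.induction with
  | zero =>
    rw [show s 0 = ⊥ from h0]
    exact isCoh_of_isZero ((isZero_zero X.Modules).of_iso Subobject.botCoeIsoZero)
  | succ m ih =>
    exact isCoh_X₂ (shortExact_cokernel (Subobject.ofLE (s m.castSucc) (s m.succ) (le_of_lt (s.step m))))
      ih (hf m)

/-- A chain of coherent subobjects as a series of coherent submodules. -/
def toCohSeries {E : X.Modules} (hE : Coh.IsCoh E) (s : LTSeries (Subobject E))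
    (h : ∀ m, Coh.IsCoh ((s m : Subobject E) : X.Modules)) : LTSeries (CohSub hE) where
  length := s.length
  toFun m := ⟨s m, h m⟩
  step i := show s i.castSucc < s i.succ from s.step i

/-- The underlying chain of subobjects. -/
def ofCohSeries {E : X.Modules} {hE : Coh.IsCoh E} (s : LTSeries (CohSub hE)) :
    LTSeries (Subobject E) where
  length := s.length
  toFun m := (s m).1
  step i := show (s i.castSucc).1 < (s i.succ).1 from s.step i

/-- Replace the source of a factor by an equal submodule. -/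
noncomputable def cokerCongr {E : X.Modules} {a a' b b' : Subobject E} (h : a = a') (h' : b = b')
    (p : a ≤ b) (p' : a' ≤ b') : cokernel (Subobject.ofLE a b p) ≅ cokernel (Subobject.ofLE a' b' p') :=
  eqToIso (by subst h; subst h'; rfl)

/-- The factor below the top. -/
noncomputable def cokerTopIso {E : X.Modules} (b : Subobject E) :
    cokernel (Subobject.ofLE b ⊤ le_top) ≅ cokernel b.arrow :=
  (cokernelCompIsIso (Subobject.ofLE b ⊤ le_top) (⊤ : Subobject E).arrow).symm ≪≫
    cokernelIsoOfEq (Subobject.ofLE_arrow _)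

theorem polyLE_trans_lt {P Q R : Polynomial ℚ} (h : PolyLE P Q) (h' : PolyLT Q R) : PolyLT P R := by
  obtain ⟨N, hN⟩ := h
  obtain ⟨M, hM⟩ := h'
  exact ⟨max N M, fun m hm => (hN m ((le_max_left _ _).trans hm)).trans_lt (hM m ((le_max_right _ _).trans hm))⟩

section Rank

variable (k : Type u) [Field k] [X.Over (Spec (CommRingCat.of k))] [IsProper (X ↘ Spec (CommRingCat.of k))]
  {L : X.Modules} (hL : CohB1.IsAmple L) {d : ℕ}

section

variable {E : X.Modules} (hE : Coh.IsCoh E) (hp' : ShStab.IsPure X E d)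

/-- The rank data of a pure module. -/
noncomputable abbrev stabData : RankData (CohSub hE) :=
  rankData k hL hE d (dim_le_of_pure k hE hp')

theorem Q_factor (A B : CohSub hE) (h : A ≤ B) {p : Polynomial ℚ}
    (hp : ShStab.IsHilbPoly k X L (cokernel (Subobject.ofLE A.1 B.1 h)) p) :
    (stabData k hL hE hp').Q A B = p :=
  Q_eq_of_factor k hL h hp

theorem isHN_toCoh (s : LTSeries (Subobject E)) (hs : ShStab.IsHNFiltration k X L E d s)
    (h : ∀ m, Coh.IsCoh ((s m : Subobject E) : X.Modules)) :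
    (stabData k hL hE hp').IsHN ⊥ (toCohSeries hE s h) where
  head := Subtype.ext hs.1
  last := Subtype.ext hs.2.1
  ss i := ss_of_isSemistable k hL _ (hs.2.2.1 i)
  anti i j hij := by
    have ej := Q_factor k hL hE hp' ⟨s j.castSucc, h _⟩ ⟨s j.succ, h _⟩ (le_of_lt (s.step j))
      (isHilbPoly_hp k hL _ (hs.2.2.1 j).1)
    have ei := Q_factor k hL hE hp' ⟨s i.castSucc, h _⟩ ⟨s i.succ, h _⟩ (le_of_lt (s.step i))
      (isHilbPoly_hp k hL _ (hs.2.2.1 i).1)
    show RedLT _ ((stabData k hL hE hp').Q ⟨s j.castSucc, h _⟩ ⟨s j.succ, h _⟩)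
      ((stabData k hL hE hp').Q ⟨s i.castSucc, h _⟩ ⟨s i.succ, h _⟩)
    rw [ej, ei]
    exact hs.2.2.2 i j hij _ _ (isHilbPoly_hp k hL _ _) (isHilbPoly_hp k hL _ _)

theorem isHN_ofCoh (s : LTSeries (CohSub hE)) (hs : (stabData k hL hE hp').IsHN ⊥ s) :
    ShStab.IsHNFiltration k X L E d (ofCohSeries s) := by
  refine ⟨congrArg Subtype.val hs.head, congrArg Subtype.val hs.last,
    fun i => isSemistable_of_ss k hL (s.step i).le (hs.ss i), fun i j hij p q hp hq => ?_⟩
  have := hs.anti i j hij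
  show RedLT d q p
  rw [← Q_factor k hL hE hp' (s i.castSucc) (s i.succ) (s.step i).le hp,
    ← Q_factor k hL hE hp' (s j.castSucc) (s j.succ) (s.step j).le hq]
  exact this

theorem ss_bot_top (hs : ShStab.IsSemistable k X L E d) : (stabData k hL hE hp').SS ⊥ ⊤ := by
  refine ⟨bot_lt_top_of_ne hs.2.1, fun c hc _ => ⟨pureOver_bot k hL hp' c hc, ?_⟩⟩
  rcases (le_top : c ≤ ⊤).eq_or_lt with rfl | hlt
  · exact redLE_refl _
  · rw [Q_bot k hL c]
    refine hs.2.2.2 _ c.1.arrow inferInstance c.2 (not_isZero_of_bot_lt hc) (fun hi => hlt.ne ?_) _ _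
      (isHilbPoly_hp k hL _ c.2) (isHilbPoly_top k hL)
    exact Subtype.ext (Subobject.eq_top_of_isIso_arrow c.1)

include hE hp' hL in
/-- Saturation of a submodule, in terms of sheaves. -/
theorem saturation_cases {F : X.Modules} (ι : F ⟶ E) [Mono ι] (hF : Coh.IsCoh F) (h0 : ¬ IsZero F)
    (hni : ¬ IsIso ι) {pF pE : Polynomial ℚ} (hpF : ShStab.IsHilbPoly k X L F pF)
    (hpE : ShStab.IsHilbPoly k X L E pE) :
    0 < alpha d pF ∧ 0 < alpha d pE ∧ ((alpha d pF = alpha d pE ∧ PolyLT pF pE) ∨
      ∃ (G : X.Modules) (κ : G ⟶ E) (pG : Polynomial ℚ), Mono κ ∧ Coh.IsCoh G ∧ ¬ IsZero G ∧ ¬ IsIso κ ∧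
        ShStab.IsPure X (cokernel κ) d ∧ ShStab.IsHilbPoly k X L G pG ∧
        alpha d pG = alpha d pF ∧ PolyLE pF pG) := by
  have hC := bot_lt_mk (hE := hE) ι hF h0
  have eF : (stabData k hL hE hp').Q ⊥ (CohSub.mk ι hF) = pF := Q_bot_mk k hL ι hF hpF
  have eT : (stabData k hL hE hp').Q ⊥ ⊤ = pE := isHilbPoly_unique k (isHilbPoly_top k hL) hpE
  refine ⟨alpha_pos_of_sub k hL hp' ι hF h0 hpF, alpha_pos_of_sub k hL hp' (𝟙 E) hE (fun hz => h0
    (IsZero.of_mono ι hz)) hpE, ?_⟩
  obtain ⟨b, hcb, hα, hpure⟩ := RankData.exists_saturation (R := stabData k hL hE hp') hC.le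
  rw [eF] at hα
  rcases (le_top : b ≤ ⊤).eq_or_lt with rfl | hlt
  · refine Or.inl ⟨by rw [← eT]; exact hα.symm, ?_⟩
    have hne : CohSub.mk (hE := hE) ι hF ≠ ⊤ := fun e => hni
      ((Subobject.isIso_iff_mk_eq_top ι).2 (congrArg Subtype.val e))
    have := (stabData k hL hE hp').strict _ ⊤ (lt_of_le_of_ne le_top hne)
    rw [polyLT_iff, ← eT, ← eF]
    convert this using 2
    simp only [RankData.Q]
    ring
  · refine Or.inr ⟨(b.1 : X.Modules), b.1.arrow, _, inferInstance, b.2, not_isZero_of_bot_lt (hC.trans_le hcb),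
      fun hi => hlt.ne (Subtype.ext (Subobject.eq_top_of_isIso_arrow b.1)), ?_,
      isHilbPoly_hp k hL _ b.2, (congrArg (alpha d) (Q_bot k hL b)).symm.trans hα, ?_⟩
    · exact isPure_of_mono (isPure_factor k hL (hlt.le) fun C hC _ => hpure C hC) (cokerTopIso b.1).inv
    · have eb : (stabData k hL hE hp').Q ⊥ b = hp k hL _ b.2 := Q_bot k hL b
      rw [← eF, ← eb, polyLE_iff]
      have := (stabData k hL hE hp').eval_nonneg hcb
      rw [polyLE_iff, sub_zero] at this
      convert this using 2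
      simp only [RankData.Q]
      ring

/-- Filtrations by good submodules with stable steps. -/
theorem exists_good_series (hss : (stabData k hL hE hp').SS ⊥ ⊤) :
    ∀ a, (stabData k hL hE hp').Good a → ∃ s : LTSeries (CohSub hE), s.head = a ∧ s.last = ⊤ ∧
      (∀ m, (stabData k hL hE hp').Good (s m)) ∧
      ∀ i : Fin s.length, (stabData k hL hE hp').Stable (s i.castSucc) (s i.succ) := by
  classical
  set R := stabData k hL hE hp'
  intro a
  induction a using WellFoundedGT.induction with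
  | ind a ih =>
    intro ha
    rcases (le_top : a ≤ ⊤).eq_or_lt with h | h
    · exact ⟨RelSeries.singleton _ a, rfl, h, fun _ => ha, fun i => i.elim0⟩
    · have hT : R.Good ⊤ := Or.inr rfl
      choose n hn using fun c => R.int c
      have hex : ∃ v : ℕ, ∃ c, R.Good c ∧ a < c ∧ (n c - n a).toNat = v := ⟨_, ⊤, hT, h, rfl⟩
      obtain ⟨b, hb, hab, hv⟩ := Nat.find_spec hex
      have hcov : ∀ c, R.Good c → a < c → ¬ c < b := fun c hc hac hcb => by
        have h1 := RankData.good_pos hss hc hcb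
        have h2 := RankData.good_pos hss ha hac
        rw [R.alpha_Q, hn, hn, sub_pos, Int.cast_lt] at h1 h2
        have := Nat.find_min' hex ⟨c, hc, hac, rfl⟩
        omega
      obtain ⟨s, hh, hl, hg, hst⟩ := ih b hab hb
      refine ⟨consSeries a s (hab.trans_eq hh.symm), rfl, ?_, ?_, ?_⟩
      · show (Fin.cons a s.toFun : Fin (s.length + 2) → CohSub hE) (Fin.last (s.length + 1)) = ⊤
        rw [← Fin.succ_last, Fin.cons_succ]
        exact hl
      · intro m
        show R.Good ((Fin.cons a s.toFun : Fin (s.length + 2) → CohSub hE) m)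
        induction m using Fin.cases with
        | zero => exact ha
        | succ m => exact hg m
      · intro i
        show R.Stable ((Fin.cons a s.toFun : Fin (s.length + 2) → CohSub hE) (Fin.castSucc i))
          ((Fin.cons a s.toFun : Fin (s.length + 2) → CohSub hE) (Fin.succ i))
        induction i using Fin.cases with
        | zero =>
          rw [Fin.castSucc_zero, Fin.cons_zero, Fin.cons_succ, show s.toFun 0 = b from hh]
          exact RankData.good_stable hss ha hb hab hcov
        | succ i =>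
          rw [← Fin.succ_castSucc, Fin.cons_succ, Fin.cons_succ]
          exact hst i

theorem isJH_ofCoh (hss : (stabData k hL hE hp').SS ⊥ ⊤) (s : LTSeries (CohSub hE)) (hh : s.head = ⊥)
    (hl : s.last = ⊤) (hg : ∀ m, (stabData k hL hE hp').Good (s m))
    (hst : ∀ i : Fin s.length, (stabData k hL hE hp').Stable (s i.castSucc) (s i.succ)) :
    ShStab.IsJHFiltration k X L E d (ofCohSeries s) := by
  refine ⟨congrArg Subtype.val hh, congrArg Subtype.val hl, fun i =>
    ⟨isStable_of_stable k hL (s.step i).le (fun C hC _ => RankData.good_pos hss (hg _) hC) (hst i),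
      fun p q hp hq => ?_⟩⟩
  rw [← Q_factor k hL hE hp' _ _ (s.step i).le hp, isHilbPoly_unique k hq (isHilbPoly_top k hL)]
  exact RankData.good_diff (hg _) (hg _)

include k hL in
/-- The second isomorphism theorem. -/
theorem second_iso (x y : CohSub hE) :
    Nonempty (cokernel (Subobject.ofLE (x ⊓ y).1 y.1 (show x ⊓ y ≤ y from inf_le_right)) ≅
      cokernel (Subobject.ofLE x.1 (x ⊔ y).1 (show x ≤ x ⊔ y from le_sup_left))) := by
  let a := Subobject.ofLE (x ⊓ y).1 y.1 (show x ⊓ y ≤ y from inf_le_right)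
  let b := Subobject.ofLE x.1 (x ⊔ y).1 (show x ≤ x ⊔ y from le_sup_left)
  let c := Subobject.ofLE y.1 (x ⊔ y).1 (show y ≤ x ⊔ y from le_sup_right)
  let u : (x.1 : X.Modules) ⊞ (y.1 : X.Modules) ⟶ ((x ⊔ y).1 : X.Modules) :=
    Abelian.factorThruImage (CohSub.sumMap x y) ≫ (Subobject.underlyingIso _).inv
  have hu : u ≫ (x ⊔ y).1.arrow = CohSub.sumMap x y :=
    (Category.assoc _ _ _).trans (((Abelian.factorThruImage _) ≫= Subobject.underlyingIso_arrow _).trans
      (Abelian.image.fac _))
  haveI : Epi u := epi_comp _ _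
  have h1 : biprod.inl ≫ u = b := by
    rw [← cancel_mono (x ⊔ y).1.arrow, Category.assoc, hu, biprod.inl_desc, Subobject.ofLE_arrow]
  have h2 : biprod.inr ≫ u = c := by
    rw [← cancel_mono (x ⊔ y).1.arrow, Category.assoc, hu, biprod.inr_desc, Subobject.ofLE_arrow]
  have hac : a ≫ c ≫ cokernel.π b = 0 := by
    have : a ≫ c = Subobject.ofLE (x ⊓ y).1 x.1 (show x ⊓ y ≤ x from inf_le_left) ≫ b := by
      rw [Subobject.ofLE_comp_ofLE, Subobject.ofLE_comp_ofLE]
    rw [← Category.assoc, this, Category.assoc, cokernel.condition, Limits.comp_zero]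
  let ψ := cokernel.desc a (c ≫ cokernel.π b) hac
  haveI : Epi ψ := by
    haveI : Epi (c ≫ cokernel.π b) := by
      refine Preadditive.epi_of_cancel_zero _ fun {P} t ht => ?_
      rw [← cancel_epi (cokernel.π b), Limits.comp_zero, ← cancel_epi u, Limits.comp_zero]
      apply biprod.hom_ext'
      · rw [← Category.assoc, h1, ← Category.assoc, cokernel.condition, Limits.zero_comp, Limits.comp_zero]
      · rw [← Category.assoc, h2, Limits.comp_zero, ← Category.assoc]
        exact ht
    exact epi_of_epi_fac (cokernel.π_desc a (c ≫ cokernel.π b) hac)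
  have hA := isCoh_cokernel a (x ⊓ y).2.1 y.2
  have hB := isCoh_cokernel b x.2.1 (x ⊔ y).2
  have hK := isCoh_kernel ψ hA hB.1
  have he := hp_ses k hL (shortExact_kernel ψ) hK hA hB
  have e1 : hp k hL _ hA = hp k hL _ hB := by
    rw [← CohSub.hilb_sub k hL (A := x ⊓ y) (B := y) inf_le_right,
      ← CohSub.hilb_sub k hL (A := x) (B := x ⊔ y) le_sup_left]
    have := CohSub.modular k hL x y
    linear_combination -this
  have h0 : hp k hL _ hK = 0 := by
    rw [e1] at he
    linear_combination -he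
  haveI : Mono ψ := Preadditive.mono_of_isZero_kernel ψ
    ((hilb_eq_zero_iff k hL hK (isHilbPoly_hp k hL _ hK)).1 h0)
  haveI := isIso_of_mono_of_epi ψ
  exact ⟨asIso ψ⟩

/-- Jordan-Hölder series have the same graded object. -/
theorem jh_unique (hss : (stabData k hL hE hp').SS ⊥ ⊤) (s t : LTSeries (Subobject E))
    (hs : ShStab.IsJHFiltration k X L E d s) (ht : ShStab.IsJHFiltration k X L E d t) :
    s.length = t.length ∧ Nonempty (StabCat.grObj s ≅ StabCat.grObj t) := by
  classical
  set R := stabData k hL hE hp'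
  haveI : IsModularLattice (CohSub hE) := R.isModular
  letI : Lattice {a : CohSub hE // R.Good a} :=
    Subtype.lattice (fun _ _ ha hb => (RankData.good_sup_inf hss ha hb).1)
      (fun _ _ ha hb => (RankData.good_sup_inf hss ha hb).2)
  haveI : IsModularLattice {a : CohSub hE // R.Good a} :=
    ⟨fun {x} y {z} h => sup_inf_le_assoc_of_le (α := CohSub hE) y.1 h⟩
  have key : ∀ s : LTSeries (Subobject E), ShStab.IsJHFiltration k X L E d s →
      ∃ c : CompositionSeries {a : CohSub hE // R.Good a}, c.head.1 = ⊥ ∧ c.last.1 = ⊤ ∧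
        ∃ hl : c.length = s.length, ∀ i : Fin c.length,
          (c i.castSucc).1.1 = s (i.cast hl).castSucc ∧ (c i.succ).1.1 = s (i.cast hl).succ := by
    intro s hs
    have hcoh := cohSub_series_coh s hs.1 fun i => (hs.2.2 i).1.1
    let s' := toCohSeries hE s hcoh
    have hdiff : ∀ i : Fin s.length, RedEq d (R.Q (s' i.castSucc) (s' i.succ)) (R.Q ⊥ ⊤) := fun i => by
      rw [show R.Q (s' i.castSucc) (s' i.succ) = hp k hL _ (hs.2.2 i).1.1 from
        Q_factor k hL hE hp' (s' i.castSucc) (s' i.succ) (s'.step i).le (isHilbPoly_hp k hL _ _)]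
      exact (hs.2.2 i).2 _ _ (isHilbPoly_hp k hL _ _) (isHilbPoly_top k hL)
    have hg : ∀ m, R.Good (s' m) := fun m => by
      induction m using Fin.induction with
      | zero => exact Or.inl (Subtype.ext hs.1)
      | succ m ih => exact RankData.good_of_diff ih (hdiff m)
    refine ⟨{ length := s.length, toFun := fun m => ⟨s' m, hg m⟩, step := fun i => ?_ },
      Subtype.ext hs.1, Subtype.ext hs.2.1, rfl, fun i => ⟨rfl, rfl⟩⟩
    refine ⟨s'.step i, fun c hac hcb => ?_⟩
    have h1 : s' i.castSucc < c.1 := hac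
    have h2 : c.1 < s' i.succ := hcb
    have hαT : 0 < alpha d (R.Q ⊥ ⊤) := (hss.2 ⊤ hss.1 le_rfl).1
    have hα1 := RankData.good_pos hss (hg i.castSucc) h1
    have hα2 := RankData.good_pos hss (hg i.castSucc) (s'.step i)
    obtain ⟨g, ⟨e⟩⟩ := exists_image_factor h1.le h2.le
    -- stability of the step
    have hC := (hs.2.2 i).1
    have hI := isCoh_image g c.1.2 hC.1
    have hQ : R.Q (s' i.castSucc) c.1 = hp k hL _ hI := by
      have hK := isCoh_kernel (Abelian.factorThruImage g) c.1.2 hI.1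
      have eK : kernel g ≅ kernel (Abelian.factorThruImage g) :=
        kernelIsoOfEq (Abelian.image.fac _).symm ≪≫ kernelCompMono _ (Abelian.image.ι g)
      have hsum := hp_ses k hL (shortExact_kernel (Abelian.factorThruImage g)) hK c.1.2 hI
      show hp k hL _ c.1.2 - hp k hL _ (s' i.castSucc).2 = _
      rw [hp_congr k hL (e ≪≫ eK) _ hK]
      linear_combination hsum
    have hI0 : ¬ IsZero (Abelian.image g) := fun hz => by
      rw [hilb_zero k hL hz (isHilbPoly_hp k hL _ hI)] at hQ
      exact h1.ne (R.eq_of_Q_eq_zero h1.le hQ)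
    have hm : Mono (Abelian.image.ι g) := inferInstance
    have eC : R.Q (s' i.castSucc) (s' i.succ) = hp k hL _ hC.1 :=
      Q_factor k hL hE hp' (s' i.castSucc) (s' i.succ) (s'.step i).le (isHilbPoly_hp k hL _ hC.1)
    by_cases hiso : IsIso (Abelian.image.ι g)
    · refine h2.ne (R.eq_of_Q_eq_zero h2.le ?_)
      have e2 : R.Q (s' i.castSucc) c.1 = R.Q (s' i.castSucc) (s' i.succ) :=
        hQ.trans ((hp_congr k hL (@asIso _ _ _ _ _ hiso) hI hC.1).trans eC.symm)
      rw [R.Q_add (s' i.castSucc) c.1 (s' i.succ)] at e2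
      linear_combination -e2
    · have hlt : RedLT d (R.Q (s' i.castSucc) c.1) (R.Q (s' i.castSucc) (s' i.succ)) := by
        rw [hQ, eC]
        exact hC.2.2.2 _ (Abelian.image.ι g) hm hI hI0 hiso _ _ (isHilbPoly_hp k hL _ hI)
          (isHilbPoly_hp k hL _ hC.1)
      refine (redLT_iff_le_ne.1 hlt).2 ((redEq_iff hα1 hα2).2 ?_)
      exact ((redEq_iff hα1 hαT).1 (RankData.good_diff (hg i.castSucc) c.2)).trans
        ((redEq_iff hα2 hαT).1 (hdiff i)).symm
  obtain ⟨cs, hs0, hs1, hls, hse⟩ := key s hs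
  obtain ⟨ct, ht0, ht1, hlt, hte⟩ := key t ht
  obtain ⟨f, hf⟩ := CompositionSeries.jordan_holder cs ct (Subtype.ext (hs0.trans ht0.symm))
    (Subtype.ext (hs1.trans ht1.symm))
  let fac : {a : CohSub hE // R.Good a} × {a : CohSub hE // R.Good a} → X.Modules := fun p =>
    cokernel (Subobject.ofLE (p.1.1 ⊓ p.2.1).1 p.2.1.1 (show p.1.1 ⊓ p.2.1 ≤ p.2.1 from inf_le_right))
  have hrel : ∀ {p q}, JordanHolderLattice.Iso p q → Nonempty (fac p ≅ fac q) := fun {p q} h => by
    refine JordanHolderLattice.Iso.rel (fun p q => Nonempty (fac p ≅ fac q)) ⟨Iso.refl _⟩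
      (fun ⟨e⟩ => ⟨e.symm⟩) (fun ⟨e⟩ ⟨e'⟩ => ⟨e ≪≫ e'⟩) (fun {x y} _ => ?_) h
    obtain ⟨e⟩ := second_iso k hL hE x.1 y.1
    have h1 : (x.1 : CohSub hE) ⊓ ((x.1 : CohSub hE) ⊔ y.1) = x.1 := inf_eq_left.2 le_sup_left
    have h2 : ((x.1 : CohSub hE) ⊓ y.1) ⊓ y.1 = x.1 ⊓ y.1 := by rw [inf_assoc, inf_idem]
    exact ⟨cokerCongr (congrArg Subtype.val h1) rfl _ _ ≪≫ e.symm ≪≫
      cokerCongr (congrArg Subtype.val h2).symm rfl _ _⟩
  let σ : Fin s.length ≃ Fin t.length := (finCongr hls.symm).trans (f.trans (finCongr hlt))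
  refine ⟨by simpa using Fintype.card_congr σ, ⟨Sigma.whiskerEquiv σ fun i => ?_⟩⟩
  have hfac : ∀ (u : LTSeries (Subobject E)) (c : CompositionSeries {a : CohSub hE // R.Good a})
      (hl : c.length = u.length), (∀ i : Fin c.length,
        (c i.castSucc).1.1 = u (i.cast hl).castSucc ∧ (c i.succ).1.1 = u (i.cast hl).succ) →
      ∀ i : Fin c.length, Nonempty (fac (c i.castSucc, c i.succ) ≅ factor u (i.cast hl)) := by
    intro u c hl hc i
    obtain ⟨e1, e2⟩ := hc i
    have e3 : ((c i.castSucc).1 ⊓ (c i.succ).1).1 = u (i.cast hl).castSucc := by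
      rw [inf_eq_left.2 (show (c i.castSucc).1 ≤ (c i.succ).1 from (c.step i).lt.le)]
      exact e1
    show Nonempty (cokernel (Subobject.ofLE ((c i.castSucc).1 ⊓ (c i.succ).1).1 (c i.succ).1.1 _) ≅ _)
    exact ⟨cokerCongr e3 e2 _ _⟩
  exact ((hfac t ct hlt hte (f (i.cast hls.symm))).some.symm ≪≫ (hrel (hf (i.cast hls.symm))).some.symm ≪≫
    (hfac s cs hls hse (i.cast hls.symm)).some)

end

end Rank

end Groth.Agent.EulerLib
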