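import Groth.Agent.EulerLib.StabBasic
import Groth.Agent.EulerLib.RankSeries

/-!
# The lattice of coherent submodules with the Hilbert polynomial
-/

set_option autoImplicit false
set_option linter.style.haveILetI false

universe u

open CategoryTheory CategoryTheory.Limits AlgebraicGeometry StabCat
open Groth.Agent.Coherent

namespace Groth.Agent.EulerLib

variable {X : Scheme.{u}} [AlgebraicGeometry.IsNoetherian X]

/-- Coherent submodules of `E`. -/
def CohSub {E : X.Modules} (_hE : Coh.IsCoh E) : Type (u + 1) :=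
  {A : Subobject E // Coh.IsCoh (A : X.Modules)}

theorem isCoh_mk {E F : X.Modules} (ι : F ⟶ E) [Mono ι] (hF : Coh.IsCoh F) :
    Coh.IsCoh ((Subobject.mk ι : Subobject E) : X.Modules) :=
  isCoh_iso (Subobject.underlyingIso ι).symm hF

namespace CohSub

variable {E : X.Modules} {hE : Coh.IsCoh E}

/-- A submodule from a monomorphism. -/
noncomputable def mk {F : X.Modules} (ι : F ⟶ E) [Mono ι] (hF : Coh.IsCoh F) : CohSub hE :=
  ⟨Subobject.mk ι, isCoh_mk ι hF⟩

noncomputable instance : PartialOrder (CohSub hE) := Subtype.partialOrder _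

theorem isCoh_biprod {F G : X.Modules} (hF : Coh.IsCoh F) (hG : Coh.IsCoh G) : Coh.IsCoh (F ⊞ G) :=
  isCoh_X₂ (ShortComplex.Splitting.ofHasBinaryBiproduct F G).shortExact hF hG

/-- The sum map of two submodules. -/
noncomputable abbrev sumMap (A B : CohSub hE) : (A.1 : X.Modules) ⊞ (B.1 : X.Modules) ⟶ E :=
  biprod.desc A.1.arrow B.1.arrow

noncomputable instance mono_interMap (A B : CohSub hE) :
    Mono (kernel.ι (sumMap A B) ≫ biprod.fst ≫ A.1.arrow) := by
  refine Preadditive.mono_of_cancel_zero _ fun {P} t ht => ?_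
  have h1 : (t ≫ kernel.ι (sumMap A B)) ≫ biprod.fst = 0 := by
    rw [← cancel_mono A.1.arrow, Limits.zero_comp]
    simpa only [Category.assoc] using ht
  have h0 : (t ≫ kernel.ι (sumMap A B)) ≫ (biprod.fst ≫ A.1.arrow + biprod.snd ≫ B.1.arrow) = 0 := by
    rw [show biprod.fst ≫ A.1.arrow + biprod.snd ≫ B.1.arrow = sumMap A B from (biprod.desc_eq ..).symm,
      Category.assoc, kernel.condition, Limits.comp_zero]
  rw [Preadditive.comp_add, ← Category.assoc, h1, Limits.zero_comp, zero_add,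
    ← Category.assoc] at h0
  have h2 : (t ≫ kernel.ι (sumMap A B)) ≫ biprod.snd = 0 := by
    rw [← cancel_mono B.1.arrow, Limits.zero_comp]
    exact h0
  rw [← cancel_mono (kernel.ι (sumMap A B)), Limits.zero_comp]
  apply biprod.hom_ext
  · rw [h1, Limits.zero_comp]
  · rw [h2, Limits.zero_comp]

noncomputable instance : Max (CohSub hE) :=
  ⟨fun A B => mk (Abelian.image.ι (sumMap A B)) (isCoh_image _ (isCoh_biprod A.2 B.2) hE)⟩

noncomputable instance : Min (CohSub hE) :=
  ⟨fun A B => mk (kernel.ι (sumMap A B) ≫ biprod.fst ≫ A.1.arrow)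
    (isCoh_kernel _ (isCoh_biprod A.2 B.2) hE.1)⟩

noncomputable instance : Lattice (CohSub hE) where
  sup A B := A ⊔ B
  inf A B := A ⊓ B
  le_sup_left A B := Subobject.le_mk_of_comm (biprod.inl ≫ Abelian.factorThruImage (sumMap A B))
    (by rw [Category.assoc, Abelian.image.fac, biprod.inl_desc])
  le_sup_right A B := Subobject.le_mk_of_comm (biprod.inr ≫ Abelian.factorThruImage (sumMap A B))
    (by rw [Category.assoc, Abelian.image.fac, biprod.inr_desc])
  sup_le A B C h h' := by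
    have hq : Abelian.image.ι (sumMap A B) ≫ cokernel.π C.1.arrow = 0 := by
      rw [← cancel_epi (Abelian.factorThruImage (sumMap A B)), ← Category.assoc, Abelian.image.fac, Limits.comp_zero]
      apply biprod.hom_ext'
      · rw [← Category.assoc, biprod.inl_desc, Limits.comp_zero, ← Subobject.ofLE_arrow h, Category.assoc,
          cokernel.condition, Limits.comp_zero]
      · rw [← Category.assoc, biprod.inr_desc, Limits.comp_zero, ← Subobject.ofLE_arrow h', Category.assoc,
          cokernel.condition, Limits.comp_zero]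
    exact Subobject.mk_le_of_comm (Abelian.monoLift C.1.arrow (Abelian.image.ι (sumMap A B)) hq)
      (Abelian.monoLift_comp _ _ _)
  inf_le_left A B := Subobject.mk_le_of_comm (kernel.ι (sumMap A B) ≫ biprod.fst) (Category.assoc _ _ _)
  inf_le_right A B := Subobject.mk_le_of_comm (-(kernel.ι (sumMap A B) ≫ biprod.snd)) (by
    have h : kernel.ι (sumMap A B) ≫ (biprod.fst ≫ A.1.arrow + biprod.snd ≫ B.1.arrow) = 0 := by
      rw [show biprod.fst ≫ A.1.arrow + biprod.snd ≫ B.1.arrow = sumMap A B from (biprod.desc_eq ..).symm]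
      exact kernel.condition _
    rw [Preadditive.comp_add, ← eq_neg_iff_add_eq_zero] at h
    rw [Preadditive.neg_comp, Category.assoc]
    exact h.symm)
  le_inf C A B h h' := Subobject.le_mk_of_comm
    (kernel.lift (sumMap A B) (biprod.lift (Subobject.ofLE _ _ h) (-Subobject.ofLE _ _ h')) (by
      rw [biprod.lift_desc, Preadditive.neg_comp, Subobject.ofLE_arrow, Subobject.ofLE_arrow, add_neg_cancel]))
    (by rw [kernel.lift_ι_assoc, biprod.lift_fst_assoc, Subobject.ofLE_arrow])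

noncomputable instance : BoundedOrder (CohSub hE) where
  top := ⟨⊤, isCoh_iso (asIso (⊤ : Subobject E).arrow).symm hE⟩
  le_top A := le_top (α := Subobject E)
  bot := ⟨⊥, isCoh_of_isZero (isZero_zero X.Modules |>.of_iso (Subobject.botCoeIsoZero))⟩
  bot_le A := bot_le (α := Subobject E)

instance : WellFoundedGT (CohSub hE) := by
  refine ⟨WellFounded.wellFounded_iff_has_min.2 fun S hS => ?_⟩
  obtain ⟨A₀, hA₀⟩ := hS
  obtain ⟨F, ι, hm, hF, hP, hmax⟩ := exists_maximal_sub hE
    (fun F ι => ∃ h : Mono ι, ∃ A ∈ S, Subobject.mk ι = A.1)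
    ⟨_, A₀.1.arrow, inferInstance, A₀.2, inferInstance, A₀, hA₀, Subobject.mk_arrow A₀.1⟩
  obtain ⟨_, A, hA, hAe⟩ := hP
  refine ⟨A, hA, fun B hB hlt => ?_⟩
  have hle : Subobject.mk ι ≤ B.1 := hAe ▸ le_of_lt hlt
  haveI := hmax _ B.1.arrow inferInstance B.2 ⟨inferInstance, B, hB, Subobject.mk_arrow B.1⟩
    (Subobject.ofMkLE ι B.1 hle) (Subobject.ofMkLE_arrow hle)
  have : Subobject.mk ι = B.1 := by
    rw [← Subobject.mk_arrow B.1]
    exact Subobject.mk_eq_mk_of_comm _ _ (asIso (Subobject.ofMkLE ι B.1 hle)) (Subobject.ofMkLE_arrow hle)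
  exact hlt.ne (Subtype.ext (hAe ▸ this))

end CohSub

section Rank

variable (k : Type u) [Field k] [X.Over (Spec (CommRingCat.of k))] [IsProper (X ↘ Spec (CommRingCat.of k))]
  {L : X.Modules} (hL : CohB1.IsAmple L) {E : X.Modules} {hE : Coh.IsCoh E}

/-- The Hilbert polynomial of a submodule. -/
noncomputable abbrev CohSub.hilb (A : CohSub hE) : Polynomial ℚ := hp k hL (A.1 : X.Modules) A.2

include hL in
theorem alpha_int {F : X.Modules} (hF : Coh.IsCoh F) {d : ℕ} (hd : topologicalKrullDim (CohB1.support F) ≤ d)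
    {P : Polynomial ℚ} (hP : ShStab.IsHilbPoly k X L F P) : ∃ n : ℤ, alpha d P = n :=
  ⟨_, (alpha_eq_interDeg k hL.1 hF hP hd).2⟩

theorem hp_congr {F G : X.Modules} (e : F ≅ G) (hF : Coh.IsCoh F) (hG : Coh.IsCoh G) :
    hp k hL F hF = hp k hL G hG :=
  isHilbPoly_unique k (isHilbPoly_iso k e (isHilbPoly_hp k hL F hF)) (isHilbPoly_hp k hL G hG)

theorem CohSub.hilb_mk {F : X.Modules} (ι : F ⟶ E) [Mono ι] (hF : Coh.IsCoh F) :
    (CohSub.mk (hE := hE) ι hF).hilb k hL = hp k hL F hF :=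
  hp_congr k hL (Subobject.underlyingIso ι) _ _

theorem hp_ses {S : ShortComplex X.Modules} (hS : S.ShortExact) (h₁ : Coh.IsCoh S.X₁) (h₂ : Coh.IsCoh S.X₂)
    (h₃ : Coh.IsCoh S.X₃) : hp k hL _ h₂ = hp k hL _ h₁ + hp k hL _ h₃ :=
  hilb_ses k hL hS h₁ h₂ h₃ (isHilbPoly_hp k hL _ h₁) (isHilbPoly_hp k hL _ h₂) (isHilbPoly_hp k hL _ h₃)

theorem CohSub.modular (A B : CohSub hE) :
    (A ⊔ B).hilb k hL + (A ⊓ B).hilb k hL = A.hilb k hL + B.hilb k hL := by
  have hsum := CohSub.isCoh_biprod A.2 B.2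
  have hI := isCoh_image (CohSub.sumMap A B) hsum hE
  have hK := isCoh_kernel (CohSub.sumMap A B) hsum hE.1
  rw [show A ⊔ B = CohSub.mk (Abelian.image.ι (CohSub.sumMap A B)) hI from rfl,
    show A ⊓ B = CohSub.mk (kernel.ι (CohSub.sumMap A B) ≫ biprod.fst ≫ A.1.arrow) hK from rfl,
    CohSub.hilb_mk, CohSub.hilb_mk]
  have h1 := hp_ses k hL (ShortComplex.Splitting.ofHasBinaryBiproduct (A.1 : X.Modules) (B.1 : X.Modules)).shortExact
    A.2 hsum B.2
  have hK' : Coh.IsCoh (kernel (Abelian.factorThruImage (CohSub.sumMap A B))) := isCoh_kernel _ hsum hI.1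
  have h2 := hp_ses k hL (shortExact_kernel (Abelian.factorThruImage (CohSub.sumMap A B))) hK' hsum hI
  have e : kernel (CohSub.sumMap A B) ≅ kernel (Abelian.factorThruImage (CohSub.sumMap A B)) :=
    kernelIsoOfEq (Abelian.image.fac _).symm ≪≫ kernelCompMono _ (Abelian.image.ι (CohSub.sumMap A B))
  rw [hp_congr k hL e hK hK']
  linear_combination h1 - h2

theorem CohSub.hilb_sub {A B : CohSub hE} (h : A ≤ B) :
    B.hilb k hL - A.hilb k hL =
      hp k hL _ (isCoh_cokernel (Subobject.ofLE A.1 B.1 h) A.2.1 B.2) := by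
  have := hp_ses k hL (shortExact_cokernel (Subobject.ofLE A.1 B.1 h)) A.2 B.2
    (isCoh_cokernel (Subobject.ofLE A.1 B.1 h) A.2.1 B.2)
  show hp k hL _ B.2 - hp k hL _ A.2 = _
  linear_combination this

omit k [X.Over (Spec (CommRingCat.of k))] [IsProper (X ↘ Spec (CommRingCat.of k))] [AlgebraicGeometry.IsNoetherian X] in
theorem not_isZero_cokernel_of_lt {A B : Subobject E} (h : A < B) :
    ¬ IsZero (cokernel (Subobject.ofLE A B h.le)) := fun hz => by
  haveI : Epi (Subobject.ofLE A B h.le) := Preadditive.epi_of_isZero_cokernel _ hz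
  haveI := isIso_of_mono_of_epi (Subobject.ofLE A B h.le)
  exact h.ne (Subobject.eq_of_comm (asIso (Subobject.ofLE A B h.le)) (Subobject.ofLE_arrow h.le))

omit k [X.Over (Spec (CommRingCat.of k))] [IsProper (X ↘ Spec (CommRingCat.of k))] in
theorem dim_factor_le {d : ℕ} (hd : topologicalKrullDim (CohB1.support E) ≤ d) {A B : Subobject E} (h : A ≤ B) :
    topologicalKrullDim (CohB1.support (cokernel (Subobject.ofLE A B h))) ≤ d :=
  (dim_mono (support_subset_of_epi (cokernel.π (Subobject.ofLE A B h)))).trans (dim_sub_le B.arrow hd)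

/-- The rank data of coherent submodules. -/
noncomputable def rankData (hE : Coh.IsCoh E) (d : ℕ) (hd : topologicalKrullDim (CohB1.support E) ≤ d) :
    RankData (CohSub hE) where
  d := d
  P A := A.hilb k hL
  modular := CohSub.modular k hL
  strict A B h := by
    rw [CohSub.hilb_sub k hL h.le]
    exact hilb_leadingCoeff_pos k hL (isCoh_cokernel _ A.2.1 B.2) (not_isZero_cokernel_of_lt h)
      (isHilbPoly_hp k hL _ _)
  int A := alpha_int k hL A.2 (dim_sub_le A.1.arrow hd) (isHilbPoly_hp k hL _ A.2)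
  mono A B h :=
    alpha_le_of_mono k hL (Subobject.ofLE A.1 B.1 h) A.2 B.2 (dim_sub_le B.1.arrow hd)
      (isHilbPoly_hp k hL _ A.2) (isHilbPoly_hp k hL _ B.2)

variable {d : ℕ} {hd : topologicalKrullDim (CohB1.support E) ≤ d}

theorem Q_eq_of_factor {A B : CohSub hE} (h : A ≤ B) {p : Polynomial ℚ}
    (hp' : ShStab.IsHilbPoly k X L (cokernel (Subobject.ofLE A.1 B.1 h)) p) :
    (rankData k hL hE d hd).Q A B = p := by
  show B.hilb k hL - A.hilb k hL = p
  rw [CohSub.hilb_sub k hL h]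
  exact isHilbPoly_unique k (isHilbPoly_hp k hL _ _) hp'

theorem hilb_bot : (⊥ : CohSub hE).hilb k hL = 0 :=
  hilb_zero k hL ((isZero_zero X.Modules).of_iso Subobject.botCoeIsoZero) (isHilbPoly_hp k hL _ _)

theorem Q_bot_mk {F : X.Modules} (ι : F ⟶ E) [Mono ι] (hF : Coh.IsCoh F) {p : Polynomial ℚ}
    (hp' : ShStab.IsHilbPoly k X L F p) :
    (rankData k hL hE d hd).Q ⊥ (CohSub.mk ι hF) = p := by
  show (CohSub.mk (hE := hE) ι hF).hilb k hL - (⊥ : CohSub hE).hilb k hL = p
  rw [hilb_bot, sub_zero, CohSub.hilb_mk]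
  exact isHilbPoly_unique k (isHilbPoly_hp k hL _ _) hp'

omit k [X.Over (Spec (CommRingCat.of k))] [IsProper (X ↘ Spec (CommRingCat.of k))] in
theorem bot_lt_mk {F : X.Modules} (ι : F ⟶ E) [Mono ι] (hF : Coh.IsCoh F) (h0 : ¬ IsZero F) :
    (⊥ : CohSub hE) < CohSub.mk ι hF := by
  refine lt_of_le_of_ne bot_le fun e => h0 ?_
  have e' : Subobject.mk ι = ⊥ := (congrArg Subtype.val e).symm
  rw [IsZero.iff_id_eq_zero, ← cancel_mono ι]
  rw [Subobject.mk_eq_bot_iff_zero.1 e', Limits.comp_zero, Limits.comp_zero]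

omit k [X.Over (Spec (CommRingCat.of k))] [IsProper (X ↘ Spec (CommRingCat.of k))] in
theorem not_isZero_of_bot_lt {A : CohSub hE} (h : ⊥ < A) : ¬ IsZero (A.1 : X.Modules) := fun hz => by
  refine h.ne' (Subtype.ext ?_)
  show A.1 = ⊥
  rw [← Subobject.mk_arrow A.1, Subobject.mk_eq_bot_iff_zero]
  exact hz.eq_of_src _ _

theorem Q_bot (A : CohSub hE) : (rankData k hL hE d hd).Q ⊥ A = A.hilb k hL := by
  show A.hilb k hL - (⊥ : CohSub hE).hilb k hL = _
  rw [hilb_bot, sub_zero]

theorem isHilbPoly_top : ShStab.IsHilbPoly k X L E ((rankData k hL hE d hd).Q ⊥ ⊤) := by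
  rw [Q_bot]
  exact isHilbPoly_iso k (asIso (⊤ : Subobject E).arrow) (isHilbPoly_hp k hL _ (⊤ : CohSub hE).2)

omit k [X.Over (Spec (CommRingCat.of k))] [IsProper (X ↘ Spec (CommRingCat.of k))] in
theorem bot_lt_top_of_ne (h0 : ¬ IsZero E) : (⊥ : CohSub hE) < ⊤ := lt_of_le_of_ne bot_le fun e => h0 (by
  have e' : (⊥ : Subobject E) = ⊤ := congrArg Subtype.val e
  exact ((isZero_zero X.Modules).of_iso Subobject.botCoeIsoZero).of_iso
    ((asIso (⊤ : Subobject E).arrow).symm ≪≫ eqToIso (by rw [e'])))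

theorem pureOver_bot (hp' : ShStab.IsPure X E d) : (rankData k hL hE d hd).PureOver ⊥ := by
  intro A hA
  show 0 < alpha d ((rankData k hL hE d hd).Q ⊥ A)
  rw [show (rankData k hL hE d hd).Q ⊥ A = A.hilb k hL by
    show A.hilb k hL - (⊥ : CohSub hE).hilb k hL = _
    rw [hilb_bot, sub_zero]]
  exact alpha_pos_of_sub k hL hp' A.1.arrow A.2 (not_isZero_of_bot_lt hA) (isHilbPoly_hp k hL _ _)

/-- The preimage of a submodule of a factor. -/
theorem exists_preimage {A B : CohSub hE} (h : A ≤ B) {T : X.Modules}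
    (κ : T ⟶ cokernel (Subobject.ofLE A.1 B.1 h)) [Mono κ] (hT : Coh.IsCoh T) (hT0 : ¬ IsZero T)
    {p : Polynomial ℚ} (hp' : ShStab.IsHilbPoly k X L T p) :
    ∃ C : CohSub hE, A < C ∧ C ≤ B ∧ (rankData k hL hE d hd).Q A C = p ∧ (¬ IsIso κ → C < B) := by
  let o := Subobject.ofLE A.1 B.1 h
  have hC := isCoh_cokernel o A.2.1 B.2
  let g := cokernel.π o ≫ cokernel.π κ
  have hQ := isCoh_cokernel κ hT.1 hC
  have hg : Coh.IsCoh (kernel g) := isCoh_kernel g B.2 hQ.1
  haveI : Mono (kernel.ι g ≫ B.1.arrow) := mono_comp _ _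
  let C : CohSub hE := CohSub.mk (kernel.ι g ≫ B.1.arrow) hg
  have hCB : C ≤ B := Subobject.mk_le_of_comm (kernel.ι g) rfl
  have hAC : A ≤ C := Subobject.le_mk_of_comm (kernel.lift g o (by
    rw [← Category.assoc, cokernel.condition, Limits.zero_comp])) (by
    rw [kernel.lift_ι_assoc, Subobject.ofLE_arrow])
  have h1 := hp_ses k hL (shortExact_kernel g) hg B.2 hQ
  have h2 := hp_ses k hL (shortExact_cokernel κ) hT hC hQ
  have h3 := hp_ses k hL (shortExact_cokernel o) A.2 B.2 hC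
  have hT' := isHilbPoly_unique k (isHilbPoly_hp k hL _ hT) hp'
  have e : (rankData k hL hE d hd).Q A C = p := by
    show C.hilb k hL - A.hilb k hL = p
    rw [CohSub.hilb_mk, ← hT']
    show hp k hL _ hg - hp k hL _ A.2 = _
    linear_combination h3 + h2 - h1
  have hlt : A < C := lt_of_le_of_ne hAC fun heq => by
    rw [← heq, RankData.Q_self] at e
    exact hT0 ((hilb_eq_zero_iff k hL hT hp').1 e.symm)
  refine ⟨C, hlt, hCB, e, fun hni => lt_of_le_of_ne hCB fun heq => hni ?_⟩
  have hQ0 : hp k hL _ hQ = 0 := by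
    rw [heq] at e
    have e' : B.hilb k hL - A.hilb k hL = p := e
    rw [← hT'] at e'
    linear_combination e' - h2 - h3
  have hz := (hilb_eq_zero_iff k hL hQ (isHilbPoly_hp k hL _ hQ)).1 hQ0
  haveI : Epi κ := Preadditive.epi_of_isZero_cokernel κ hz
  exact isIso_of_mono_of_epi κ

/-- Purity of a factor. -/
theorem isPure_factor {A B : CohSub hE} (h : A ≤ B)
    (hpos : ∀ C, A < C → C ≤ B → 0 < alpha d ((rankData k hL hE d hd).Q A C)) :
    ShStab.IsPure X (cokernel (Subobject.ofLE A.1 B.1 h)) d := fun T κ _ hT hT0 => by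
  refine (dim_sub_le κ (dim_factor_le hd h)).lt_or_eq.resolve_left fun hlt => ?_
  obtain ⟨C, hAC, hCB, e, -⟩ := exists_preimage k hL (hd := hd) h κ hT hT0 (isHilbPoly_hp k hL T hT)
  have h1 := hpos C hAC hCB
  rw [e, alpha_eq_zero_of_dim_lt k hL.1 hT (isHilbPoly_hp k hL T hT) hlt] at h1
  exact lt_irrefl _ h1

/-- A semistable interval has a semistable factor. -/
theorem isSemistable_of_ss {A B : CohSub hE} (h : A ≤ B) (hss : (rankData k hL hE d hd).SS A B) :
    ShStab.IsSemistable k X L (cokernel (Subobject.ofLE A.1 B.1 h)) d := by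
  refine ⟨isCoh_cokernel _ A.2.1 B.2, not_isZero_cokernel_of_lt (show A.1 < B.1 from hss.1),
    isPure_factor k hL h fun C hAC hCB => (hss.2 C hAC hCB).1,
    fun T κ hm hT hT0 _ pT pQ hpT hpQ => ?_⟩
  haveI := hm
  obtain ⟨C, hAC, hCB, e, -⟩ := exists_preimage k hL (hd := hd) h κ hT hT0 hpT
  have h2 := (hss.2 C hAC hCB).2
  rwa [e, Q_eq_of_factor k hL h hpQ] at h2

/-- A stable interval has a stable factor. -/
theorem isStable_of_stable {A B : CohSub hE} (h : A ≤ B)
    (hpos : ∀ C, A < C → C ≤ B → 0 < alpha d ((rankData k hL hE d hd).Q A C))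
    (hst : (rankData k hL hE d hd).Stable A B) :
    ShStab.IsStable k X L (cokernel (Subobject.ofLE A.1 B.1 h)) d := by
  refine ⟨isCoh_cokernel _ A.2.1 B.2, not_isZero_cokernel_of_lt (show A.1 < B.1 from hst.1),
    isPure_factor k hL h hpos, fun T κ hm hT hT0 hni pT pQ hpT hpQ => ?_⟩
  haveI := hm
  obtain ⟨C, hAC, -, e, hlt⟩ := exists_preimage k hL (hd := hd) h κ hT hT0 hpT
  have h2 := hst.2 C hAC (hlt hni)
  rwa [e, Q_eq_of_factor k hL h hpQ] at h2

omit k [X.Over (Spec (CommRingCat.of k))] [IsProper (X ↘ Spec (CommRingCat.of k))] in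
/-- The image of `C` in `B / A`. -/
theorem exists_image_factor {A B C : CohSub hE} (hAC : A ≤ C) (hCB : C ≤ B) :
    ∃ (g : (C.1 : X.Modules) ⟶ cokernel (Subobject.ofLE A.1 B.1 (hAC.trans hCB))),
      Nonempty ((A.1 : X.Modules) ≅ kernel g) := by
  set o := Subobject.ofLE A.1 B.1 (hAC.trans hCB) with ho
  let g := Subobject.ofLE C.1 B.1 hCB ≫ cokernel.π o
  have h1 : Subobject.ofLE A.1 C.1 hAC ≫ g = 0 := by
    rw [← Category.assoc, Subobject.ofLE_comp_ofLE, cokernel.condition]
  have h2 : (kernel.ι g ≫ Subobject.ofLE C.1 B.1 hCB) ≫ cokernel.π o = 0 := by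
    rw [Category.assoc, kernel.condition]
  refine ⟨g, ⟨{ hom := kernel.lift g _ h1
                inv := Abelian.monoLift o (kernel.ι g ≫ Subobject.ofLE C.1 B.1 hCB) h2
                hom_inv_id := ?_
                inv_hom_id := ?_ }⟩⟩
  · rw [← cancel_mono o, Category.assoc, Abelian.monoLift_comp, ← Category.assoc, kernel.lift_ι,
      Subobject.ofLE_comp_ofLE, Category.id_comp]
  · rw [← cancel_mono (kernel.ι g), Category.assoc, kernel.lift_ι, ← cancel_mono (Subobject.ofLE C.1 B.1 hCB),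
      Category.assoc, Subobject.ofLE_comp_ofLE, Category.id_comp, Abelian.monoLift_comp]

/-- A semistable factor gives a semistable interval. -/
theorem ss_of_isSemistable {A B : CohSub hE} (h : A ≤ B)
    (hs : ShStab.IsSemistable k X L (cokernel (Subobject.ofLE A.1 B.1 h)) d) :
    (rankData k hL hE d hd).SS A B := by
  have hC := hs.1
  have hlt : A < B := lt_of_le_of_ne h fun e => by
    subst e
    refine hs.2.1 (IsZero.of_iso (isZero_zero X.Modules) ?_)
    haveI : IsIso (Subobject.ofLE A.1 A.1 h) := by rw [Subobject.ofLE_refl]; infer_instance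
    exact cokernel.ofEpi _
  refine ⟨hlt, fun C hAC hCB => ?_⟩
  obtain ⟨g, ⟨e⟩⟩ := exists_image_factor hAC.le hCB
  have hI := isCoh_image g C.2 hC
  have hK := isCoh_kernel (Abelian.factorThruImage g) C.2 hI.1
  have eK : kernel g ≅ kernel (Abelian.factorThruImage g) :=
    kernelIsoOfEq (Abelian.image.fac _).symm ≪≫ kernelCompMono _ (Abelian.image.ι g)
  have hsum := hp_ses k hL (shortExact_kernel (Abelian.factorThruImage g)) hK C.2 hI
  have eQ : (rankData k hL hE d hd).Q A C = hp k hL _ hI := by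
    show hp k hL _ C.2 - hp k hL _ A.2 = _
    rw [hp_congr k hL (e ≪≫ eK) A.2 hK]
    linear_combination hsum
  have hI0 : ¬ IsZero (Abelian.image g) := fun hz => by
    have := (rankData k hL hE d hd).strict A C hAC
    rw [show (rankData k hL hE d hd).P C - (rankData k hL hE d hd).P A = (rankData k hL hE d hd).Q A C from rfl,
      eQ, hilb_zero k hL hz (isHilbPoly_hp k hL _ hI), Polynomial.leadingCoeff_zero] at this
    exact lt_irrefl _ this
  rw [eQ, Q_eq_of_factor k hL h (isHilbPoly_hp k hL _ hC)]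
  refine ⟨alpha_pos_of_sub k hL hs.2.2.1 (Abelian.image.ι g) hI hI0 (isHilbPoly_hp k hL _ hI), ?_⟩
  show RedLE d _ _
  by_cases hiso : IsIso (Abelian.image.ι g)
  · rw [hp_congr k hL (asIso (Abelian.image.ι g)) hI hC]
    exact redLE_refl _
  · exact hs.2.2.2 _ (Abelian.image.ι g) inferInstance hI hI0 hiso _ _ (isHilbPoly_hp k hL _ hI)
      (isHilbPoly_hp k hL _ hC)

end Rank

end Groth.Agent.EulerLib
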