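import Groth.Agent.ArtFunLib.QuotLift.Setup
import Groth.Agent.FlatMor12.FreeLocusBC
import Mathlib.RingTheory.Flat.EquationalCriterion
import Mathlib.RingTheory.Filtration

/-!
# Homomorphisms of flat families vanishing on the closed fibre

A homomorphism between flat families over an affine base which pulls back to zero along a section, where the
target is free, vanishes over a closed point as soon as homomorphisms between the closed fibres are detected by
their pull back along the section.
-/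

set_option autoImplicit false
set_option backward.isDefEq.respectTransparency false
set_option backward.isDefEq.respectTransparency.types false
set_option linter.style.haveILetI false
set_option linter.unusedSectionVars false
set_option maxHeartbeats 1000000

universe u

open CategoryTheory CategoryTheory.Limits AlgebraicGeometry Function
open Groth.Agent.ArtFunLib.QuotLift

noncomputable section

namespace Groth.Agent.EulerLib.ThickenVanish

variable {A : Type u} [CommRing A] {X : Scheme.{u}} (p : X ⟶ Spec (CommRingCat.of A))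

/-- Membership in `I M`. -/
def InI (I : Ideal A) (M : X.Modules) (x : X) (m : St M x) : Prop :=
  letI := baseMod p M x
  m ∈ (I • ⊤ : Submodule A (St M x))

theorem flat_baseMod (M : X.Modules) (x : X) (h : FlatMod.IsFlatOverAt p M x) :
    letI := baseMod p M x
    Module.Flat A (St M x) := by
  let O := (Spec (CommRingCat.of A)).presheaf.stalk (p x)
  letI : Algebra A O := (StructureSheaf.toStalk A (p x)).hom.toAlgebra
  haveI : IsLocalization (p x).asIdeal.primeCompl O := StructureSheaf.IsLocalization.to_stalk A (p x)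
  letI hO : Module O (St M x) := FlatMod.moduleStalkOver p M x
  letI := baseMod p M x
  haveI : IsScalarTower A O (St M x) := IsScalarTower.of_algebraMap_smul fun r m => by
    show (p.stalkMap x).hom (algebraMap A O r) • m = rho p x r • m
    refine congrArg (· • m) ?_
    exact (ModelLib7.germ_toGlobal p x r).symm
  exact (Module.flat_iff_of_isLocalization (R := A) O (p x).asIdeal.primeCompl (St M x)).1 h

/-- For a flat module, `(J M : a) = (J : a) M`. -/
theorem mem_of_smul_mem {M : Type u} [AddCommGroup M] [Module A M] [Module.Flat A M] (J I : Ideal A) (a : A)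
    (hcol : ∀ b, a * b ∈ J → b ∈ I) {y : M} (h : a • y ∈ (J • ⊤ : Submodule A M)) :
    y ∈ (I • ⊤ : Submodule A M) := by
  classical
  have h' : a • y ∈ J • Submodule.span A (Set.range (id : M → M)) := by rwa [Set.range_id, Submodule.span_univ]
  obtain ⟨c, hc, hsum⟩ := (Submodule.mem_ideal_smul_span_iff_exists_sum J id _).1 h'
  let f : Option c.support → A := fun i => i.elim a fun m => - c m
  let v : Option c.support → M := fun i => i.elim y fun m => (m : M)
  have hrel : ∑ i, f i • v i = 0 := by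
    rw [Fintype.sum_option]
    show a • y + ∑ m : c.support, (- c m) • (m : M) = 0
    rw [← hsum, Finsupp.sum, ← Finset.sum_coe_sort]
    simp [neg_smul]
  obtain ⟨k, b, z, hz, hb⟩ := Module.Flat.isTrivialRelation_of_sum_smul_eq_zero hrel
  rw [show y = v none from rfl, hz none]
  refine Submodule.sum_mem _ fun j _ => Submodule.smul_mem_smul (hcol _ ?_) Submodule.mem_top
  have hj := hb j
  rw [Fintype.sum_option] at hj
  change a * b none j + ∑ m : c.support, (- c m) * b (some m) j = 0 at hj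
  rw [eq_neg_of_add_eq_zero_left hj]
  exact Submodule.neg_mem _ (Submodule.sum_mem _ fun m _ => Ideal.mul_mem_right _ _ (Submodule.neg_mem _ (hc _)))

/-- The unit of inverse image. -/
abbrev etaM {Z : Scheme.{u}} (σ : Z ⟶ X) (F : X.Modules) :
    F ⟶ (Scheme.Modules.pushforward σ).obj ((Scheme.Modules.pullback σ).obj F) :=
  (Scheme.Modules.pullbackPushforwardAdjunction σ).homEquiv _ _ (𝟙 _)

theorem isFlatOverAt_id {Y : Scheme.{u}} (W : Y.Modules) (y : Y)
    (h : Module.Free (Y.presheaf.stalk y) (W.presheaf.stalk y)) : FlatMod.IsFlatOverAt (𝟙 Y) W y := by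
  haveI := h
  have h' : Module.Flat (Y.presheaf.stalk y) (W.presheaf.stalk y) := inferInstance
  let m₁ : Module (Y.presheaf.stalk y) (W.presheaf.stalk y) := FlatMod.moduleStalkOver (𝟙 Y) W y
  have hm : m₁ = FlatMod.moduleStalk W y := Module.ext' m₁ (FlatMod.moduleStalk W y) fun r m => by
    letI := FlatMod.moduleStalk W y
    refine Eq.trans (b := ((𝟙 Y : Y ⟶ Y).stalkMap y).hom r • m) rfl ?_
    rw [Scheme.Hom.stalkMap_id]
    rfl
  show @Module.Flat (Y.presheaf.stalk y) (W.presheaf.stalk y) _ _ m₁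
  rw [hm]
  exact h'

theorem stk_unit_eq_zero_iff {Z : Scheme.{u}} (σ : Z ⟶ X) [IsClosedImmersion σ] (z : Z) (F : X.Modules)
    (m : St F (σ z)) :
    stk (etaM σ F) (σ z) m = 0 ↔ unitSt σ z F m = 0 := by
  have h := stk_eq_zero_iff_of_adjoint σ z (𝟙 ((Scheme.Modules.pullback σ).obj F)) m
  rwa [stk_id] at h

theorem map_etaM_comp {Z : Scheme.{u}} (σ : Z ⟶ X) (F : X.Modules) :
    (Scheme.Modules.pullback σ).map (etaM σ F) ≫
      (Scheme.Modules.pullbackPushforwardAdjunction σ).counit.app _ = 𝟙 _ :=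
  ((Scheme.Modules.pullbackPushforwardAdjunction σ).homEquiv_counit _ _ _).symm.trans
    (((Scheme.Modules.pullbackPushforwardAdjunction σ).homEquiv _ _).symm_apply_apply _)

variable (M : Ideal A) [hMm : M.IsMaximal] {K : Type u} [CommRing K] {c : A →+* K} (hcs : Surjective c) (hck : RingHom.ker c = M)
  {X₀ : Scheme.{u}} {p₀ : X₀ ⟶ Spec (CommRingCat.of K)} {u : X₀ ⟶ X} [IsClosedImmersion u]
  (hu : IsPullback u p₀ p (Spec.map (CommRingCat.ofHom c)))
  (s : ↥(Spec (CommRingCat.of A))) (hs : s.asIdeal = M)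
  (ξ : Spec (CommRingCat.of A) ⟶ X) [IsClosedImmersion ξ] (hξ : ξ ≫ p = 𝟙 _)
  (ξ₀ : Spec (CommRingCat.of K) ⟶ X₀) (hξ₀ : ξ₀ ≫ u = Spec.map (CommRingCat.ofHom c) ≫ ξ)
  {E F : X.Modules} (φ : E ⟶ F)

theorem mem_range_of_le {J : Ideal A} {X' : Scheme.{u}} {σ : X' ⟶ X} {R : Type u} [CommRing R] {q : A →+* R}
    {p' : X' ⟶ Spec (CommRingCat.of R)} (hq : Surjective q)
    (h : IsPullback σ p' p (Spec.map (CommRingCat.ofHom q))) (x : X) :
    x ∈ Set.range σ ↔ RingHom.ker q ≤ (p x).asIdeal := by
  rw [← h.isoPullback_hom_fst]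
  rw [Scheme.Hom.comp_base, TopCat.coe_comp, Set.range_comp,
    Set.range_eq_univ.2 h.isoPullback.hom.surjective, Set.image_univ, Scheme.Pullback.range_fst]
  show p x ∈ Set.range (PrimeSpectrum.comap q) ↔ _
  rw [range_comap_of_surjective _ q hq, PrimeSpectrum.mem_zeroLocus, SetLike.coe_subset_coe]

include hcs hck hu in
theorem eq_of_mem_range_u (x : X) : x ∈ Set.range u ↔ (p x).asIdeal = M := by
  rw [mem_range_of_le p (J := M) hcs hu, hck]
  exact ⟨fun h => (hMm.eq_of_le (p x).isPrime.ne_top h).symm, fun h => h.ge⟩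

include hcs hck hu hs hξ hξ₀ in
/-- The step of the induction. -/
theorem step (hF : FlatMod.IsFlatOver p F) (hFξ : Module.Free (X.presheaf.stalk (ξ s)) (St F (ξ s)))
    (hfib : ∀ ψ : (Scheme.Modules.pullback u).obj E ⟶ (Scheme.Modules.pullback u).obj F,
      (Scheme.Modules.pullback ξ₀).map ψ = 0 → ψ = 0)
    (hφξ : (Scheme.Modules.pullback ξ).map φ = 0) (J : Ideal A) {k : ℕ} (hk : M ^ k ≤ J) (hJ : J ≤ M) {a : A}
    (haJ : a ∉ J) (haM : ∀ b ∈ M, a * b ∈ J)
    (ih : ∀ x, (p x).asIdeal = M → ∀ e, InI p (J ⊔ Ideal.span {a}) F x (stk φ x e)) :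
    ∀ x, (p x).asIdeal = M → ∀ e, InI p J F x (stk φ x e) := by
  classical
  have hcol : ∀ b, a * b ∈ J → b ∈ M := fun b hb => by
    by_contra hbM
    obtain ⟨r, m, hm, hrm⟩ := hMm.exists_inv hbM
    refine haJ ?_
    rw [show a = r * (a * b) + a * m by linear_combination -a * hrm]
    exact J.add_mem (J.mul_mem_left r hb) (haM m hm)
  let qJ := Ideal.Quotient.mk J
  let σ := pullback.fst p (Spec.map (CommRingCat.ofHom qJ))
  have hσ : IsPullback σ (pullback.snd p (Spec.map (CommRingCat.ofHom qJ))) p (Spec.map (CommRingCat.ofHom qJ)) :=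
    IsPullback.of_hasPullback _ _
  haveI : IsClosedImmersion (Spec.map (CommRingCat.ofHom qJ)) :=
    IsClosedImmersion.spec_of_surjective _ Ideal.Quotient.mk_surjective
  haveI : IsClosedImmersion σ := MorphismProperty.pullback_fst _ _ inferInstance
  have hrσ : ∀ x, x ∈ Set.range σ ↔ (p x).asIdeal = M := fun x => by
    rw [mem_range_of_le p (J := J) Ideal.Quotient.mk_surjective hσ, Ideal.mk_ker]
    exact ⟨fun h => (hMm.eq_of_le (p x).isPrime.ne_top ((p x).isPrime.le_of_pow_le (hk.trans h))).symm,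
      fun h => hJ.trans h.ge⟩
  let η := etaM σ F
  let Q := (Scheme.Modules.pushforward σ).obj ((Scheme.Modules.pullback σ).obj F)
  let η₀ := etaM u F
  let τ : F ⟶ Q := η ≫ TwSh.scalarEnd Q (Coh.toGlobal p a)
  have hη : ∀ x, (p x).asIdeal = M → ∀ m, stk η x m = 0 ↔ InI p J F x m := by
    intro x hx m
    obtain ⟨z, rfl⟩ := (hrσ x).2 hx
    rw [stk_unit_eq_zero_iff, unitSt_eq_zero_iff_base p Ideal.Quotient.mk_surjective hσ, Ideal.mk_ker]
    rfl
  have hη₀ : ∀ (z : X₀) m, stk η₀ (u z) m = 0 ↔ InI p M F (u z) m := by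
    intro z m
    rw [stk_unit_eq_zero_iff, unitSt_eq_zero_iff_base p hcs hu, hck]
    rfl
  have hout : ∀ x, ¬ (p x).asIdeal = M → Subsingleton (St Q x) := fun x hx =>
    DCat.ClosedPush.subsingleton_stalk_push σ _ x fun h => hx ((hrσ x).1 h)
  have hτ : ∀ x m, stk τ x m = stk η x (rho p x a • m) := fun x m => by
    rw [stk_comp, stk_scalarEnd p]
    exact ((stk η x).map_smul _ _).symm
  have hφτ : φ ≫ η ≫ cokernel.π τ = 0 := hom_eq_zero_of_stk _ fun x e => by
    by_cases hx : (p x).asIdeal = M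
    · letI := baseMod p F x
      have h1 : stk φ x e ∈ ((J ⊔ Ideal.span {a}) • ⊤ : Submodule A (St F x)) := ih x hx e
      rw [Submodule.sup_smul, Submodule.mem_sup] at h1
      obtain ⟨j, hj, w, hw, hjw⟩ := h1
      rw [Submodule.ideal_span_singleton_smul, ← Submodule.Quotient.mk_eq_zero] at hw
      obtain ⟨y, -, rfl⟩ := (Submodule.Quotient.mk_eq_zero _).1 hw
      rw [stk_comp, stk_comp, ← hjw, map_add, (hη x hx j).2 hj, zero_add]
      show stk (cokernel.π τ) x (stk η x (rho p x a • y)) = 0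
      rw [← hτ, ← stk_comp, cokernel.condition, stk_zero]
    · haveI := hout x hx
      rw [← Category.assoc, stk_comp, Subsingleton.elim (α := St Q x) (stk (φ ≫ η) x e) 0, map_zero]
  let l : E ⟶ Abelian.image τ := kernel.lift (cokernel.π τ) (φ ≫ η) (by rw [Category.assoc]; exact hφτ)
  have hker : kernel.ι τ ≫ η₀ = 0 := hom_eq_zero_of_stk _ fun x w => by
    by_cases hx : x ∈ Set.range u
    · obtain ⟨z, rfl⟩ := hx
      rw [stk_comp, hη₀]
      have hM' : (p (u z)).asIdeal = M := (eq_of_mem_range_u p M hcs hck hu _).1 ⟨z, rfl⟩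
      have h1 : stk η (u z) (rho p (u z) a • stk (kernel.ι τ) (u z) w) = 0 := by
        rw [← hτ, ← stk_comp, kernel.condition, stk_zero]
      rw [hη _ hM'] at h1
      letI := baseMod p F (u z)
      haveI := flat_baseMod p F (u z) (hF _)
      exact mem_of_smul_mem J M a hcol h1
    · haveI := DCat.ClosedPush.subsingleton_stalk_push u ((Scheme.Modules.pullback u).obj F) x hx
      exact Subsingleton.elim _ _
  let ψ' : E ⟶ (Scheme.Modules.pushforward u).obj ((Scheme.Modules.pullback u).obj F) :=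
    l ≫ (Abelian.coimageIsoImage τ).inv ≫ cokernel.desc (kernel.ι τ) η₀ hker
  -- the relation between `φ` and `ψ'`
  have hrel : ∀ x, (p x).asIdeal = M → ∀ e, ∃ y, InI p J F x (stk φ x e - rho p x a • y) ∧
      stk ψ' x e = stk η₀ x y := by
    intro x hx e
    obtain ⟨y, hy⟩ := surjective_stk (Abelian.coimage.π τ ≫ (Abelian.coimageIsoImage τ).hom) x (stk l x e)
    refine ⟨y, (hη x hx _).1 ?_, ?_⟩
    · have h1 : stk τ x y = stk (φ ≫ η) x e := by
        have h2 := congrArg (stk (kernel.ι (cokernel.π τ)) x) hy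
        rwa [← stk_comp, ← stk_comp, kernel.lift_ι, Category.assoc,
          show Abelian.coimage.π τ ≫ (Abelian.coimageIsoImage τ).hom ≫ kernel.ι (cokernel.π τ) = τ from
            Abelian.coimage_image_factorisation τ] at h2
      rw [hτ, stk_comp] at h1
      rw [map_sub, h1, sub_self]
    · show stk (l ≫ _ ≫ _) x e = _
      rw [stk_comp, ← hy, ← stk_comp, Category.assoc, Iso.hom_inv_id_assoc, cokernel.π_desc]
  let adj := Scheme.Modules.pullbackPushforwardAdjunction u
  let ψ := (adj.homEquiv _ _).symm ψ'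
  have hψ : ∀ z e y, stk ψ' (u z) e = stk η₀ (u z) y → stk ψ z (unitSt u z E e) = unitSt u z F y := by
    intro z e y h
    rw [show ψ = (Scheme.Modules.pullback u).map ψ' ≫ adj.counit.app _ from adj.homEquiv_counit _ _ _, stk_comp,
      unitSt_natural, h, ← unitSt_natural, ← stk_comp, map_etaM_comp, stk_id]
  -- along the section
  have hsec : (Scheme.Modules.pullback ξ₀).map ψ = 0 := hom_eq_zero_of_stk _ fun z₀ w => by
    haveI : IsClosedImmersion (Spec.map (CommRingCat.ofHom c) : Spec (CommRingCat.of K) ⟶ _) :=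
      IsClosedImmersion.spec_of_surjective _ hcs
    haveI : IsClosedImmersion (ξ₀ ≫ u) := hξ₀ ▸ inferInstance
    haveI : IsClosedImmersion ξ₀ := IsClosedImmersion.of_comp ξ₀ u
    obtain ⟨v, rfl⟩ := unitSt_surjective ξ₀ z₀ _ w
    obtain ⟨e, rfl⟩ := unitSt_surjective u (ξ₀ z₀) E v
    obtain ⟨y, hy, hy'⟩ := hrel _ ((eq_of_mem_range_u p M hcs hck hu _).1 ⟨_, rfl⟩) e
    rw [unitSt_natural, hψ _ _ _ hy']
    let G : (Spec (CommRingCat.of K) ⟶ X) → Prop := fun b => ∀ (y : St F (b z₀)) (e : St E (b z₀)),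
      InI p J F (b z₀) (stk φ (b z₀) e - rho p (b z₀) a • y) → ∃ y', InI p M F (b z₀) (y - y') ∧
        y' ∈ RingHom.ker (b.stalkMap z₀).hom • (⊤ : Submodule (X.presheaf.stalk (b z₀)) (St F (b z₀)))
    have hG : G (ξ₀ ≫ u) := by
      rw [hξ₀]
      intro y e hy
      let i₀ := Spec.map (CommRingCat.ofHom c)
      obtain rfl : s = i₀ z₀ := by
        refine PrimeSpectrum.ext (hs.trans (hMm.eq_of_le (i₀ z₀).isPrime.ne_top ?_))
        rw [← hck]
        exact Ideal.comap_mono bot_le
      let W := (Scheme.Modules.pullback ξ).obj F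
      change St F (ξ (i₀ z₀)) at y
      change St E (ξ (i₀ z₀)) at e
      have hw : ξ ≫ p = 𝟙 _ ≫ Spec.map (CommRingCat.ofHom (RingHom.id A)) := by
        rw [hξ, CommRingCat.ofHom_id, Spec.map_id, Category.comp_id]
      have hsm : ∀ (r : A) (m : St F (ξ (i₀ z₀))), unitSt ξ (i₀ z₀) F (rho p _ r • m) =
          rho (𝟙 _) (i₀ z₀) r • unitSt ξ (i₀ z₀) F m := fun r m => by
        rw [unitSt_smul, stalkMap_rho hw]
        rfl
      letI := baseMod p F (ξ (i₀ z₀))
      letI := baseMod (𝟙 (Spec (CommRingCat.of A))) W (i₀ z₀)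
      haveI : Module.Flat A (St W (i₀ z₀)) := flat_baseMod (𝟙 (Spec (CommRingCat.of A))) W (i₀ z₀) (by
        have := FlatMor12.FreeLocusBC.free_stalk_pullback ξ F (i₀ z₀) hFξ
        exact isFlatOverAt_id W (i₀ z₀) ‹_›)
      let U : St F (ξ (i₀ z₀)) →ₗ[A] St W (i₀ z₀) :=
        { toFun := unitSt ξ (i₀ z₀) F, map_add' := map_add _, map_smul' := hsm }
      have hUφ : U (stk φ _ e) = 0 := by
        show unitSt ξ _ F (stk φ _ e) = 0
        rw [← unitSt_natural, hφξ, stk_zero]
      have hUy : a • U y ∈ (J • ⊤ : Submodule A (St W (i₀ z₀))) := by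
        have h1 : U (stk φ _ e - a • y) ∈ (J • ⊤ : Submodule A (St W (i₀ z₀))) := map_smul_top_le U J hy
        rwa [map_sub, hUφ, map_smul, zero_sub, neg_mem_iff] at h1
      have h2 := mem_of_smul_mem J M a hcol hUy
      rw [← LinearMap.range_eq_top.2 (show Surjective U from unitSt_surjective ξ _ F), ← Submodule.map_top,
        ← Submodule.map_smul''] at h2
      obtain ⟨m, hm, hmy⟩ := h2
      refine ⟨y - m, by rw [sub_sub_cancel]; exact hm, ?_⟩
      refine Submodule.smul_mono_left (fun r hr => ?_) ((unitSt_eq_zero_iff ξ (i₀ z₀) F (y - m)).1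
        (show U (y - m) = 0 by rw [map_sub, hmy, sub_self]))
      rw [Scheme.Hom.stalkMap_comp, RingHom.mem_ker, CommRingCat.hom_comp, RingHom.comp_apply, RingHom.mem_ker.1 hr,
        map_zero]
    obtain ⟨y', h1, h2⟩ := hG y e hy
    change St F (u (ξ₀ z₀)) at y'
    have e1 : unitSt u (ξ₀ z₀) F y = unitSt u (ξ₀ z₀) F y' := by
      rw [← sub_eq_zero, ← map_sub, unitSt_eq_zero_iff_base p hcs hu, hck]
      exact h1
    rw [e1]
    refine Submodule.smul_induction_on h2 (fun r hr t _ => ?_) fun a b ha hb => by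
      rw [map_add, map_add, ha, hb, add_zero]
    rw [unitSt_smul, unitSt_smul]
    have hr0 : (ξ₀.stalkMap z₀).hom ((u.stalkMap (ξ₀ z₀)).hom r) = 0 := by
      have := RingHom.mem_ker.1 hr
      rwa [Scheme.Hom.stalkMap_comp, CommRingCat.hom_comp, RingHom.comp_apply] at this
    rw [hr0, zero_smul]
  have hψ0 := hfib ψ hsec
  intro x hx e
  obtain ⟨y, hy, hy'⟩ := hrel x hx e
  obtain ⟨z, rfl⟩ := (eq_of_mem_range_u p M hcs hck hu _).2 hx
  letI := baseMod p F (u z)
  have h0 : InI p M F (u z) y := by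
    rw [← hη₀, ← hy', show ψ' = 0 from (adj.homEquiv _ _).symm.injective (hψ0.trans ?_), stk_zero]
    exact (show (adj.homEquiv _ _).symm 0 = 0 by rw [adj.homEquiv_counit, Functor.map_zero, zero_comp]).symm
  have h1 : a • y ∈ (J • ⊤ : Submodule A (St F (u z))) :=
    Submodule.smul_induction_on h0
      (fun r hr t _ => by rw [smul_smul]; exact Submodule.smul_mem_smul (haM r hr) Submodule.mem_top)
      fun b d hb hd => by rw [smul_add]; exact Submodule.add_mem _ hb hd
  have := Submodule.add_mem _ hy h1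
  rwa [show stk φ (u z) e - rho p (u z) a • y + a • y = stk φ (u z) e from sub_add_cancel _ _] at this

include hcs hck hu hs hξ hξ₀ in
theorem stk_eq_zero (hF : FlatMod.IsFlatOver p F) (hFξ : Module.Free (X.presheaf.stalk (ξ s)) (St F (ξ s)))
    (hfib : ∀ ψ : (Scheme.Modules.pullback u).obj E ⟶ (Scheme.Modules.pullback u).obj F,
      (Scheme.Modules.pullback ξ₀).map ψ = 0 → ψ = 0)
    (hφξ : (Scheme.Modules.pullback ξ).map φ = 0) [IsNoetherianRing A] (x : X) (hx : (p x).asIdeal = M)
    [IsNoetherianRing (X.presheaf.stalk x)] [Module.Finite (X.presheaf.stalk x) (St F x)] (e : St E x) :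
    stk φ x e = 0 := by
  classical
  have key : ∀ k, ∀ J : Ideal A, M ^ k ≤ J → ∀ x, (p x).asIdeal = M → ∀ e, InI p J F x (stk φ x e) := by
    intro k J
    induction J using WellFoundedGT.induction with
    | ind J ih =>
      intro hk x hx e
      by_cases hJt : J = ⊤
      · subst hJt
        letI := baseMod p F x
        show _ ∈ (_ • ⊤ : Submodule A _)
        rw [Submodule.top_smul]
        exact Submodule.mem_top
      have hJM : J ≤ M := by
        obtain ⟨m, hm, hJm⟩ := Ideal.exists_le_maximal J hJt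
        rwa [hMm.eq_of_le hm.ne_top (hm.isPrime.le_of_pow_le (hk.trans hJm))]
      have hex : ∃ i, M ^ i ≤ J := ⟨k, hk⟩
      obtain ⟨i, hi⟩ : ∃ i, Nat.find hex = i + 1 := Nat.exists_eq_succ_of_ne_zero fun h => hJt (by
        have := Nat.find_spec hex
        rwa [h, pow_zero, Ideal.one_eq_top, top_le_iff] at this)
      have h1 : ¬ M ^ i ≤ J := Nat.find_min hex (by omega)
      obtain ⟨a, hai, haJ⟩ := SetLike.not_le_iff_exists.1 h1
      have haM : ∀ b ∈ M, a * b ∈ J := fun b hb => by
        refine (hi ▸ Nat.find_spec hex) ?_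
        rw [pow_succ]
        exact Ideal.mul_mem_mul hai hb
      refine step p M hcs hck hu s hs ξ hξ ξ₀ hξ₀ φ hF hFξ hfib hφξ J hk hJM haJ haM
        (fun x hx e => ih _ ?_ (hk.trans le_sup_left) x hx e) x hx e
      exact lt_of_le_of_ne le_sup_left fun h => haJ (h ▸ Ideal.mem_sup_right (Ideal.mem_span_singleton_self a))
  have hI : M.map (rho p x) ≤ IsLocalRing.maximalIdeal (X.presheaf.stalk x) := by
    rw [Ideal.map_le_iff_le_comap]
    intro b hb
    show rho p x b ∈ IsLocalRing.maximalIdeal _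
    rw [show rho p x b = (p.stalkMap x).hom ((StructureSheaf.toStalk A (p x)).hom b) from
      ModelLib7.germ_toGlobal p x b]
    refine map_nonunit (p.stalkMap x).hom _ ?_
    letI : Algebra A ((Spec (CommRingCat.of A)).presheaf.stalk (p x)) :=
      (StructureSheaf.toStalk A (p x)).hom.toAlgebra
    haveI : IsLocalization (p x).asIdeal.primeCompl ((Spec (CommRingCat.of A)).presheaf.stalk (p x)) :=
      StructureSheaf.IsLocalization.to_stalk A (p x)
    exact (IsLocalization.AtPrime.to_map_mem_maximal_iff _ (p x).asIdeal b).2 (hx.ge hb)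
  have hkr : ⨅ k : ℕ, (M.map (rho p x)) ^ k • (⊤ : Submodule (X.presheaf.stalk x) (St F x)) = ⊥ :=
    Ideal.iInf_pow_smul_eq_bot_of_isLocalRing _ (fun h => IsLocalRing.maximalIdeal.isMaximal _ |>.ne_top
      (top_le_iff.1 (h.ge.trans hI)))
  rw [← Submodule.mem_bot (X.presheaf.stalk x), ← hkr, Submodule.mem_iInf]
  intro k
  rw [← Ideal.map_pow]
  exact (mem_map_smul_iff p F x (M ^ k) _).2 (key k _ le_rfl x hx e)

end Groth.Agent.EulerLib.ThickenVanish

end
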